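import Mathlib
import Cfsg.Prelude.Def_Involutions
import Cfsg.Prelude.Def_CaseTheorems
import Cfsg.Agent.TwoFusion.StronglyEmbeddedBasic

/-!
# Actions in which every involution fixes exactly one point

`UniqueFix G Ω`: every involution of `G` fixes exactly one point of `Ω`. This is what a strongly
embedded subgroup gives on the cosets; unlike strong embedding it passes to all subgroups. If an
involution of `G` fixes `x` and `G` moves `x`, the stabilizer of `x` is strongly embedded.
-/

set_option autoImplicit false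

namespace Cfsg.Agent.StrongEmb.Basic

open Cfsg Cfsg.Agent.TwoFusion.StronglyEmbeddedBasic MulAction

/-- Every involution of `G` fixes exactly one point of `Ω`. -/
def UniqueFix (G Ω : Type*) [Group G] [MulAction G Ω] : Prop :=
  ∀ t : G, orderOf t = 2 → ∃! x : Ω, t • x = x

section

variable {G Ω : Type*} [Group G] [MulAction G Ω]

theorem uniqueFix_quotient [Finite G] {H : Subgroup G} (hH : IsStronglyEmbedded H) :
    UniqueFix G (G ⧸ H) := by
  intro t ht
  obtain ⟨x, hx⟩ := exists_smul_eq hH ht
  exact ⟨x, hx, fun y hy => eq_of_smul_eq hH ht hy hx⟩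

theorem UniqueFix.subgroup (h : UniqueFix G Ω) (K : Subgroup G) : UniqueFix K Ω := by
  intro t ht
  have : orderOf (t : G) = 2 := by rw [Subgroup.orderOf_coe]; exact ht
  exact h t this

theorem UniqueFix.eq (h : UniqueFix G Ω) {t : G} (ht : orderOf t = 2) {x y : Ω} (hx : t • x = x)
    (hy : t • y = y) : x = y := (h t ht).unique hx hy

theorem UniqueFix.exists (h : UniqueFix G Ω) {t : G} (ht : orderOf t = 2) : ∃ x : Ω, t • x = x :=
  (h t ht).exists

/-- Whatever commutes with an involution fixes its fixed point. -/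
theorem UniqueFix.fix_of_commute (h : UniqueFix G Ω) {t : G} (ht : orderOf t = 2) {x : Ω}
    (hx : t • x = x) {g : G} (hg : Commute g t) : g • x = x := by
  refine h.eq ht ?_ hx
  rw [← mul_smul, ← hg.eq, mul_smul, hx]

/-- `g` moves the fixed point of `t` to that of `g * t * g⁻¹`. -/
theorem UniqueFix.smul_eq_of_conj (h : UniqueFix G Ω) {s t g : G} (ht : orderOf t = 2) {x y : Ω}
    (hx : s • x = x) (hy : t • y = y) (hg : g * s * g⁻¹ = t) : g • x = y := by
  refine h.eq ht ?_ hy
  rw [← hg, mul_smul, mul_smul, inv_smul_smul, hx]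

/-- A subgroup fixing two points has odd order. -/
theorem UniqueFix.odd_of_fixes_two [Finite G] (h : UniqueFix G Ω) {x y : Ω} (hxy : x ≠ y)
    (D : Subgroup G) (hx : ∀ d ∈ D, d • x = x) (hy : ∀ d ∈ D, d • y = y) :
    Odd (Nat.card D) := by
  by_contra hodd
  rw [Nat.not_odd_iff_even] at hodd
  obtain ⟨⟨t, ht⟩, h2⟩ := exists_prime_orderOf_dvd_card' (G := D) 2 (even_iff_two_dvd.mp hodd)
  rw [Subgroup.orderOf_mk] at h2
  exact hxy (h.eq h2 (hx t ht) (hy t ht))

theorem mem_map_conj_stabilizer {g k : G} {x : Ω} :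
    k ∈ (stabilizer G x).map (MulAut.conj g).toMonoidHom ↔ k • (g • x) = g • x := by
  constructor
  · rintro ⟨u, hu, rfl⟩
    simp only [MulEquiv.coe_toMonoidHom, MulAut.conj_apply, mul_smul, inv_smul_smul]
    rw [mem_stabilizer_iff.mp hu]
  · intro hk
    refine ⟨g⁻¹ * k * g, ?_, by simp [mul_assoc]⟩
    show g⁻¹ * k * g ∈ stabilizer G x
    rw [mem_stabilizer_iff, mul_smul, mul_smul, hk, inv_smul_smul]

/-- If an involution fixes `x` and `G` moves `x`, the stabilizer of `x` is strongly embedded. -/
theorem UniqueFix.stronglyEmbedded [Finite G] (h : UniqueFix G Ω) {t : G} {x : Ω}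
    (ht : orderOf t = 2) (hx : t • x = x) {g : G} (hg : g • x ≠ x) :
    IsStronglyEmbedded (stabilizer G x) := by
  refine ⟨fun htop => hg ?_, ?_, fun k hk => ?_⟩
  · have : g ∈ stabilizer G x := by rw [htop]; trivial
    exact this
  · rw [← Nat.not_odd_iff_even]
    exact not_odd_of_mem _ t hx ht
  · have hne : x ≠ k • x := fun e => hk e.symm
    refine h.odd_of_fixes_two hne _ (fun d hd => ?_) (fun d hd => ?_)
    · exact hd.1
    · exact mem_map_conj_stabilizer.mp hd.2

theorem stabilizer_subgroup_eq (K : Subgroup G) (x : Ω) :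
    stabilizer K x = (stabilizer G x).subgroupOf K := by
  ext g
  rw [Subgroup.mem_subgroupOf, mem_stabilizer_iff, mem_stabilizer_iff]
  rfl

theorem UniqueFix.stronglyEmbedded_subgroup [Finite G] (h : UniqueFix G Ω) {K : Subgroup G}
    {t : G} (htK : t ∈ K) (ht : orderOf t = 2) {x : Ω} (hx : t • x = x) {g : G} (hgK : g ∈ K)
    (hg : g • x ≠ x) : IsStronglyEmbedded ((stabilizer G x).subgroupOf K) := by
  rw [← stabilizer_subgroup_eq]
  exact (h.subgroup K).stronglyEmbedded (t := ⟨t, htK⟩) (g := ⟨g, hgK⟩)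
    (by rw [Subgroup.orderOf_mk]; exact ht) hx hg

/-- If all involutions of `G` (and there is one) fix `x`, then `G` fixes `x`. -/
theorem UniqueFix.fix_all (h : UniqueFix G Ω) {x : Ω} (hx : ∀ t : G, orderOf t = 2 → t • x = x)
    {t : G} (ht : orderOf t = 2) (g : G) : g • x = x :=
  h.smul_eq_of_conj (s := t) (t := g * t * g⁻¹) (by rw [orderOf_conj]; exact ht) (hx t ht)
    (hx _ (by rw [orderOf_conj]; exact ht)) rfl

/-- Involutions with distinct fixed points have product of odd order. -/
theorem UniqueFix.odd_orderOf_mul [Finite G] (h : UniqueFix G Ω) {s t : G} (hs : orderOf s = 2)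
    (ht : orderOf t = 2) {x y : Ω} (hxy : x ≠ y) (hx : s • x = x) (hy : t • y = y) :
    Odd (orderOf (s * t)) := by
  by_contra hodd
  obtain ⟨z, -, hz2, hza, hzb⟩ := exists_commuting_involution s t hs ht (orderOf_pos _) hodd
  exact hxy (h.eq hz2 (h.fix_of_commute hs hx hza) (h.fix_of_commute ht hy hzb))

/-- Involutions with distinct fixed points are interchanged by an involution in the dihedral
group they generate. -/
theorem UniqueFix.exists_swap [Finite G] (h : UniqueFix G Ω) {s t : G} (hs : orderOf s = 2)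
    (ht : orderOf t = 2) {x y : Ω} (hxy : x ≠ y) (hx : s • x = x) (hy : t • y = y) :
    ∃ j ∈ Subgroup.closure ({s, t} : Set G), orderOf j = 2 ∧ j * s * j⁻¹ = t ∧ j * t * j⁻¹ = s ∧
      j • x = y ∧ j • y = x := by
  obtain ⟨j, hjm, hj2, hjs, hjt⟩ :=
    TwoFusion.StronglyEmbeddedBasic.exists_swap s t hs ht (h.odd_orderOf_mul hs ht hxy hx hy)
  exact ⟨j, hjm, hj2, hjs, hjt, h.smul_eq_of_conj ht hx hy hjs, h.smul_eq_of_conj hs hy hx hjt⟩

/-- If `G` moves the fixed point of some involution, there is an involution fixing another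
point. -/
theorem UniqueFix.exists_other (h : UniqueFix G Ω) {t : G} {x : Ω} (ht : orderOf t = 2)
    (hx : t • x = x) {g : G} (hg : g • x ≠ x) : ∃ s : G, orderOf s = 2 ∧ s • x ≠ x := by
  refine ⟨g * t * g⁻¹, by rw [orderOf_conj]; exact ht, fun hc => hg ?_⟩
  exact h.smul_eq_of_conj (s := t) (t := g * t * g⁻¹) (by rw [orderOf_conj]; exact ht) hx hc rfl

/-- If `G` moves the fixed point of an involution, all involutions are conjugate. -/
theorem UniqueFix.isConj [Finite G] (h : UniqueFix G Ω) {t : G} {x : Ω} (ht : orderOf t = 2)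
    (hx : t • x = x) {g : G} (hg : g • x ≠ x) {a b : G} (ha : orderOf a = 2)
    (hb : orderOf b = 2) : IsConj a b :=
  isConj_of_involutions (h.stronglyEmbedded ht hx hg) a b ha hb

/-- If `G` moves the fixed point of an involution, the fixed points of involutions form one
orbit. -/
theorem UniqueFix.exists_smul_eq [Finite G] (h : UniqueFix G Ω) {t : G} {x : Ω}
    (ht : orderOf t = 2) (hx : t • x = x) {g : G} (hg : g • x ≠ x) {a : G} (ha : orderOf a = 2)
    {y : Ω} (hy : a • y = y) : ∃ k : G, k • x = y := by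
  obtain ⟨k, hk⟩ := isConj_iff.mp (h.isConj ht hx hg ht ha)
  exact ⟨k, h.smul_eq_of_conj ha hx hy hk⟩

/-- Two involutions `v`, `w` interchanging `x` and `y` (distinct): `v * w` fixes both points. -/
theorem smul_of_involution {v : G} (hv : orderOf v = 2) {x y : Ω} (h : v • x = y) : v • y = x := by
  rw [← h, ← mul_smul, mul_self_of_orderOf hv, one_smul]

end

end Cfsg.Agent.StrongEmb.Basic
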