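import Mathlib
import Cfsg.Prelude.Def_Involutions
import Cfsg.Prelude.Def_CaseTheorems
import Cfsg.Agent.Lib.Cores
import Cfsg.Agent.Lib.KleinGen
import Cfsg.Agent.ClassicalGeometry.KleinCount
import Cfsg.Agent.Solvable.UniqueOrderP
import Cfsg.Agent.S0225
import Cfsg.Agent.StrongEmb.Basic

/-!
# The 2-rank in the theory of strongly embedded subgroups

`CommPair G`: `G` has two distinct commuting involutions. Without them `G` has an involution
central modulo `O(G)`; with them every invariant odd order subgroup fixes the fixed point.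
-/

set_option autoImplicit false

namespace Cfsg.Agent.StrongEmb.TwoRank

open Cfsg Cfsg.Agent.TwoFusion.StronglyEmbeddedBasic MulAction
open Cfsg.Agent.StrongEmb.Basic

/-- `G` has two distinct commuting involutions, i.e. `2`-rank at least two. -/
def CommPair (G : Type*) [Group G] : Prop :=
  ∃ x y : G, orderOf x = 2 ∧ orderOf y = 2 ∧ x ≠ y ∧ Commute x y

section CommPair

variable {G : Type*} [Group G]

theorem commPair_of_kleinFour {E : Subgroup G} (hE : IsKleinFour E) : CommPair G := by
  obtain ⟨a, b, h, -⟩ :=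
    Cfsg.Agent.ClassicalGeometry.KleinCount.exists_commInv_of_isKleinFour hE
  exact ⟨a, b, orderOf_eq_two_of_mul_self h.xx h.hx, orderOf_eq_two_of_mul_self h.yy h.hy, h.hxy,
    h.comm⟩

theorem CommPair.exists_kleinFour (h : CommPair G) : ∃ E : Subgroup G, IsKleinFour E := by
  obtain ⟨x, y, hx, hy, hne, hc⟩ := h
  have h' : Cfsg.Agent.ClassicalGeometry.KleinCount.CommInv x y :=
    ⟨fun h => by rw [h, orderOf_one] at hx; exact absurd hx (by norm_num),
     fun h => by rw [h, orderOf_one] at hy; exact absurd hy (by norm_num), hne,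
     mul_self_of_orderOf hx, mul_self_of_orderOf hy, hc⟩
  exact ⟨_, h'.isKleinFour_four⟩

theorem commPair_iff : CommPair G ↔ ∃ E : Subgroup G, IsKleinFour E :=
  ⟨fun h => h.exists_kleinFour, fun ⟨_, hE⟩ => commPair_of_kleinFour hE⟩

theorem CommPair.exists_sq (h : CommPair G) :
    ∃ x y : G, x ≠ 1 ∧ y ≠ 1 ∧ x ≠ y ∧ x * x = 1 ∧ y * y = 1 ∧ x * y = y * x := by
  obtain ⟨x, y, hx, hy, hne, hc⟩ := h
  exact ⟨x, y, fun h => by rw [h, orderOf_one] at hx; exact absurd hx (by norm_num),
     fun h => by rw [h, orderOf_one] at hy; exact absurd hy (by norm_num), hne,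
     mul_self_of_orderOf hx, mul_self_of_orderOf hy, hc⟩

theorem CommPair.map_injective {K : Type*} [Group K] (f : G →* K) (hf : Function.Injective f)
    (h : CommPair G) : CommPair K := by
  obtain ⟨x, y, hx, hy, hne, hc⟩ := h
  exact ⟨f x, f y, by rw [orderOf_injective f hf, hx], by rw [orderOf_injective f hf, hy],
    fun h => hne (hf h), hc.map f⟩

theorem CommPair.of_subgroup {K : Subgroup G} (h : CommPair K) : CommPair G :=
  h.map_injective K.subtype K.subtype_injective

theorem CommPair.even (h : CommPair G) [Finite G] : Even (Nat.card G) := by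
  obtain ⟨x, -, hx, -⟩ := h
  rw [even_iff_two_dvd, ← hx]
  exact orderOf_dvd_natCard x

/-- `CommPair` in a subgroup, elementwise. -/
theorem commPair_subgroup {K : Subgroup G} {x y : G} (hxK : x ∈ K) (hyK : y ∈ K)
    (hx : orderOf x = 2) (hy : orderOf y = 2) (hne : x ≠ y) (hc : Commute x y) : CommPair K :=
  ⟨⟨x, hxK⟩, ⟨y, hyK⟩, by rw [Subgroup.orderOf_mk, hx], by rw [Subgroup.orderOf_mk, hy],
    fun h => hne (congrArg Subtype.val h), Subtype.ext hc⟩

/-- Involutions of `G ⧸ N` lift to involutions for `N` of odd order; commuting pairs lift to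
commuting pairs. -/
theorem CommPair.of_quotient [Finite G] {N : Subgroup G} [N.Normal] (hN : Odd (Nat.card N))
    (h : CommPair (G ⧸ N)) : CommPair G := by
  obtain ⟨x, y, hx, hy, hne, hc⟩ := h
  have hp : Fact (Nat.Prime 2) := ⟨Nat.prime_two⟩
  -- `⟨x, y⟩` is a `2`-group
  have hX : IsPGroup 2 (Subgroup.zpowers x) :=
    IsPGroup.of_card (n := 1) (by rw [Nat.card_zpowers, hx, pow_one])
  have hY : IsPGroup 2 (Subgroup.zpowers y) :=
    IsPGroup.of_card (n := 1) (by rw [Nat.card_zpowers, hy, pow_one])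
  have hn : Subgroup.zpowers x ≤ Subgroup.normalizer (Subgroup.zpowers y : Set (G ⧸ N)) := by
    rw [Subgroup.zpowers_le, Subgroup.mem_normalizer_iff]
    intro k
    have hk : ∀ k : G ⧸ N, k ∈ Subgroup.zpowers y → x * k * x⁻¹ = k := by
      rintro k ⟨n, rfl⟩
      have : Commute x (y ^ n) := hc.zpow_right n
      simp only
      rw [this.eq]; group
    constructor
    · intro h1
      rw [hk k h1]; exact h1
    · intro h1
      obtain ⟨n, hn⟩ := h1
      refine ⟨n, ?_⟩
      have h2 : Commute x (y ^ n) := hc.zpow_right n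
      have h3 : x * k * x⁻¹ = y ^ n := hn.symm
      have h4 : k = x⁻¹ * (y ^ n) * x := by rw [← h3]; group
      rw [h4, mul_assoc, ← h2.eq]
      simp
  have hXY : IsPGroup 2 (Subgroup.zpowers x ⊔ Subgroup.zpowers y : Subgroup (G ⧸ N)) :=
    IsPGroup.to_sup_of_normal_right' hX hY hn
  obtain ⟨P, hP⟩ := hXY.exists_le_sylow
  obtain ⟨S, hS⟩ := Sylow.mapSurjective_surjective (QuotientGroup.mk'_surjective N) 2 P
  have hSP : (P : Subgroup (G ⧸ N)) = (S : Subgroup G).map (QuotientGroup.mk' N) := by
    rw [← hS]; rfl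
  have hinj : ∀ s ∈ (S : Subgroup G), QuotientGroup.mk' N s = 1 → s = 1 := by
    intro s hs h1
    have hsN : s ∈ N := by
      rw [← QuotientGroup.ker_mk' N]; exact h1
    by_contra hs1
    -- `s` has order a nontrivial power of two
    obtain ⟨k, hk⟩ := IsPGroup.iff_orderOf.mp S.isPGroup' ⟨s, hs⟩
    rw [Subgroup.orderOf_mk] at hk
    have h2 : orderOf s ∣ Nat.card N := N.orderOf_dvd_natCard hsN
    have h3 : Nat.Coprime (orderOf s) (Nat.card N) := by
      rw [hk]; exact Nat.Coprime.pow_left k (Nat.coprime_two_left.mpr hN)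
    have h4 : orderOf s = 1 := Nat.Coprime.eq_one_of_dvd h3 h2
    exact hs1 (orderOf_eq_one_iff.mp h4)
  have hxP : x ∈ (P : Subgroup (G ⧸ N)) :=
    hP (Subgroup.mem_sup_left (Subgroup.mem_zpowers x))
  have hyP : y ∈ (P : Subgroup (G ⧸ N)) :=
    hP (Subgroup.mem_sup_right (Subgroup.mem_zpowers y))
  rw [hSP] at hxP hyP
  obtain ⟨a, haS, rfl⟩ := hxP
  obtain ⟨b, hbS, rfl⟩ := hyP
  have ha1 : a ≠ 1 := fun h => by
    rw [h, map_one, orderOf_one] at hx; exact absurd hx (by norm_num)
  have hb1 : b ≠ 1 := fun h => by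
    rw [h, map_one, orderOf_one] at hy; exact absurd hy (by norm_num)
  have haa : a * a = 1 := hinj _ (mul_mem haS haS) (by rw [map_mul, mul_self_of_orderOf hx])
  have hbb : b * b = 1 := hinj _ (mul_mem hbS hbS) (by rw [map_mul, mul_self_of_orderOf hy])
  have hab : a * b * (b * a)⁻¹ = 1 := by
    refine hinj _ (mul_mem (mul_mem haS hbS) (inv_mem (mul_mem hbS haS))) ?_
    rw [map_mul, map_inv, map_mul, map_mul, hc.eq, mul_inv_cancel]
  exact ⟨a, b, orderOf_eq_two_of_mul_self haa ha1, orderOf_eq_two_of_mul_self hbb hb1,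
    fun h => hne (by rw [h]), mul_inv_eq_one.mp hab⟩

theorem CommPair.quotient [Finite G] {N : Subgroup G} [N.Normal] (hN : Odd (Nat.card N))
    (h : CommPair G) : CommPair (G ⧸ N) := by
  obtain ⟨x, y, hx, hy, hne, hc⟩ := h
  have key : ∀ z : G, orderOf z = 2 → orderOf (QuotientGroup.mk' N z) = 2 := by
    intro z hz
    apply orderOf_eq_two_of_mul_self
    · rw [← map_mul, mul_self_of_orderOf hz, map_one]
    · intro h1
      have : z ∈ N := by rw [← QuotientGroup.ker_mk' N]; exact h1
      exact not_odd_of_mem N z this hz hN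
  refine ⟨QuotientGroup.mk' N x, QuotientGroup.mk' N y, key x hx, key y hy, fun h1 => ?_,
    hc.map _⟩
  have h2 : x⁻¹ * y ∈ N := by
    rw [← QuotientGroup.ker_mk' N, MonoidHom.mem_ker, map_mul, map_inv, h1, inv_mul_cancel]
  have h3 : x⁻¹ * y = x * y := by rw [inv_eq_self_of_orderOf hx]
  rw [h3] at h2
  refine not_odd_of_mem N (x * y) h2 ?_ hN
  apply orderOf_eq_two_of_mul_self
  · rw [hc.symm.mul_mul_mul_comm, mul_self_of_orderOf hx, mul_self_of_orderOf hy, one_mul]
  · intro h4
    apply hne
    rw [← inv_eq_self_of_orderOf hy]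
    exact eq_inv_of_mul_eq_one_left h4

theorem commPair_quotient_iff [Finite G] {N : Subgroup G} [N.Normal] (hN : Odd (Nat.card N)) :
    CommPair (G ⧸ N) ↔ CommPair G := ⟨fun h => h.of_quotient hN, fun h => h.quotient hN⟩

theorem odd_oddCore (G : Type*) [Group G] [Finite G] : Odd (Nat.card (oddCore G)) :=
  Nat.coprime_two_right.mp (Cfsg.Agent.Lib.Cores.pPrimeCore_coprime 2)

theorem le_oddCore {N : Subgroup G} (hN : N.Normal) (h : Odd (Nat.card N)) : N ≤ oddCore G :=
  Cfsg.Agent.Lib.Cores.le_pPrimeCore hN h.coprime_two_right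

/-! ### 2-rank one -/

/-- In a group of even order without commuting pairs of involutions every involution is central
modulo `O(G)`. -/
theorem mem_oddCore_of_not_commPair [Finite G] (hr : ¬ CommPair G) {z : G} (hz : orderOf z = 2)
    (g : G) : z * g * z⁻¹ * g⁻¹ ∈ oddCore G := by
  have heven : Even (Nat.card G) := by
    rw [even_iff_two_dvd, ← hz]; exact orderOf_dvd_natCard z
  obtain ⟨c, hc, N, hN, hodd, hcomm⟩ := Cfsg.Agent.S0225.result heven
    (fun E hE => hr (commPair_of_kleinFour hE))
  have hNle := le_oddCore hN hodd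
  have hcodd := odd_oddCore G
  have hcen : ∀ g : G, Commute (QuotientGroup.mk' (oddCore G) c) (QuotientGroup.mk' (oddCore G) g) := by
    intro g
    have h1 : QuotientGroup.mk' (oddCore G) (c * g * c⁻¹ * g⁻¹) = 1 := by
      rw [← MonoidHom.mem_ker, QuotientGroup.ker_mk']; exact hNle (hcomm g)
    rw [map_mul, map_mul, map_mul, map_inv, map_inv] at h1
    have h2 := mul_inv_eq_one.mp h1
    have h3 := mul_inv_eq_iff_eq_mul.mp h2
    exact h3
  -- `z` and `c` agree modulo `O(G)`
  have key : ∀ w : G, orderOf w = 2 → orderOf (QuotientGroup.mk' (oddCore G) w) = 2 := by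
    intro w hw
    apply orderOf_eq_two_of_mul_self
    · rw [← map_mul, mul_self_of_orderOf hw, map_one]
    · intro h1
      have : w ∈ oddCore G := by rw [← QuotientGroup.ker_mk' (oddCore G)]; exact h1
      exact not_odd_of_mem _ w this hw hcodd
  have heq : QuotientGroup.mk' (oddCore G) c = QuotientGroup.mk' (oddCore G) z := by
    by_contra hne
    exact hr (CommPair.of_quotient hcodd ⟨_, _, key c hc, key z hz, hne, hcen z⟩)
  rw [← QuotientGroup.ker_mk' (oddCore G), MonoidHom.mem_ker, map_mul, map_mul, map_mul, map_inv,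
    map_inv, ← heq, (hcen g).eq]
  group

/-- In a group without commuting pairs of involutions two involutions agree modulo `O(G)`. -/
theorem mul_mem_oddCore_of_not_commPair [Finite G] (hr : ¬ CommPair G) {z w : G}
    (hz : orderOf z = 2) (hw : orderOf w = 2) : z * w ∈ oddCore G := by
  have hcodd := odd_oddCore G
  by_contra hne
  have key : ∀ w : G, orderOf w = 2 → orderOf (QuotientGroup.mk' (oddCore G) w) = 2 := by
    intro w hw
    apply orderOf_eq_two_of_mul_self
    · rw [← map_mul, mul_self_of_orderOf hw, map_one]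
    · intro h1
      have : w ∈ oddCore G := by rw [← QuotientGroup.ker_mk' (oddCore G)]; exact h1
      exact not_odd_of_mem _ w this hw hcodd
  refine hr (CommPair.of_quotient hcodd ⟨_, _, key z hz, key w hw, fun h => hne ?_, ?_⟩)
  · rw [← QuotientGroup.ker_mk' (oddCore G), MonoidHom.mem_ker, map_mul, h]
    exact mul_self_of_orderOf (key w hw)
  · have h1 := mem_oddCore_of_not_commPair hr hz w
    rw [← QuotientGroup.ker_mk' (oddCore G), MonoidHom.mem_ker, map_mul, map_mul, map_mul,
      map_inv, map_inv] at h1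
    exact mul_inv_eq_iff_eq_mul.mp (mul_inv_eq_one.mp h1)

/-- In a group without commuting pairs of involutions all involutions are conjugate under
`O(G)`. -/
theorem exists_conj_of_not_commPair [Finite G] (hr : ¬ CommPair G) {z w : G}
    (hz : orderOf z = 2) (hw : orderOf w = 2) : ∃ n ∈ oddCore G, n * z * n⁻¹ = w := by
  have h1 := mul_mem_oddCore_of_not_commPair hr hz hw
  have hodd : Odd (orderOf (z * w)) := by
    obtain ⟨k, hk⟩ := (oddCore G).orderOf_dvd_natCard h1
    have h2 := odd_oddCore G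
    rw [hk] at h2
    exact (Nat.odd_mul.mp h2).1
  obtain ⟨j, -, hj2, hjz, -⟩ := exists_swap z w hz hw hodd
  refine ⟨j * z, mul_mem_oddCore_of_not_commPair hr hj2 hz, ?_⟩
  have : j * z * z * (j * z)⁻¹ = j * z * j⁻¹ := by group
  rw [this, hjz]

/-- In a group without commuting pairs of involutions `G = O(G) C(z)`. -/
theorem exists_mul_of_not_commPair [Finite G] (hr : ¬ CommPair G) {z : G} (hz : orderOf z = 2)
    (g : G) : ∃ n ∈ oddCore G, ∃ c : G, Commute c z ∧ g = n * c := by
  obtain ⟨n, hn, hnz⟩ := exists_conj_of_not_commPair hr hz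
    (w := g * z * g⁻¹) (by rw [orderOf_conj]; exact hz)
  refine ⟨n, hn, n⁻¹ * g, ?_, by group⟩
  have : z = n⁻¹ * (g * z * g⁻¹) * n := by rw [← hnz]; group
  show n⁻¹ * g * z = z * (n⁻¹ * g)
  calc n⁻¹ * g * z = n⁻¹ * (g * z * g⁻¹) * n * (n⁻¹ * g) := by group
    _ = z * (n⁻¹ * g) := by rw [← this]

/-- Sylow 2-subgroups of a group without commuting pairs of involutions. -/
theorem sylow_of_not_commPair [Finite G] (hr : ¬ CommPair G) (S : Sylow 2 G) :
    IsCyclic S ∨ ∃ m : ℕ, 1 ≤ m ∧ Nonempty ((S : Subgroup G) ≃* QuaternionGroup (2 ^ m)) := by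
  have hp : Fact (Nat.Prime 2) := ⟨Nat.prime_two⟩
  have hU : Cfsg.Agent.Solvable.UniqueOrderP.UniqueP 2 (S : Subgroup G) := by
    intro x y hx hx2 hy2
    by_cases hy : y = 1
    · rw [hy]; exact one_mem _
    have hox : orderOf x = 2 := orderOf_eq_prime hx2 hx
    have hoy : orderOf y = 2 := orderOf_eq_prime hy2 hy
    -- an involution in the centre of `S`
    have hSn : Nontrivial (S : Subgroup G) := ⟨⟨x, 1, hx⟩⟩
    have hcn : Nontrivial (Subgroup.center (S : Subgroup G)) := S.isPGroup'.center_nontrivial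
    obtain ⟨z, hz⟩ : ∃ z : (Subgroup.center (S : Subgroup G)), orderOf z = 2 := by
      have h2 : 2 ∣ Nat.card (Subgroup.center (S : Subgroup G)) := by
        obtain ⟨n, hn⟩ := IsPGroup.iff_card.mp
          (S.isPGroup'.to_subgroup (Subgroup.center (S : Subgroup G)))
        have h3 : 1 < Nat.card (Subgroup.center (S : Subgroup G)) := Finite.one_lt_card
        rw [hn] at h3 ⊢
        apply dvd_pow_self
        rintro rfl
        simp at h3
      exact exists_prime_orderOf_dvd_card' 2 h2
    have hz' : orderOf (z : (S : Subgroup G)) = 2 := by rw [Subgroup.orderOf_coe, hz]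
    have hzz : orderOf ((z : (S : Subgroup G)) : G) = 2 := by rw [Subgroup.orderOf_coe, hz']
    have key : ∀ w : (S : Subgroup G), orderOf w = 2 → w = z := by
      intro w hw
      by_contra hne
      refine hr ⟨(w : G), ((z : (S : Subgroup G)) : G), by rw [Subgroup.orderOf_coe, hw], hzz,
        fun h => hne (Subtype.ext h), ?_⟩
      have := Subgroup.mem_center_iff.mp z.2 w
      exact congrArg Subtype.val this
    rw [key y hoy, ← key x hox]
    exact Subgroup.mem_zpowers x
  rcases Cfsg.Agent.Solvable.UniqueOrderP.cyclic_or_quaternion S.isPGroup' hU with h | ⟨-, m, hm, h⟩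
  · exact Or.inl h
  · exact Or.inr ⟨m, by omega, h⟩

end CommPair

section Action

variable {G Ω : Type*} [Group G] [MulAction G Ω]

/-- An odd order subgroup normalised by two distinct commuting involutions fixes their common
fixed point. -/
theorem le_stabilizer_of_commute [Finite G] (h : UniqueFix G Ω) {s t : G} (hs : orderOf s = 2)
    (ht : orderOf t = 2) (hne : s ≠ t) (hc : Commute s t) {x : Ω} (hx : s • x = x)
    {K : Subgroup G} (hodd : Odd (Nat.card K)) (hsK : ∀ k ∈ K, s * k * s⁻¹ ∈ K)
    (htK : ∀ k ∈ K, t * k * t⁻¹ ∈ K) : K ≤ stabilizer G x := by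
  have hx' : t • x = x := h.fix_of_commute hs hx hc.symm
  have hst : orderOf (s * t) = 2 := by
    apply orderOf_eq_two_of_mul_self
    · rw [hc.symm.mul_mul_mul_comm, mul_self_of_orderOf hs, mul_self_of_orderOf ht, one_mul]
    · intro h4
      apply hne
      rw [← inv_eq_self_of_orderOf ht]
      exact eq_inv_of_mul_eq_one_left h4
  have hx'' : (s * t) • x = x := by rw [mul_smul, hx', hx]
  have key : ∀ w : G, orderOf w = 2 → w • x = x → K ⊓ Subgroup.centralizer {w} ≤ stabilizer G x := by
    rintro w hw hwx k ⟨-, hk⟩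
    exact h.fix_of_commute hw hwx (Subgroup.mem_centralizer_singleton_iff.mp hk)
  exact Cfsg.Agent.Lib.KleinGen.le_of_klein K _ hodd s t (mul_self_of_orderOf hs)
    (mul_self_of_orderOf ht) hc hsK htK (key s hs hx) (key t ht hx') (key _ hst hx'')

/-- With commuting pairs, the fixed point of every involution is the fixed point of a commuting
pair. -/
theorem exists_commuting_of_fix [Finite G] (h : UniqueFix G Ω) (hr : CommPair G) {a : G}
    (ha : orderOf a = 2) {x : Ω} (hx : a • x = x) :
    ∃ s t : G, orderOf s = 2 ∧ orderOf t = 2 ∧ s ≠ t ∧ Commute s t ∧ s • x = x ∧ t • x = x := by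
  obtain ⟨s, t, hs, ht, hne, hc⟩ := hr
  obtain ⟨y, hy⟩ := h.exists hs
  have hty : t • y = y := h.fix_of_commute hs hy hc.symm
  by_cases hall : ∃ g : G, g • x ≠ x
  · obtain ⟨g, hg⟩ := hall
    obtain ⟨k, hk⟩ := h.exists_smul_eq ha hx hg hs hy
    have hconj : ∀ w : G, w • y = y → (k⁻¹ * w * k) • x = x := by
      intro w hw
      rw [mul_smul, mul_smul, hk, hw, ← hk, inv_smul_smul]
    have ho : ∀ w : G, orderOf w = 2 → orderOf (k⁻¹ * w * k) = 2 := by
      intro w hw
      have := orderOf_conj k⁻¹ w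
      rw [inv_inv] at this; rw [this, hw]
    refine ⟨k⁻¹ * s * k, k⁻¹ * t * k, ho s hs, ho t ht, fun e => hne ?_, ?_, hconj s hy,
      hconj t hty⟩
    · exact mul_left_cancel (mul_right_cancel e)
    · show k⁻¹ * s * k * (k⁻¹ * t * k) = k⁻¹ * t * k * (k⁻¹ * s * k)
      have e1 : k⁻¹ * s * k * (k⁻¹ * t * k) = k⁻¹ * (s * t) * k := by group
      have e2 : k⁻¹ * t * k * (k⁻¹ * s * k) = k⁻¹ * (t * s) * k := by group
      rw [e1, e2, hc.eq]
  · push Not at hall
    exact ⟨s, t, hs, ht, hne, hc, hall s, hall t⟩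

/-- A normal subgroup of odd order fixes the fixed points of all involutions. -/
theorem normal_le_stabilizer [Finite G] (h : UniqueFix G Ω) (hr : CommPair G) {a : G}
    (ha : orderOf a = 2) {x : Ω} (hx : a • x = x) {N : Subgroup G} (hN : N.Normal)
    (hodd : Odd (Nat.card N)) : N ≤ stabilizer G x := by
  obtain ⟨s, t, hs, ht, hne, hc, hsx, -⟩ := exists_commuting_of_fix h hr ha hx
  exact le_stabilizer_of_commute h hs ht hne hc hsx hodd (fun k hk => hN.conj_mem k hk s)
    (fun k hk => hN.conj_mem k hk t)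

theorem oddCore_le_stabilizer [Finite G] (h : UniqueFix G Ω) (hr : CommPair G) {a : G}
    (ha : orderOf a = 2) {x : Ω} (hx : a • x = x) : oddCore G ≤ stabilizer G x :=
  normal_le_stabilizer h hr ha hx inferInstance (odd_oddCore G)

end Action

section SE

variable {G : Type*} [Group G] {H : Subgroup G}

theorem stabilizer_one (H : Subgroup G) : stabilizer G ((1 : G) : G ⧸ H) = H := by
  ext g
  rw [mem_stabilizer_iff, smul_one_eq_iff]

/-- The core of a strongly embedded subgroup has odd order. -/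
theorem odd_normalCore [Finite G] (hH : IsStronglyEmbedded H) : Odd (Nat.card H.normalCore) := by
  obtain ⟨g, hg⟩ : ∃ g, g ∉ H := by
    by_contra h
    push Not at h
    exact hH.1 ((Subgroup.eq_top_iff' H).mpr h)
  have h1 := hH.2.2 g hg
  obtain ⟨k, hk⟩ : Nat.card H.normalCore ∣
      Nat.card ↥(H ⊓ H.map (MulAut.conj g).toMonoidHom) := by
    apply Subgroup.card_dvd_of_le
    intro n hn
    refine ⟨Subgroup.normalCore_le _ hn, g⁻¹ * n * g, ?_, by simp [mul_assoc]⟩
    have := (Subgroup.normalCore_normal H).conj_mem n hn g⁻¹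
    rw [inv_inv] at this
    exact Subgroup.normalCore_le _ this
  rw [hk] at h1
  exact (Nat.odd_mul.mp h1).1

theorem normalCore_le_oddCore [Finite G] (hH : IsStronglyEmbedded H) :
    H.normalCore ≤ oddCore G := le_oddCore inferInstance (odd_normalCore hH)

/-- With a commuting pair of involutions, `O(G)` is contained in every strongly embedded
subgroup. -/
theorem oddCore_le [Finite G] (hH : IsStronglyEmbedded H) (hr : CommPair G) : oddCore G ≤ H := by
  obtain ⟨t, ht, ht2⟩ := exists_involution hH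
  have := oddCore_le_stabilizer (uniqueFix_quotient hH) hr ht2 ((smul_one_eq_iff t).mpr ht)
  rwa [stabilizer_one] at this

theorem normalCore_eq_oddCore [Finite G] (hH : IsStronglyEmbedded H) (hr : CommPair G) :
    H.normalCore = oddCore G :=
  le_antisymm (normalCore_le_oddCore hH)
    ((Subgroup.normal_le_normalCore).mpr (oddCore_le hH hr))

/-- A strongly embedded subgroup contains a commuting pair of involutions if `G` does. -/
theorem commPair_of_stronglyEmbedded [Finite G] (hH : IsStronglyEmbedded H) (hr : CommPair G) :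
    ∃ s ∈ H, ∃ t ∈ H, orderOf s = 2 ∧ orderOf t = 2 ∧ s ≠ t ∧ Commute s t := by
  obtain ⟨t, ht, ht2⟩ := exists_involution hH
  obtain ⟨a, b, ha, hb, hne, hc, hax, hbx⟩ :=
    exists_commuting_of_fix (uniqueFix_quotient hH) hr ht2 ((smul_one_eq_iff t).mpr ht)
  exact ⟨a, (smul_one_eq_iff a).mp hax, b, (smul_one_eq_iff b).mp hbx, ha, hb, hne, hc⟩

/-- Quotients of strongly embedded subgroups by odd order normal subgroups. -/
theorem stronglyEmbedded_map [Finite G] (hH : IsStronglyEmbedded H) {N : Subgroup G} [N.Normal]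
    (hN : Odd (Nat.card N)) (hNH : N ≤ H) :
    IsStronglyEmbedded (H.map (QuotientGroup.mk' N)) := by
  have hker : (QuotientGroup.mk' N).ker ≤ H := by rw [QuotientGroup.ker_mk']; exact hNH
  have hmem : ∀ g : G, QuotientGroup.mk' N g ∈ H.map (QuotientGroup.mk' N) ↔ g ∈ H := by
    intro g
    constructor
    · rintro ⟨k, hk, hkg⟩
      have h1 : k⁻¹ * g ∈ N := by
        rw [← QuotientGroup.ker_mk' N, MonoidHom.mem_ker, map_mul, map_inv, hkg, inv_mul_cancel]
      have := mul_mem hk (hNH h1)
      simpa using this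
    · intro hg
      exact ⟨g, hg, rfl⟩
  refine ⟨?_, ?_, ?_⟩
  · intro htop
    apply hH.1
    rw [Subgroup.eq_top_iff']
    intro g
    rw [← hmem g, htop]
    trivial
  · obtain ⟨t, ht, ht2⟩ := exists_involution hH
    rw [← Nat.not_odd_iff_even]
    refine not_odd_of_mem _ (QuotientGroup.mk' N t) ⟨t, ht, rfl⟩ ?_
    apply orderOf_eq_two_of_mul_self
    · rw [← map_mul, mul_self_of_orderOf ht2, map_one]
    · intro h1
      have : t ∈ N := by rw [← QuotientGroup.ker_mk' N]; exact h1
      exact not_odd_of_mem _ t this ht2 hN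
  · intro g' hg'
    obtain ⟨g, rfl⟩ := QuotientGroup.mk'_surjective N g'
    have hg : g ∉ H := fun h => hg' ((hmem g).mpr h)
    have h1 := hH.2.2 g hg
    have h2 : (H.map (QuotientGroup.mk' N) ⊓
        (H.map (QuotientGroup.mk' N)).map (MulAut.conj (QuotientGroup.mk' N g)).toMonoidHom) =
        (H ⊓ H.map (MulAut.conj g).toMonoidHom).map (QuotientGroup.mk' N) := by
      ext k'
      obtain ⟨k, rfl⟩ := QuotientGroup.mk'_surjective N k'
      constructor
      · rintro ⟨hk1, ⟨u', hu', huk⟩⟩
        have hk : k ∈ H := (hmem k).mp hk1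
        have hu : u' = QuotientGroup.mk' N (g⁻¹ * k * g) := by
          have h3 : QuotientGroup.mk' N g * u' * (QuotientGroup.mk' N g)⁻¹ =
            QuotientGroup.mk' N k := huk
          rw [map_mul, map_mul, map_inv, ← h3]; group
        rw [hu] at hu'
        exact ⟨k, ⟨hk, ⟨g⁻¹ * k * g, (hmem _).mp hu', by simp [mul_assoc]⟩⟩, rfl⟩
      · rintro ⟨l, ⟨hl1, ⟨u, hu, hul⟩⟩, hlk⟩
        refine ⟨?_, ?_⟩
        · rw [← hlk]; exact ⟨l, hl1, rfl⟩
        · rw [← hlk]
          refine ⟨QuotientGroup.mk' N u, ⟨u, hu, rfl⟩, ?_⟩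
          rw [← hul]
          simp
    rw [h2]
    obtain ⟨c, hc⟩ := Subgroup.card_map_dvd (H ⊓ H.map (MulAut.conj g).toMonoidHom)
      (QuotientGroup.mk' N)
    rw [hc] at h1
    exact (Nat.odd_mul.mp h1).1

end SE

end Cfsg.Agent.StrongEmb.TwoRank
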