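import Mathlib
import Cfsg.Prelude.Def_Involutions
import Cfsg.Prelude.Def_CaseTheorems
import Cfsg.Prelude.Def_LieRecognition
import Cfsg.Agent.SuzukiRankOne.M1
import Cfsg.Agent.SuzukiRankOne.Reduction
import Cfsg.Agent.StrongEmb.Basic
import Cfsg.Agent.StrongEmb.TwoRank

/-!
# Splitting strongly embedded subgroups and the reduction of Bender's theorem to simple groups

`IsSplit H Q`: `Q` is a normal subgroup of `H` acting regularly on the cosets of `H` other than
`H`. `setup_of_isSplit`: the rank one set-up. `exists_isSplit_of_simple`: if every simple group of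
order at most `|G|` satisfies Bender's theorem (a regular normal subgroup exists) so does `G`.
-/

set_option autoImplicit false

universe u

namespace Cfsg.Agent.StrongEmb.Split

open Cfsg MulAction Cfsg.Agent.TwoFusion.StronglyEmbeddedBasic
open Cfsg.Agent.StrongEmb.Basic Cfsg.Agent.StrongEmb.TwoRank
open scoped Pointwise

/-- `Q ≤ H` is normal in `H` and regular on the cosets of `H` different from `H`. -/
structure IsSplit {G : Type*} [Group G] (H Q : Subgroup G) : Prop where
  le : Q ≤ H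
  normal : (Q.subgroupOf H).Normal
  trans : ∀ g₁ g₂ : G, g₁ ∉ H → g₂ ∉ H → ∃ u ∈ Q, g₂⁻¹ * (u * g₁) ∈ H
  reg : ∀ g : G, g ∉ H → ∀ u ∈ Q, g⁻¹ * (u * g) ∈ H → u = 1

/-- The rank one set-up from a strongly embedded subgroup with a normal subgroup regular on the
other cosets. -/
theorem setup {G : Type*} [Group G] [Finite G] (H : Subgroup G) (hH : Cfsg.IsStronglyEmbedded H)
    (Q : Subgroup G) (hQH : Q ≤ H) (hQn : (Q.subgroupOf H).Normal)
    (htrans : ∀ g₁ g₂ : G, g₁ ∉ H → g₂ ∉ H → ∃ u ∈ Q, g₂⁻¹ * (u * g₁) ∈ H)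
    (hreg : ∀ g : G, g ∉ H → ∀ u ∈ Q, g⁻¹ * (u * g) ∈ H → u = 1) {t : G} (ht : t ∉ H)
    (ht2 : orderOf t = 2) :
    Cfsg.IsRankOneSetup G (G ⧸ H) ((1 : G) : G ⧸ H) t Q := by
  have hstab : MulAction.stabilizer G ((1 : G) : G ⧸ H) = H := by
    simp
  have hmem : ∀ g : G, g ∈ MulAction.stabilizer G ((1 : G) : G ⧸ H) ↔ g ∈ H := by
    intro g; rw [hstab]
  have hsmul : ∀ g h : G, g • ((h : G) : G ⧸ H) = ((g * h : G) : G ⧸ H) := fun g h => rfl
  have hfix : ∀ g h : G, g ∈ MulAction.stabilizer G ((h : G) : G ⧸ H) ↔ h⁻¹ * (g * h) ∈ H := by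
    intro g h
    rw [MulAction.mem_stabilizer_iff, hsmul, eq_comm, QuotientGroup.eq]
  have htt : t * t = 1 := by
    have := pow_orderOf_eq_one t; rwa [ht2, pow_two] at this
  have ht1 : t ≠ 1 := fun h => by rw [h, orderOf_one] at ht2; exact absurd ht2 (by norm_num)
  have hta : t • ((1 : G) : G ⧸ H) = ((t : G) : G ⧸ H) := by rw [hsmul, mul_one]
  have hD : MulAction.stabilizer G ((1 : G) : G ⧸ H) ⊓ MulAction.stabilizer G (t • ((1 : G) : G ⧸ H)) =
      H ⊓ H.map (MulAut.conj t).toMonoidHom := by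
    ext g
    rw [Subgroup.mem_inf, Subgroup.mem_inf, hmem, hta, hfix]
    constructor
    · rintro ⟨h1, h2⟩
      refine ⟨h1, ⟨t⁻¹ * (g * t), h2, ?_⟩⟩
      simp [mul_assoc]
    · rintro ⟨h1, ⟨y, hy, hyg⟩⟩
      refine ⟨h1, ?_⟩
      have : t⁻¹ * (g * t) = y := by
        rw [← hyg]; simp [mul_assoc]
      rw [this]; exact hy
  have hQD : Q ⊔ (MulAction.stabilizer G ((1 : G) : G ⧸ H) ⊓
      MulAction.stabilizer G (t • ((1 : G) : G ⧸ H))) = MulAction.stabilizer G ((1 : G) : G ⧸ H) := by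
    apply le_antisymm
    · rw [sup_le_iff]
      exact ⟨by rw [hstab]; exact hQH, inf_le_left⟩
    · intro h hh
      have hhH : h ∈ H := (hmem h).mp hh
      have hht : h * t ∉ H := fun hc => ht ((H.mul_mem_cancel_left hhH).mp hc)
      obtain ⟨u, hu, hu2⟩ := htrans t (h * t) ht hht
      have h3 : h = u * (u⁻¹ * h) := by group
      rw [h3]
      refine mul_mem (Subgroup.mem_sup_left hu) (Subgroup.mem_sup_right ⟨?_, ?_⟩)
      · exact (hmem _).mpr (mul_mem (inv_mem (hQH hu)) hhH)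
      · have h4 : t⁻¹ * (u⁻¹ * h * t) = ((h * t)⁻¹ * (u * t))⁻¹ := by group
        have h5 : u⁻¹ * h ∈ MulAction.stabilizer G ((t : G) : G ⧸ H) := by
          rw [hfix, h4]; exact inv_mem hu2
        rw [hta]; exact h5
  have hodd : Odd (Nat.card ↥(MulAction.stabilizer G ((1 : G) : G ⧸ H) ⊓
      MulAction.stabilizer G (t • ((1 : G) : G ⧸ H)))) := by
    rw [hD]; exact hH.2.2 t ht
  have hinf : Q ⊓ MulAction.stabilizer G (t • ((1 : G) : G ⧸ H)) = ⊥ := by
    rw [eq_bot_iff]
    rintro u ⟨hu, hu2⟩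
    rw [hta] at hu2
    exact hreg t ht u hu ((hfix u t).mp hu2)
  have hnorm : ∀ h ∈ MulAction.stabilizer G ((1 : G) : G ⧸ H), ∀ x ∈ Q, h * x * h⁻¹ ∈ Q := by
    intro h hh x hx
    have := hQn.conj_mem ⟨x, hQH hx⟩ hx ⟨h, (hmem h).mp hh⟩
    exact this
  refine ⟨?_, htt, ht1, ?_, ?_, hnorm, hinf, hQD, ?_, hodd⟩
  · -- double transitivity
    rw [MulAction.is_two_pretransitive_iff]
    intro a b c d hab hcd
    obtain ⟨a, rfl⟩ := QuotientGroup.mk_surjective a
    obtain ⟨b, rfl⟩ := QuotientGroup.mk_surjective b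
    obtain ⟨c, rfl⟩ := QuotientGroup.mk_surjective c
    obtain ⟨d, rfl⟩ := QuotientGroup.mk_surjective d
    have h1 : a⁻¹ * b ∉ H := fun h => hab ((QuotientGroup.eq).mpr h)
    have h2 : c⁻¹ * d ∉ H := fun h => hcd ((QuotientGroup.eq).mpr h)
    obtain ⟨u, hu, hu2⟩ := htrans (a⁻¹ * b) (c⁻¹ * d) h1 h2
    refine ⟨c * u * a⁻¹, ?_, ?_⟩
    · rw [hsmul, eq_comm, QuotientGroup.eq]
      have : c⁻¹ * (c * u * a⁻¹ * a) = u := by group
      rw [this]; exact hQH hu
    · rw [hsmul, eq_comm, QuotientGroup.eq]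
      have : d⁻¹ * (c * u * a⁻¹ * b) = (c⁻¹ * d)⁻¹ * (u * (a⁻¹ * b)) := by group
      rw [this]; exact hu2
  · intro hc; exact ht ((hmem t).mp hc)
  · rw [hstab]; exact hQH
  · -- `|Q|` even
    by_contra hne
    rw [Nat.not_even_iff_odd] at hne
    obtain ⟨s, hs, hs2⟩ := Cfsg.Agent.TwoFusion.StronglyEmbeddedBasic.exists_involution hH
    -- `H = Q D`, `|H|` divides `|Q| |D|`
    have hcard : Nat.card H = Nat.card Q * Nat.card ↥(MulAction.stabilizer G ((1 : G) : G ⧸ H) ⊓
      MulAction.stabilizer G (t • ((1 : G) : G ⧸ H))) := by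
      set D := MulAction.stabilizer G ((1 : G) : G ⧸ H) ⊓
        MulAction.stabilizer G (t • ((1 : G) : G ⧸ H)) with hDdef
      have hDH : D ≤ H := by rw [hD]; exact inf_le_left
      have hc : (Q.subgroupOf H).IsComplement' (D.subgroupOf H) := by
        apply Subgroup.isComplement'_of_disjoint_and_mul_eq_univ
        · rw [Subgroup.disjoint_def]
          intro x hx hx2
          apply Subtype.ext
          have h1 : (x : G) ∈ Q ⊓ MulAction.stabilizer G (t • ((1 : G) : G ⧸ H)) :=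
            ⟨hx, (Subgroup.mem_inf.mp hx2).2⟩
          rw [hinf] at h1
          exact h1
        · rw [Set.eq_univ_iff_forall]
          intro h
          have hh : (h : G) ∈ Q ⊔ D := by rw [hQD, hstab]; exact h.2
          have hn : ∀ d ∈ D, ∀ x ∈ Q, d * x * d⁻¹ ∈ Q := fun d hd x hx =>
            hnorm d (Subgroup.mem_inf.mp hd).1 x hx
          have hmulset : ((Q ⊔ D : Subgroup G) : Set G) = (Q : Set G) * (D : Set G) := by
            have hDN : D ≤ Subgroup.normalizer (Q : Set G) := by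
              intro d hd
              rw [Subgroup.mem_normalizer_iff]
              intro x
              constructor
              · exact fun hx => hn d hd x hx
              · intro hx
                have := hn d⁻¹ (inv_mem hd) _ hx
                simpa [mul_assoc] using this
            exact Subgroup.coe_mul_of_right_le_normalizer_left Q D hDN
          have h2 : (h : G) ∈ (Q : Set G) * (D : Set G) := by rw [← hmulset]; exact hh
          obtain ⟨x, hx, d, hd, hxd⟩ := Set.mem_mul.mp h2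
          exact Set.mem_mul.mpr ⟨⟨x, hQH hx⟩, hx, ⟨d, hDH hd⟩, hd, Subtype.ext hxd⟩
      have h1 := hc.card_mul_card
      rw [← h1]
      congr 1
      · exact (Nat.card_congr (Subgroup.subgroupOfEquivOfLe hQH).toEquiv)
      · exact (Nat.card_congr (Subgroup.subgroupOfEquivOfLe hDH).toEquiv)
    have : Odd (Nat.card H) := by rw [hcard]; exact hne.mul hodd
    exact (Nat.not_even_iff_odd.mpr this) hH.2.1


theorem setup_of_isSplit {G : Type*} [Group G] [Finite G] {H Q : Subgroup G}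
    (hH : IsStronglyEmbedded H) (h : IsSplit H Q) {t : G} (ht : t ∉ H) (ht2 : orderOf t = 2) :
    Cfsg.IsRankOneSetup G (G ⧸ H) ((1 : G) : G ⧸ H) t Q :=
  setup H hH Q h.le h.normal h.trans h.reg ht ht2

theorem IsSplit.conj_mem {G : Type*} [Group G] {H Q : Subgroup G} (h : IsSplit H Q) {k x : G}
    (hk : k ∈ H) (hx : x ∈ Q) : k * x * k⁻¹ ∈ Q :=
  h.normal.conj_mem ⟨x, h.le hx⟩ hx ⟨k, hk⟩

/-- A transitive action on cosets of `H ≠ ⊤` by a group with trivial core is faithful. -/
theorem faithfulSMul_of_core {G : Type*} [Group G] {H : Subgroup G} (hc : H.normalCore = ⊥) :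
    FaithfulSMul G (G ⧸ H) := by
  refine ⟨fun {g₁ g₂} hg => ?_⟩
  have h1 : g₂⁻¹ * g₁ ∈ H.normalCore := by
    rw [Subgroup.normalCore_eq_ker]
    rw [MonoidHom.mem_ker]
    ext x
    rw [MulAction.toPermHom_apply, MulAction.toPerm_apply, mul_smul, hg x, inv_smul_smul]
    rfl
  rw [hc, Subgroup.mem_bot] at h1
  exact (inv_mul_eq_one.mp h1).symm

/-! ### The subgroup generated by the involutions -/

open Cfsg.Agent.SuzukiRankOne.Reduction (invClosure mem_invClosure invClosure_normal)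

section Simple

variable {G : Type u} [Group G] [Finite G] {H : Subgroup G}

theorem mem_invClosure_of_orderOf {t : G} (ht : orderOf t = 2) : t ∈ invClosure G :=
  mem_invClosure (mul_self_of_orderOf ht)

omit [Finite G] in
theorem invClosure_le {M : Subgroup G} (h : ∀ t : G, orderOf t = 2 → t ∈ M) :
    invClosure G ≤ M := by
  refine (Subgroup.closure_le M).mpr ?_
  rintro x ⟨hx1, hx2⟩
  exact h x (orderOf_eq_two_of_mul_self hx2 hx1)

/-- `L = ⟨involutions⟩` is transitive on the cosets of a strongly embedded subgroup. -/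
theorem exists_invClosure_mul (hH : IsStronglyEmbedded H) (g : G) :
    ∃ n ∈ invClosure G, n⁻¹ * g ∈ H := by
  obtain ⟨t, ht, ht2⟩ := exists_involution hH
  obtain ⟨s, hs, hs2⟩ := exists_involution_notMem hH
  have hU := (uniqueFix_quotient hH).subgroup (invClosure G)
  have ha : (⟨t, mem_invClosure_of_orderOf ht2⟩ : invClosure G) • ((1 : G) : G ⧸ H) =
      ((1 : G) : G ⧸ H) := (smul_one_eq_iff t).mpr ht
  have hb : (⟨s, mem_invClosure_of_orderOf hs2⟩ : invClosure G) • ((1 : G) : G ⧸ H) ≠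
      ((1 : G) : G ⧸ H) := fun h => hs ((smul_one_eq_iff s).mp h)
  have hc : (⟨g * t * g⁻¹, mem_invClosure_of_orderOf (by rw [orderOf_conj, ht2])⟩ :
      invClosure G) • ((g : G) : G ⧸ H) = ((g : G) : G ⧸ H) := by
    show ((g * t * g⁻¹ * g : G) : G ⧸ H) = ((g : G) : G ⧸ H)
    rw [eq_comm, QuotientGroup.eq]
    have : g⁻¹ * (g * t * g⁻¹ * g) = t := by group
    rw [this]; exact ht
  obtain ⟨⟨n, hn⟩, hnx⟩ := hU.exists_smul_eq (by rw [Subgroup.orderOf_mk]; exact ht2) ha hb
    (by rw [Subgroup.orderOf_mk, orderOf_conj]; exact ht2) hc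
  refine ⟨n, hn, ?_⟩
  have h1 : ((n * 1 : G) : G ⧸ H) = ((g : G) : G ⧸ H) := hnx
  rw [mul_one] at h1
  exact QuotientGroup.eq.mp h1

/-- If `O(G) = 1` and `G` has a strongly embedded subgroup, the subgroup generated by the
involutions is simple. -/
theorem isSimpleGroup_invClosure (hH : IsStronglyEmbedded H) (hO : oddCore G = ⊥) :
    IsSimpleGroup (invClosure G) := by
  obtain ⟨t, ht, ht2⟩ := exists_involution hH
  obtain ⟨s, hs, hs2⟩ := exists_involution_notMem hH
  have hU := (uniqueFix_quotient hH).subgroup (invClosure G)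
  have ha : (⟨t, mem_invClosure_of_orderOf ht2⟩ : invClosure G) • ((1 : G) : G ⧸ H) =
      ((1 : G) : G ⧸ H) := (smul_one_eq_iff t).mpr ht
  have hb : (⟨s, mem_invClosure_of_orderOf hs2⟩ : invClosure G) • ((1 : G) : G ⧸ H) ≠
      ((1 : G) : G ⧸ H) := fun h => hs ((smul_one_eq_iff s).mp h)
  have ht2' : orderOf (⟨t, mem_invClosure_of_orderOf ht2⟩ : invClosure G) = 2 := by
    rw [Subgroup.orderOf_mk]; exact ht2
  have hnt : Nontrivial (invClosure G) :=
    ⟨⟨⟨t, mem_invClosure_of_orderOf ht2⟩, 1, fun h => by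
      rw [h, orderOf_one] at ht2'; exact absurd ht2' (by norm_num)⟩⟩
  refine { eq_bot_or_eq_top_of_normal := fun M hM => ?_ }
  by_cases hM1 : M = ⊥
  · exact Or.inl hM1
  right
  have heven : Even (Nat.card M) := by
    rw [← Nat.not_odd_iff_even]
    intro hodd
    apply hM1
    have h1 : M ≤ oddCore (invClosure G) := le_oddCore hM hodd
    have h2 := Cfsg.Agent.Lib.Cores.map_subtype_pPrimeCore 2 (invClosure_normal G)
    have h3 : pPrimeCore 2 G = ⊥ := hO
    rw [h3, inf_bot_eq, Subgroup.map_eq_bot_iff] at h2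
    rw [eq_bot_iff]
    refine h1.trans ?_
    rw [show oddCore (invClosure G) = pPrimeCore 2 (invClosure G) from rfl]
    exact h2.trans (by rw [Subgroup.ker_subtype])
  obtain ⟨⟨m, hm⟩, hm2⟩ := exists_prime_orderOf_dvd_card' (G := M) 2 (even_iff_two_dvd.mp heven)
  rw [Subgroup.orderOf_mk] at hm2
  have hall : invClosure G ≤ M.map (invClosure G).subtype := by
    apply invClosure_le
    intro x hx
    have hx' : orderOf (⟨x, mem_invClosure_of_orderOf hx⟩ : invClosure G) = 2 := by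
      rw [Subgroup.orderOf_mk]; exact hx
    obtain ⟨k, hk⟩ := isConj_iff.mp (hU.isConj ht2' ha hb hm2 hx')
    exact ⟨⟨x, mem_invClosure_of_orderOf hx⟩, by rw [← hk]; exact hM.conj_mem m hm k, rfl⟩
  rw [Subgroup.eq_top_iff']
  intro y
  obtain ⟨z, hz, hzy⟩ := hall y.2
  have : z = y := Subtype.ext hzy
  rw [← this]; exact hz

theorem stronglyEmbedded_invClosure (hH : IsStronglyEmbedded H) :
    IsStronglyEmbedded (H.subgroupOf (invClosure G)) := by
  obtain ⟨t, ht, ht2⟩ := exists_involution hH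
  obtain ⟨s, hs, hs2⟩ := exists_involution_notMem hH
  have h := (uniqueFix_quotient hH).stronglyEmbedded_subgroup (K := invClosure G)
    (mem_invClosure_of_orderOf ht2) ht2 ((smul_one_eq_iff t).mpr ht)
    (mem_invClosure_of_orderOf hs2) (fun h => hs ((smul_one_eq_iff s).mp h))
  rwa [stabilizer_one] at h

omit [Finite G] in
theorem commPair_invClosure (hr : CommPair G) : CommPair (invClosure G) := by
  obtain ⟨x, y, hx, hy, hne, hc⟩ := hr
  exact commPair_subgroup (mem_invClosure (mul_self_of_orderOf hx))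
    (mem_invClosure (mul_self_of_orderOf hy)) hx hy hne hc

/-- A proper subgroup of a simple group has trivial core. -/
theorem normalCore_eq_bot_of_simple {L : Type*} [Group L] [IsSimpleGroup L] {K : Subgroup L}
    (hK : K ≠ ⊤) : K.normalCore = ⊥ := by
  rcases IsSimpleGroup.eq_bot_or_eq_top_of_normal K.normalCore inferInstance with h | h
  · exact h
  · exact absurd (top_le_iff.mp (h ▸ Subgroup.normalCore_le K)) hK

/-- In a simple group the regular normal subgroup `Q` is the set of `2`-elements of `H`. -/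
theorem isPGroup_of_isSplit {L : Type*} [Group L] [Finite L] [IsSimpleGroup L] {K Q : Subgroup L}
    (hK : IsStronglyEmbedded K) (h : IsSplit K Q) (hr : CommPair L) :
    IsPGroup 2 Q ∧ ∀ x ∈ K, (∃ n : ℕ, orderOf x = 2 ^ n) → x ∈ Q := by
  obtain ⟨t, ht, ht2⟩ := exists_involution_notMem hK
  have hS := setup_of_isSplit hK h ht ht2
  have hf : FaithfulSMul L (L ⧸ K) := faithfulSMul_of_core (normalCore_eq_bot_of_simple hK.1)
  have hP := Cfsg.Agent.SuzukiRankOne.M1.isPGroup_Q hS hr.exists_sq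
  refine ⟨hP, ?_⟩
  have hidx : Odd Q.index := Cfsg.Agent.SuzukiRankOne.Reduction.odd_index_of_le hS le_rfl
  have hrel : Odd (Q.relIndex K) := by
    have h1 := Subgroup.relIndex_mul_index h.le
    rw [← h1] at hidx
    exact (Nat.odd_mul.mp hidx).1
  rintro x hx ⟨n, hn⟩
  have hn' : (Q.subgroupOf K).Normal := h.normal
  have h2 : (QuotientGroup.mk' (Q.subgroupOf K)) ⟨x, hx⟩ = 1 := by
    rw [← orderOf_eq_one_iff]
    have h3 : orderOf ((QuotientGroup.mk' (Q.subgroupOf K)) ⟨x, hx⟩) ∣ 2 ^ n := by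
      rw [← hn]
      have := orderOf_map_dvd (QuotientGroup.mk' (Q.subgroupOf K)) (⟨x, hx⟩ : K)
      rwa [Subgroup.orderOf_mk] at this
    have h4 : orderOf ((QuotientGroup.mk' (Q.subgroupOf K)) ⟨x, hx⟩) ∣ Q.relIndex K := by
      have : Q.relIndex K = Nat.card (K ⧸ Q.subgroupOf K) := rfl
      rw [this]
      exact orderOf_dvd_natCard _
    have h5 : Nat.Coprime (2 ^ n) (Q.relIndex K) :=
      Nat.Coprime.pow_left n (Nat.coprime_two_left.mpr hrel)
    exact Nat.Coprime.eq_one_of_dvd (h5.coprime_dvd_left h3) h4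
  rw [← MonoidHom.mem_ker, QuotientGroup.ker_mk'] at h2
  exact h2

/-- **Reduction to simple groups.** -/
theorem exists_isSplit_of_invClosure (hH : IsStronglyEmbedded H) (hr : CommPair G)
    (hcore : H.normalCore = ⊥) (hex : ∃ Q, IsSplit (H.subgroupOf (invClosure G)) Q) :
    ∃ Q, IsSplit H Q ∧ IsPGroup 2 Q := by
  have hO : oddCore G = ⊥ := by rw [← normalCore_eq_oddCore hH hr, hcore]
  have hsim := isSimpleGroup_invClosure hH hO
  obtain ⟨Q, hQ⟩ := hex
  obtain ⟨hQ2, hmem⟩ := isPGroup_of_isSplit (stronglyEmbedded_invClosure hH) hQ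
    (commPair_invClosure hr)
  have hmem' : ∀ x : invClosure G, x ∈ Q ↔ (x : G) ∈ H ∧ ∃ n : ℕ, orderOf (x : G) = 2 ^ n := by
    intro x
    constructor
    · intro hx
      refine ⟨hQ.le hx, ?_⟩
      obtain ⟨n, hn⟩ := IsPGroup.iff_orderOf.mp hQ2 ⟨x, hx⟩
      rw [Subgroup.orderOf_mk] at hn
      exact ⟨n, by rw [Subgroup.orderOf_coe, hn]⟩
    · rintro ⟨hx, n, hn⟩
      exact hmem x hx ⟨n, by rw [← hn, Subgroup.orderOf_coe]⟩
  refine ⟨Q.map (invClosure G).subtype, ⟨?_, ?_, ?_, ?_⟩, hQ2.map _⟩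
  · rintro _ ⟨x, hx, rfl⟩
    exact hQ.le hx
  · constructor
    rintro ⟨x, hxH⟩ ⟨y, hy, hyx⟩ ⟨k, hk⟩
    have hyx' : (y : G) = x := hyx
    have hy' := (hmem' y).mp hy
    have hconj : k * (y : G) * k⁻¹ ∈ invClosure G := (invClosure_normal G).conj_mem _ y.2 k
    refine ⟨⟨k * (y : G) * k⁻¹, hconj⟩, (hmem' _).mpr ⟨?_, ?_⟩, ?_⟩
    · exact mul_mem (mul_mem hk hy'.1) (inv_mem hk)
    · obtain ⟨n, hn⟩ := hy'.2
      exact ⟨n, by show orderOf (k * (y : G) * k⁻¹) = 2 ^ n; rw [orderOf_conj, hn]⟩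
    · show k * (y : G) * k⁻¹ = _
      rw [hyx']; rfl
  · intro g₁ g₂ h₁ h₂
    obtain ⟨n₁, hn₁, hn₁g⟩ := exists_invClosure_mul hH g₁
    obtain ⟨n₂, hn₂, hn₂g⟩ := exists_invClosure_mul hH g₂
    have e₁ : (⟨n₁, hn₁⟩ : invClosure G) ∉ H.subgroupOf (invClosure G) := by
      intro hc
      have hc' : n₁ ∈ H := hc
      apply h₁
      have := mul_mem hc' hn₁g
      simpa using this
    have e₂ : (⟨n₂, hn₂⟩ : invClosure G) ∉ H.subgroupOf (invClosure G) := by
      intro hc
      have hc' : n₂ ∈ H := hc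
      apply h₂
      have := mul_mem hc' hn₂g
      simpa using this
    obtain ⟨u, hu, hu2⟩ := hQ.trans _ _ e₁ e₂
    refine ⟨u, ⟨u, hu, rfl⟩, ?_⟩
    have h3 : n₂⁻¹ * ((u : G) * n₁) ∈ H := hu2
    have h4 : g₂⁻¹ * ((u : G) * g₁) = (n₂⁻¹ * g₂)⁻¹ * (n₂⁻¹ * ((u : G) * n₁)) * (n₁⁻¹ * g₁) := by
      group
    rw [h4]
    exact mul_mem (mul_mem (inv_mem hn₂g) h3) hn₁g
  · rintro g hg _ ⟨u, hu, rfl⟩ hug
    obtain ⟨n, hn, hng⟩ := exists_invClosure_mul hH g
    have e₁ : (⟨n, hn⟩ : invClosure G) ∉ H.subgroupOf (invClosure G) := by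
      intro hc
      have hc' : n ∈ H := hc
      apply hg
      have := mul_mem hc' hng
      simpa using this
    have h1 : u = 1 := by
      refine hQ.reg ⟨n, hn⟩ e₁ u hu ?_
      show n⁻¹ * ((u : G) * n) ∈ H
      have h4 : n⁻¹ * ((u : G) * n) = (n⁻¹ * g) * (g⁻¹ * ((u : G) * g)) * (n⁻¹ * g)⁻¹ := by
        group
      rw [h4]
      exact mul_mem (mul_mem hng hug) (inv_mem hng)
    rw [h1]; rfl

end Simple

/-! ### The induction frame -/

/-- Bender's theorem for `G`: a strongly embedded subgroup with trivial core of a group of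
`2`-rank at least two has a normal `2`-subgroup regular on the other cosets. -/
def BenderHolds (G : Type u) [Group G] : Prop :=
  ∀ H : Subgroup G, IsStronglyEmbedded H → CommPair G → H.normalCore = ⊥ →
    ∃ Q, IsSplit H Q ∧ IsPGroup 2 Q

/-- **Induction frame** for Bender's theorem: it is enough to treat simple groups, all groups of
smaller order being known. -/
theorem bender_induction
    (step : ∀ (L : Type u) [Group L] [Finite L] [IsSimpleGroup L] (H : Subgroup L),
      IsStronglyEmbedded H → CommPair L →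
      (∀ (K : Type u) [Group K] [Finite K], Nat.card K < Nat.card L → BenderHolds K) →
      ∃ Q, IsSplit H Q)
    (G : Type u) [Group G] [Finite G] : BenderHolds G := by
  suffices h : ∀ n : ℕ, ∀ (G : Type u) [Group G] [Finite G], Nat.card G = n → BenderHolds G from
    h _ G rfl
  intro n
  induction n using Nat.strong_induction_on with
  | _ n ih =>
    intro G _ _ hn H hH hr hcore
    have hO : oddCore G = ⊥ := by rw [← normalCore_eq_oddCore hH hr, hcore]
    have hsim := isSimpleGroup_invClosure hH hO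
    refine exists_isSplit_of_invClosure hH hr hcore ?_
    refine step _ _ (stronglyEmbedded_invClosure hH) (commPair_invClosure hr) ?_
    intro K _ _ hK
    refine ih (Nat.card K) ?_ K rfl
    calc Nat.card K < Nat.card (invClosure G) := hK
      _ ≤ Nat.card G := Subgroup.card_le_card_group _
      _ = n := hn

/-- A frame hypothesis that only speaks about double transitivity and the existence of `Q`. -/
theorem IsSplit.two_transitive {G : Type*} [Group G] {H Q : Subgroup G} (h : IsSplit H Q)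
    (g₁ g₂ : G) (h₁ : g₁ ∉ H) (h₂ : g₂ ∉ H) : ∃ k ∈ H, g₂⁻¹ * (k * g₁) ∈ H := by
  obtain ⟨u, hu, hu2⟩ := h.trans g₁ g₂ h₁ h₂
  exact ⟨u, h.le hu, hu2⟩

end Cfsg.Agent.StrongEmb.Split
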