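import Mathlib
import Cfsg.Agent.StrongEmb.Split
import Cfsg.Agent.S1125
import Cfsg.Agent.S1128
import Cfsg.Agent.S1130

/-!
# Consequences of Bender's theorem

From `BenderHolds (G ⧸ O(G))` (see `StrongEmb/Split`): double transitivity or `2`-rank one (S1220),
`O(H) ≤ O(G)` (S1221), centralizers of inverted elements (S1223).
-/

set_option autoImplicit false

universe u

namespace Cfsg.Agent.StrongEmb.Consequences

open Cfsg MulAction Cfsg.Agent.TwoFusion.StronglyEmbeddedBasic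
open Cfsg.Agent.StrongEmb.Basic Cfsg.Agent.StrongEmb.TwoRank Cfsg.Agent.StrongEmb.Split

section

variable {G : Type u} [Group G] [Finite G] {H : Subgroup G}

theorem oddCore_quotient_eq_bot (G : Type u) [Group G] [Finite G] :
    oddCore (G ⧸ oddCore G) = ⊥ := Cfsg.Agent.Lib.Cores.pPrimeCore_quotient_pPrimeCore 2

/-- The quotient by `O(G)` satisfies the hypotheses of Bender's theorem in the faithful case. -/
theorem quotient_data (hH : IsStronglyEmbedded H) (hr : CommPair G) :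
    IsStronglyEmbedded (H.map (QuotientGroup.mk' (oddCore G))) ∧ CommPair (G ⧸ oddCore G) ∧
      (H.map (QuotientGroup.mk' (oddCore G))).normalCore = ⊥ := by
  have h1 := stronglyEmbedded_map hH (odd_oddCore G) (oddCore_le hH hr)
  have h2 := hr.quotient (odd_oddCore G)
  exact ⟨h1, h2, by rw [normalCore_eq_oddCore h1 h2, oddCore_quotient_eq_bot]⟩

omit [Finite G] in
theorem mk_mem_map_iff {N : Subgroup G} [N.Normal] (hNH : N ≤ H) (g : G) :
    QuotientGroup.mk' N g ∈ H.map (QuotientGroup.mk' N) ↔ g ∈ H := by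
  constructor
  · rintro ⟨k, hk, hkg⟩
    have h1 : k⁻¹ * g ∈ N := by
      rw [← QuotientGroup.ker_mk' N, MonoidHom.mem_ker, map_mul, map_inv, hkg, inv_mul_cancel]
    have := mul_mem hk (hNH h1)
    simpa using this
  · intro hg
    exact ⟨g, hg, rfl⟩

/-- **S1220**, first alternative: double transitivity from Bender's theorem. -/
theorem two_transitive (hB : BenderHolds (G ⧸ oddCore G)) (hH : IsStronglyEmbedded H)
    (hr : CommPair G) (g₁ g₂ : G) (h₁ : g₁ ∉ H) (h₂ : g₂ ∉ H) :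
    ∃ h ∈ H, g₂⁻¹ * (h * g₁) ∈ H := by
  obtain ⟨hSE, hcp, hcore⟩ := quotient_data hH hr
  obtain ⟨Q, hQ, -⟩ := hB _ hSE hcp hcore
  have hiff := mk_mem_map_iff (oddCore_le hH hr)
  obtain ⟨k, ⟨h, hh, rfl⟩, hk⟩ := hQ.two_transitive (QuotientGroup.mk' (oddCore G) g₁)
    (QuotientGroup.mk' (oddCore G) g₂) (fun hc => h₁ ((hiff g₁).mp hc))
    (fun hc => h₂ ((hiff g₂).mp hc))
  refine ⟨h, hh, (hiff _).mp ?_⟩
  rw [map_mul, map_mul, map_inv]
  exact hk

/-- **S1220** from Bender's theorem. -/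
theorem s1220 (hB : BenderHolds (G ⧸ oddCore G)) (hH : IsStronglyEmbedded H) :
    (∀ g₁ g₂ : G, g₁ ∉ H → g₂ ∉ H → ∃ h ∈ H, g₂⁻¹ * (h * g₁) ∈ H) ∨
      ((∀ S : Sylow 2 G, IsCyclic S ∨
        ∃ m : ℕ, 1 ≤ m ∧ Nonempty ((S : Subgroup G) ≃* QuaternionGroup (2 ^ m))) ∧
        Cfsg.oddCore G ⊔ H = ⊤) := by
  by_cases hr : CommPair G
  · exact Or.inl (two_transitive hB hH hr)
  · refine Or.inr ⟨sylow_of_not_commPair hr, ?_⟩
    obtain ⟨z, hz, hz2⟩ := exists_involution hH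
    rw [Subgroup.eq_top_iff']
    intro g
    obtain ⟨n, hn, c, hc, rfl⟩ := exists_mul_of_not_commPair hr hz2 g
    exact mul_mem (Subgroup.mem_sup_left hn) (Subgroup.mem_sup_right (mem_of_commute hH hz hz2 hc))

/-- In the faithful case `O(H) = 1`. -/
theorem eq_bot_of_isSplit (hcore : H.normalCore = ⊥) {Q : Subgroup G} (hQ : IsSplit H Q)
    (hQ2 : IsPGroup 2 Q) {R : Subgroup G} (hRH : R ≤ H) (hR : ∀ h ∈ H, ∀ r ∈ R, h * r * h⁻¹ ∈ R)
    (hodd : Odd (Nat.card R)) : R = ⊥ := by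
  -- `R` centralises `Q`
  have hdis : ∀ x, x ∈ R → x ∈ Q → x = 1 := by
    intro x hxR hxQ
    obtain ⟨n, hn⟩ := IsPGroup.iff_orderOf.mp hQ2 ⟨x, hxQ⟩
    rw [Subgroup.orderOf_mk] at hn
    have h2 : orderOf x ∣ Nat.card R := R.orderOf_dvd_natCard hxR
    have h3 : Nat.Coprime (orderOf x) (Nat.card R) := by
      rw [hn]; exact Nat.Coprime.pow_left n (Nat.coprime_two_left.mpr hodd)
    exact orderOf_eq_one_iff.mp (Nat.Coprime.eq_one_of_dvd h3 h2)
  have hcomm : ∀ r ∈ R, ∀ q ∈ Q, r * q = q * r := by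
    intro r hr q hq
    have h1 : r * q * r⁻¹ * q⁻¹ ∈ Q := mul_mem (hQ.conj_mem (hRH hr) hq) (inv_mem hq)
    have h2 : r * q * r⁻¹ * q⁻¹ ∈ R := by
      have : r * q * r⁻¹ * q⁻¹ = r * (q * r⁻¹ * q⁻¹) := by group
      rw [this]
      exact mul_mem hr (hR q (hQ.le hq) _ (inv_mem hr))
    have h3 := hdis _ h2 h1
    exact mul_inv_eq_iff_eq_mul.mp (mul_inv_eq_one.mp h3)
  rw [Subgroup.eq_bot_iff_forall]
  intro r hr
  -- `r` lies in the core of `H`
  have hmem : r ∈ H.normalCore := by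
    intro g
    by_cases hg : g⁻¹ ∈ H
    · exact mul_mem (mul_mem (by simpa using inv_mem hg) (hRH hr)) hg
    -- `r g⁻¹ H = q g⁻¹ H`
    have hrg : r * g⁻¹ ∉ H := fun h => hg ((H.mul_mem_cancel_left (hRH hr)).mp h)
    obtain ⟨q, hq, hqg⟩ := hQ.trans g⁻¹ (r * g⁻¹) hg hrg
    -- `(r * g⁻¹)⁻¹ * (q * g⁻¹) ∈ H`; by induction `r ^ k` and `q ^ k` agree on the coset
    have key : ∀ k : ℕ, (r ^ k * g⁻¹)⁻¹ * (q ^ k * g⁻¹) ∈ H := by
      intro k
      induction k with
      | zero => simp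
      | succ k ih =>
        have hqk : q ^ k ∈ Q := pow_mem hq k
        have hc1 : r * q ^ k = q ^ k * r := hcomm r hr _ hqk
        have e1 : (r ^ (k + 1) * g⁻¹)⁻¹ * (q ^ (k + 1) * g⁻¹) =
            ((r ^ k * g⁻¹)⁻¹ * (q ^ k * g⁻¹)) * ((r * g⁻¹)⁻¹ * (q * g⁻¹)) := by
          have e2 : (r ^ k * g⁻¹)⁻¹ * (q ^ k * g⁻¹) * ((r * g⁻¹)⁻¹ * (q * g⁻¹)) =
              g * (r ^ k)⁻¹ * (q ^ k * r⁻¹) * q * g⁻¹ := by group
          have e3 : q ^ k * r⁻¹ = r⁻¹ * q ^ k := by
            calc q ^ k * r⁻¹ = r⁻¹ * (r * q ^ k) * r⁻¹ := by group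
              _ = r⁻¹ * (q ^ k * r) * r⁻¹ := by rw [hc1]
              _ = r⁻¹ * q ^ k := by group
          rw [e2, e3, pow_succ' r k, pow_succ q k]
          group
        rw [e1]
        exact mul_mem ih hqg
    have hr1 : r ^ Nat.card R = 1 := by
      have : (⟨r, hr⟩ : R) ^ (Nat.card R) = 1 := pow_card_eq_one'
      exact congrArg Subtype.val this
    have h1 := key (Nat.card R)
    rw [hr1, one_mul, inv_inv] at h1
    have h2 : q ^ Nat.card R = 1 := by
      refine hQ.reg g⁻¹ hg _ (pow_mem hq _) ?_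
      rw [inv_inv]; exact h1
    have hq1 : q = 1 := by
      obtain ⟨n, hn⟩ := IsPGroup.iff_orderOf.mp hQ2 ⟨q, hq⟩
      rw [Subgroup.orderOf_mk] at hn
      have h3 : Nat.Coprime (orderOf q) (Nat.card R) := by
        rw [hn]; exact Nat.Coprime.pow_left n (Nat.coprime_two_left.mpr hodd)
      exact orderOf_eq_one_iff.mp
        (Nat.Coprime.eq_one_of_dvd h3 (orderOf_dvd_of_pow_eq_one h2))
    rw [hq1, one_mul] at hqg
    have h5 : g * r * g⁻¹ = ((r * g⁻¹)⁻¹ * g⁻¹)⁻¹ := by group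
    rw [h5]
    exact inv_mem hqg
  rw [hcore] at hmem
  exact hmem

/-- **S1221** from Bender's theorem. -/
theorem s1221 (hB : BenderHolds (G ⧸ oddCore G)) (hH : IsStronglyEmbedded H) :
    (Cfsg.oddCore ↥H).map H.subtype ≤ Cfsg.oddCore G := by
  have hRodd : Odd (Nat.card ((Cfsg.oddCore ↥H).map H.subtype)) := by
    rw [Subgroup.card_map_of_injective H.subtype_injective]
    exact odd_oddCore H
  have hRH : (Cfsg.oddCore ↥H).map H.subtype ≤ H := Subgroup.map_subtype_le _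
  have hRn : ∀ h ∈ H, ∀ r ∈ (Cfsg.oddCore ↥H).map H.subtype,
      h * r * h⁻¹ ∈ (Cfsg.oddCore ↥H).map H.subtype := by
    rintro h hh _ ⟨r, hr, rfl⟩
    have hn : (oddCore H).Normal := inferInstance
    exact ⟨⟨h, hh⟩ * r * ⟨h, hh⟩⁻¹, hn.conj_mem r hr _, rfl⟩
  set R := (Cfsg.oddCore ↥H).map H.subtype with hRdef
  -- the image of `R` in `G ⧸ O(G)`
  have hodd' : Odd (Nat.card (R.map (QuotientGroup.mk' (oddCore G)))) := by
    obtain ⟨c, hc⟩ := Subgroup.card_map_dvd R (QuotientGroup.mk' (oddCore G))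
    rw [hc] at hRodd
    exact (Nat.odd_mul.mp hRodd).1
  have hfin : R.map (QuotientGroup.mk' (oddCore G)) = ⊥ → R ≤ oddCore G := by
    intro h
    rwa [Subgroup.map_eq_bot_iff, QuotientGroup.ker_mk'] at h
  by_cases hr : CommPair G
  · obtain ⟨hSE, hcp, hcore⟩ := quotient_data hH hr
    obtain ⟨Q, hQ, hQ2⟩ := hB _ hSE hcp hcore
    apply hfin
    refine eq_bot_of_isSplit hcore hQ hQ2 (Subgroup.map_mono hRH) ?_ hodd'
    rintro _ ⟨h, hh, rfl⟩ _ ⟨r, hr, rfl⟩
    exact ⟨h * r * h⁻¹, hRn h hh r hr, by simp⟩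
  · obtain ⟨z, hz, hz2⟩ := exists_involution hH
    apply hfin
    have hnorm : (R.map (QuotientGroup.mk' (oddCore G))).Normal := by
      constructor
      rintro _ ⟨r, hr', rfl⟩ g'
      obtain ⟨g, rfl⟩ := QuotientGroup.mk'_surjective _ g'
      obtain ⟨n, hn, c, hc, rfl⟩ := exists_mul_of_not_commPair hr hz2 g
      have h1 : QuotientGroup.mk' (oddCore G) n = 1 := by
        rw [← MonoidHom.mem_ker, QuotientGroup.ker_mk']; exact hn
      rw [map_mul, h1, one_mul]
      exact ⟨c * r * c⁻¹, hRn c (mem_of_commute hH hz hz2 hc) r hr', by simp⟩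
    have h2 := le_oddCore hnorm hodd'
    rw [oddCore_quotient_eq_bot] at h2
    exact le_bot_iff.mp h2

/-- Inverting and centralising involutions with product of odd order: `j` is trivial. -/
theorem mul_self_of_inverted {s u j : G} (hs : orderOf s = 2) (hu : orderOf u = 2)
    (hodd : Odd (orderOf (s * u))) (hsj : Commute s j) (huj : u * j * u⁻¹ = j⁻¹) :
    j * j = 1 := by
  have h1 : (s * u) * j * (s * u)⁻¹ = j⁻¹ := by
    have : (s * u) * j * (s * u)⁻¹ = s * (u * j * u⁻¹) * s⁻¹ := by group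
    rw [this, huj, hsj.inv_right.eq]; group
  have h2 : ∀ k : ℕ, (s * u) ^ (2 * k) * j * ((s * u) ^ (2 * k))⁻¹ = j := by
    intro k
    induction k with
    | zero => simp
    | succ k ih =>
      have e1 : (s * u) ^ (2 * (k + 1)) = (s * u) * ((s * u) * (s * u) ^ (2 * k)) := by
        rw [← pow_succ', ← pow_succ']; congr 1
      have e2 : (s * u) ^ (2 * (k + 1)) * j * ((s * u) ^ (2 * (k + 1)))⁻¹ =
          (s * u) * ((s * u) * ((s * u) ^ (2 * k) * j * ((s * u) ^ (2 * k))⁻¹) * (s * u)⁻¹) *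
            (s * u)⁻¹ := by
        rw [e1]
        generalize (s * u) ^ (2 * k) = P
        simp only [mul_inv_rev, mul_assoc]
      rw [e2, ih, h1]
      have e3 : s * u * j⁻¹ * (s * u)⁻¹ = ((s * u) * j * (s * u)⁻¹)⁻¹ := by group
      rw [e3, h1, inv_inv]
  obtain ⟨k, hk⟩ := hodd
  have h3 := h2 k
  have h4 : (s * u) * ((s * u) ^ (2 * k) * j * ((s * u) ^ (2 * k))⁻¹) * (s * u)⁻¹ = j := by
    have e : (s * u) * ((s * u) ^ (2 * k) * j * ((s * u) ^ (2 * k))⁻¹) * (s * u)⁻¹ =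
        (s * u) ^ (2 * k + 1) * j * ((s * u) ^ (2 * k + 1))⁻¹ := by
      rw [pow_succ' (s * u) (2 * k)]
      generalize (s * u) ^ (2 * k) = P
      simp only [mul_inv_rev, mul_assoc]
    rw [e, ← hk, pow_orderOf_eq_one]; simp
  rw [h3, h1] at h4
  have h5 := inv_mul_cancel j
  rw [h4] at h5
  exact h5

/-- **S1223** from Bender's theorem (the core of `H` is trivial). -/
theorem s1223 (hB : BenderHolds G) (hH : IsStronglyEmbedded H) (hcore : H.normalCore = ⊥)
    (u : G) (hu : orderOf u = 2) (huH : u ∉ H) (j : G)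
    (hj : j ∈ (H ⊓ H.map (MulAut.conj u).toMonoidHom)) (hj1 : j ≠ 1)
    (hinv : u * j * u⁻¹ = j⁻¹) : Odd (Nat.card (Subgroup.centralizer ({j} : Set G))) := by
  by_contra hne
  rw [Nat.not_odd_iff_even] at hne
  obtain ⟨⟨s, hsC⟩, hs2⟩ := exists_prime_orderOf_dvd_card'
    (G := Subgroup.centralizer ({j} : Set G)) 2 (even_iff_two_dvd.mp hne)
  rw [Subgroup.orderOf_mk] at hs2
  have hsj : Commute s j := Subgroup.mem_centralizer_singleton_iff.mp hsC
  -- `j ^ 2 ≠ 1`
  have hjodd : j * j ≠ 1 := by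
    intro h
    exact not_odd_of_mem _ j hj (orderOf_eq_two_of_mul_self h hj1) (hH.2.2 u huH)
  by_cases hr : CommPair G
  · obtain ⟨Q, hQ, -⟩ := hB H hH hr hcore
    have hf := faithfulSMul_of_core hcore
    have hS := setup_of_isSplit hH hQ huH hu
    have hstab : stabilizer G ((1 : G) : G ⧸ H) = H := stabilizer_one H
    have hD : stabilizer G ((1 : G) : G ⧸ H) ⊓ stabilizer G (u • ((1 : G) : G ⧸ H)) =
        H ⊓ H.map (MulAut.conj u).toMonoidHom := by
      ext g
      rw [Subgroup.mem_inf, Subgroup.mem_inf, mem_stabilizer_iff (a := u • _),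
        ← mem_map_conj_stabilizer (x := ((1 : G) : G ⧸ H)), hstab]
    have hjinv : j ∈ Cfsg.invertedBy
        (stabilizer G ((1 : G) : G ⧸ H) ⊓ stabilizer G (u • ((1 : G) : G ⧸ H))) u :=
      ⟨by rw [hD]; exact hj, hinv⟩
    have hbot := Cfsg.Agent.S1128.result hS hr.exists_sq j hjinv hj1
    have h1130 := (Cfsg.Agent.S1130.result hS hr.exists_sq).1
    -- no involution of `H` commutes with `j`
    have key : ∀ w : G, orderOf w = 2 → w • ((1 : G) : G ⧸ H) = ((1 : G) : G ⧸ H) →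
        Commute w j → False := by
      intro w hw hwx hwj
      have h1 : w ∈ Cfsg.involutionsIn (stabilizer G ((1 : G) : G ⧸ H) : Set G) :=
        ⟨hwx, fun h => by rw [h, orderOf_one] at hw; exact absurd hw (by norm_num),
          mul_self_of_orderOf hw⟩
      have h2 : w ∈ Q ⊓ Subgroup.centralizer {j} :=
        ⟨(h1130 w h1).1, Subgroup.mem_centralizer_singleton_iff.mpr hwj⟩
      rw [hbot, Subgroup.mem_bot] at h2
      rw [h2, orderOf_one] at hw
      exact absurd hw (by norm_num)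
    have hU := uniqueFix_quotient hH
    obtain ⟨x, hx⟩ := hU.exists hs2
    have hjx : j • x = x := hU.fix_of_commute hs2 hx hsj.symm
    have hj' : j ∈ stabilizer G ((1 : G) : G ⧸ H) ⊓ stabilizer G (u • ((1 : G) : G ⧸ H)) := by
      rw [hD]; exact hj
    have hja : j • ((1 : G) : G ⧸ H) = ((1 : G) : G ⧸ H) := hj'.1
    have hju : j • (u • ((1 : G) : G ⧸ H)) = u • ((1 : G) : G ⧸ H) := hj'.2
    have hne1 : ((1 : G) : G ⧸ H) ≠ u • ((1 : G) : G ⧸ H) := fun h =>
      huH ((smul_one_eq_iff u).mp h.symm)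
    by_cases hxa : x = ((1 : G) : G ⧸ H)
    · exact key s hs2 (by rw [← hxa]; exact hx) hsj
    by_cases hxu : x = u • ((1 : G) : G ⧸ H)
    · refine key (u⁻¹ * s * u) ?_ ?_ ?_
      · have := orderOf_conj u⁻¹ s
        rw [inv_inv] at this; rw [this, hs2]
      · rw [mul_smul, mul_smul, ← hxu, hx, hxu, inv_smul_smul]
      · have hui := inv_eq_self_of_orderOf hu
        have h1 : u⁻¹ * j * u = j⁻¹ := by rw [hui] at hinv ⊢; exact hinv
        have h2 : Commute (u⁻¹ * s * u) (u⁻¹ * j * u) := by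
          show u⁻¹ * s * u * (u⁻¹ * j * u) = u⁻¹ * j * u * (u⁻¹ * s * u)
          have e1 : u⁻¹ * s * u * (u⁻¹ * j * u) = u⁻¹ * (s * j) * u := by group
          have e2 : u⁻¹ * j * u * (u⁻¹ * s * u) = u⁻¹ * (j * s) * u := by group
          rw [e1, e2, hsj.eq]
        rw [h1] at h2
        simpa using h2.inv_right
    · obtain ⟨g, hg, hgx, -⟩ := (Cfsg.Agent.S1125.result hS ({j} : Set G)
        (by rw [Set.singleton_subset_iff]; exact hj')
        ⟨((1 : G) : G ⧸ H), u • ((1 : G) : G ⧸ H), x, hne1, fun h => hxa h.symm,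
          fun h => hxu h.symm, fun y hy => by
            rw [Set.mem_singleton_iff] at hy; rw [hy]; exact ⟨hja, hju, hjx⟩⟩).1
        x (u • ((1 : G) : G ⧸ H)) ((1 : G) : G ⧸ H) (u • ((1 : G) : G ⧸ H))
        (fun y hy => by
          rw [Set.mem_singleton_iff] at hy; rw [hy]; exact ⟨hjx, hju, hja, hju⟩) hxu hne1
      have hgj : Commute g j := Subgroup.mem_centralizer_singleton_iff.mp hg
      refine key (g * s * g⁻¹) (by rw [orderOf_conj, hs2]) ?_ ?_
      · rw [mul_smul, mul_smul, ← hgx, inv_smul_smul, hx]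
      · exact (hgj.mul_left hsj).mul_left hgj.inv_left
  · -- `2`-rank one
    have h1 := mul_mem_oddCore_of_not_commPair hr hs2 hu
    have hodd : Odd (orderOf (s * u)) := by
      obtain ⟨k, hk⟩ := (oddCore G).orderOf_dvd_natCard h1
      have h2 := odd_oddCore G
      rw [hk] at h2
      exact (Nat.odd_mul.mp h2).1
    exact hjodd (mul_self_of_inverted hs2 hu hodd hsj hinv)

end

end Cfsg.Agent.StrongEmb.Consequences
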