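import Mathlib
import Cfsg.Agent.StrongEmb.Consequences
import Cfsg.Agent.S1136

/-!
# Simple groups with a split strongly embedded subgroup (from S1136)

`commPair_of_simple`: a nonabelian simple group of even order has two distinct commuting
involutions. `of_isSplit`: a simple group with a split strongly embedded subgroup is `PSL₂(2^n)`,
`Sz(q)` or `PSU₃(2^n)`.
-/

set_option autoImplicit false

universe u

namespace Cfsg.Agent.StrongEmb.Simple

open Cfsg MulAction Cfsg.Agent.TwoFusion.StronglyEmbeddedBasic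
open Cfsg.Agent.StrongEmb.Basic Cfsg.Agent.StrongEmb.TwoRank Cfsg.Agent.StrongEmb.Split

section

variable {G : Type u} [Group G] [Finite G]

/-- A nonabelian simple group with an involution has two distinct commuting involutions. -/
theorem commPair_of_simple [IsSimpleGroup G] (hna : ∃ a b : G, a * b ≠ b * a) {z : G}
    (hz : orderOf z = 2) : CommPair G := by
  by_contra hr
  have hO : oddCore G = ⊥ := by
    rcases IsSimpleGroup.eq_bot_or_eq_top_of_normal (oddCore G) inferInstance with h | h
    · exact h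
    · exfalso
      exact not_odd_of_mem (oddCore G) z (by rw [h]; trivial) hz (odd_oddCore G)
  have hzc : z ∈ Subgroup.center G := by
    rw [Subgroup.mem_center_iff]
    intro g
    have h1 := mem_oddCore_of_not_commPair hr hz g
    rw [hO, Subgroup.mem_bot] at h1
    exact (mul_inv_eq_iff_eq_mul.mp (mul_inv_eq_one.mp h1)).symm
  have hctop : Subgroup.center G = ⊤ := by
    rcases IsSimpleGroup.eq_bot_or_eq_top_of_normal (Subgroup.center G) inferInstance with h | h
    · exfalso
      rw [h, Subgroup.mem_bot] at hzc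
      rw [hzc, orderOf_one] at hz
      exact absurd hz (by norm_num)
    · exact h
  obtain ⟨a, b, hab⟩ := hna
  apply hab
  have hb : b ∈ Subgroup.center G := by rw [hctop]; trivial
  exact Subgroup.mem_center_iff.mp hb a

/-- The identification of simple groups with a split strongly embedded subgroup. -/
theorem of_isSplit [IsSimpleGroup G] {H Q : Subgroup G} (hH : IsStronglyEmbedded H)
    (hQ : IsSplit H Q) (hr : CommPair G) :
    (∃ (F : Type) (_ : Field F) (_ : Fintype F), (∃ n : ℕ, 2 ≤ n ∧ Fintype.card F = 2 ^ n) ∧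
          Nonempty (G ≃* Matrix.ProjectiveSpecialLinearGroup (Fin 2) F)) ∨
        Cfsg.Lie.IsoSuzuki G ∨
        (∃ (F : Type) (_ : Field F) (_ : Fintype F) (n : ℕ), 2 ≤ n ∧
          Fintype.card F = (2 ^ n) ^ 2 ∧ Nonempty (G ≃* Cfsg.PSU 3 F (2 ^ n))) := by
  obtain ⟨t, ht, ht2⟩ := exists_involution_notMem hH
  have hS := setup_of_isSplit hH hQ ht ht2
  have hf : FaithfulSMul G (G ⧸ H) := faithfulSMul_of_core (normalCore_eq_bot_of_simple hH.1)
  obtain ⟨L, hL, hLi, hcase⟩ := Cfsg.Agent.S1136.result hS hr.exists_sq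
  have hLtop : L = ⊤ := by
    rcases IsSimpleGroup.eq_bot_or_eq_top_of_normal L hL with h | h
    · exfalso
      rw [h, Subgroup.index_bot] at hLi
      refine not_odd_of_mem (⊤ : Subgroup G) t trivial ht2 ?_
      rwa [Subgroup.card_top]
    · exact h
  subst hLtop
  have e : G ≃* (⊤ : Subgroup G) := Subgroup.topEquiv.symm
  rcases hcase with ⟨F, h1, h2, h3, ⟨f⟩⟩ | ⟨F, h1, h2, m, hm, hcard, ⟨f⟩⟩ | ⟨F, h1, h2, n, hn, hcard, ⟨f⟩⟩
  · exact Or.inl ⟨F, h1, h2, h3, ⟨e.trans f⟩⟩
  · exact Or.inr (Or.inl ⟨F, h1, h2, m, hm, hcard, ⟨e.trans f⟩⟩)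
  · exact Or.inr (Or.inr ⟨F, h1, h2, n, hn, hcard, ⟨e.trans f⟩⟩)

end

end Cfsg.Agent.StrongEmb.Simple
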