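import Mathlib
import Cfsg.Prelude.Def_LieRecognition
import Cfsg.Prelude.Def_Exceptional
import Cfsg.Prelude.Def_Sz
import Cfsg.Prelude.Def_Classical
import Cfsg.Agent.S1136
import Cfsg.Agent.S1163
import Cfsg.Agent.S0204

/-!
# From the classification of split rank one groups (S1136) to simple groups

`of_setup`: a non-cyclic simple group with a rank one set-up is `PSL₂(2^n)`, of Suzuki order, or
`PSU₃(2^n)`.
-/

set_option autoImplicit false

namespace Cfsg.Agent.StrongEmb.RankOne

open Cfsg MulAction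

theorem not_isCyclic_of_exists {G : Type*} [Group G] [Finite G] [IsSimpleGroup G] (H : Subgroup G)
    (hH : H ≠ ⊤) (hH' : H ≠ ⊥) : ¬ IsCyclic G := by
  intro h
  have hc : ∀ a b : G, a * b = b * a := fun a b => by
    let _ : CommGroup G := IsCyclic.commGroup
    exact mul_comm a b
  have hn : H.Normal := ⟨fun n hn g => by rw [hc g n, mul_assoc, mul_inv_cancel, mul_one]; exact hn⟩
  rcases IsSimpleGroup.eq_bot_or_eq_top_of_normal H hn with h1 | h1
  · exact hH' h1
  · exact hH h1

/-- A nontrivial action of a simple group is faithful. -/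
theorem faithfulSMul_of_simple {G Ω : Type*} [Group G] [IsSimpleGroup G] [MulAction G Ω] {t : G} {a : Ω}
    (h : t • a ≠ a) : FaithfulSMul G Ω := by
  have hker : (MulAction.toPermHom G Ω).ker = ⊥ := by
    rcases IsSimpleGroup.eq_bot_or_eq_top_of_normal (MulAction.toPermHom G Ω).ker inferInstance with
      h1 | h1
    · exact h1
    · exfalso
      apply h
      have h2 : t ∈ (MulAction.toPermHom G Ω).ker := by rw [h1]; trivial
      have h3 := congrArg (fun f : Equiv.Perm Ω => f a) (MonoidHom.mem_ker.mp h2)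
      simpa using h3
  refine ⟨fun {g₁ g₂} hg => ?_⟩
  have h1 : (MulAction.toPermHom G Ω) g₁ = (MulAction.toPermHom G Ω) g₂ := by
    ext x; exact hg x
  exact (MonoidHom.ker_eq_bot_iff _).mp hker h1

/-- Two distinct commuting involutions from a Klein four-subgroup. -/
theorem exists_commuting {G : Type*} [Group G] {E : Subgroup G} (hE : IsKleinFour E) :
    ∃ x y : G, x ≠ 1 ∧ y ≠ 1 ∧ x ≠ y ∧ x * x = 1 ∧ y * y = 1 ∧ x * y = y * x := by
  have hcard : Nat.card E = 4 := hE.card_four
  have hf : Finite E := Nat.finite_of_card_ne_zero (by rw [hcard]; norm_num)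
  have hsq : ∀ x : E, x * x = 1 := fun x => IsKleinFour.mul_self x
  have hcomm : ∀ x y : E, x * y = y * x := by
    intro x y
    have h1 := hsq (x * y)
    have hx : x⁻¹ = x := inv_eq_of_mul_eq_one_right (hsq x)
    have hy : y⁻¹ = y := inv_eq_of_mul_eq_one_right (hsq y)
    have h2 : (x * y)⁻¹ = x * y := inv_eq_of_mul_eq_one_right h1
    rw [← h2, mul_inv_rev, hx, hy]
  have h1 : ∃ x : E, x ≠ 1 := by
    by_contra hcon
    push Not at hcon
    have : Subsingleton E := ⟨fun a b => by rw [hcon a, hcon b]⟩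
    rw [Nat.card_unique] at hcard
    omega
  obtain ⟨x, hx⟩ := h1
  have h2 : ∃ y : E, y ≠ 1 ∧ y ≠ x := by
    by_contra hcon
    push Not at hcon
    have hle : Nat.card E ≤ 2 := by
      classical
      have hfin : Fintype E := Fintype.ofFinite E
      rw [Nat.card_eq_fintype_card, ← Finset.card_univ]
      have hsub : (Finset.univ : Finset E) ⊆ {1, x} := by
        intro y _
        by_cases hy : y = 1
        · simp [hy]
        · simp [hcon y hy]
      exact (Finset.card_le_card hsub).trans (Finset.card_le_two)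
    omega
  obtain ⟨y, hy, hyx⟩ := h2
  refine ⟨x, y, ?_, ?_, ?_, ?_, ?_, ?_⟩
  · exact fun h => hx (Subtype.ext h)
  · exact fun h => hy (Subtype.ext h)
  · exact fun h => hyx (Subtype.ext h.symm)
  · exact congrArg Subtype.val (hsq x)
  · exact congrArg Subtype.val (hsq y)
  · exact congrArg Subtype.val (hcomm x y)

/-- The order of `L` in terms of an isomorphism with the matrix Suzuki group. -/
theorem isSuzuki_of_isoSuzuki {G : Type*} [Group G] [IsSimpleGroup G] (h : Cfsg.Lie.IsoSuzuki G) :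
    Cfsg.IsSuzuki G := by
  obtain ⟨F, hF1, hF2, m, hm, hF, ⟨e⟩⟩ := h
  refine ⟨inferInstance, m, hm, ?_⟩
  rw [Nat.card_congr e.toEquiv, (Cfsg.Agent.S1163.result hm hF).1]
  ring

/-- **Suzuki's theorem for simple groups** (from S1136). -/
theorem of_setup {G Ω : Type*} [Group G] [Finite G] [IsSimpleGroup G] [MulAction G Ω] {a : Ω}
    {t : G} {Q : Subgroup G} (hS : Cfsg.IsRankOneSetup G Ω a t Q) (hcyc : ¬ IsCyclic G) :
    (∃ (F : Type) (_ : Field F) (_ : Fintype F), (∃ n : ℕ, 2 ≤ n ∧ Fintype.card F = 2 ^ n) ∧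
          Nonempty (G ≃* Matrix.ProjectiveSpecialLinearGroup (Fin 2) F)) ∨
        Cfsg.IsSuzuki G ∨
        (∃ (F : Type) (_ : Field F) (_ : Fintype F) (n : ℕ), 2 ≤ n ∧ Fintype.card F = (2 ^ n) ^ 2 ∧
          Nonempty (G ≃* Cfsg.PSU 3 F (2 ^ n))) := by
  have hfaith : FaithfulSMul G Ω := faithfulSMul_of_simple (t := t) (a := a) hS.not_mem
  obtain ⟨E, hE⟩ := Cfsg.Agent.S0204.result hcyc
  obtain ⟨L, hL, hodd, hcases⟩ := Cfsg.Agent.S1136.result hS (exists_commuting hE)
  have heven : Even (Nat.card G) := by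
    rw [even_iff_two_dvd]
    exact (even_iff_two_dvd.mp hS.even_card).trans (Subgroup.card_subgroup_dvd_card Q)
  have hLtop : L = ⊤ := by
    rcases IsSimpleGroup.eq_bot_or_eq_top_of_normal L hL with h1 | h1
    · exfalso
      rw [h1, Subgroup.index_bot] at hodd
      exact (Nat.not_even_iff_odd.mpr hodd) heven
    · exact h1
  have e : L ≃* G := (MulEquiv.subgroupCongr hLtop).trans Subgroup.topEquiv
  rcases hcases with ⟨F, hF1, hF2, hn, ⟨f⟩⟩ | hsz | ⟨F, hF1, hF2, n, hn, hcard, ⟨f⟩⟩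
  · exact Or.inl ⟨F, hF1, hF2, hn, ⟨e.symm.trans f⟩⟩
  · refine Or.inr (Or.inl (isSuzuki_of_isoSuzuki ?_))
    obtain ⟨F, hF1, hF2, m, hm, hF, ⟨f⟩⟩ := hsz
    exact ⟨F, hF1, hF2, m, hm, hF, ⟨e.symm.trans f⟩⟩
  · exact Or.inr (Or.inr ⟨F, hF1, hF2, n, hn, hcard, ⟨e.symm.trans f⟩⟩)

end Cfsg.Agent.StrongEmb.RankOne
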