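import Mathlib
import Cfsg.Prelude.Def_Characters
import Cfsg.Agent.S0877

/-!
# Normal complements of point stabilizers from local transitivity

`exists_compl`: let a finite group `C` act on `Ω`, let `Y` be the stabilizer of `b`. Assume that for
every nontrivial subgroup `J ≤ Y` which is cyclic or a `p`-group the number of fixed points of `J`
is prime to `|Y|` and `C_C(J)` moves `b` to each fixed point of `J`. Then `Y` has a normal
complement in `C`.
-/

set_option autoImplicit false

namespace Cfsg.Agent.StrongEmb.TransferCompl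

open Cfsg MulAction

variable {C Ω : Type*} [Group C] [MulAction C Ω]

/-- A `p`-group normalising `J` has a fixed point among the fixed points of `J`, if their number is
prime to `p`. -/
theorem exists_fixed [Finite Ω] {p : ℕ} (hp : p.Prime) {J K : Subgroup C}
    (hK : IsPGroup p K) (hKJ : ∀ k ∈ K, ∀ j ∈ J, k⁻¹ * j * k ∈ J)
    (hn : ¬ p ∣ Nat.card (fixedPoints J Ω)) :
    ∃ x : Ω, (∀ j ∈ J, j • x = x) ∧ ∀ k ∈ K, k • x = x := by
  have : Fact p.Prime := ⟨hp⟩
  let S : SubMulAction K Ω :=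
    { carrier := fixedPoints J Ω
      smul_mem' := by
        rintro k x hx ⟨j, hj⟩
        have h1 : (k : C)⁻¹ * j * k ∈ J := hKJ k k.2 j hj
        have h2 := hx ⟨_, h1⟩
        change ((k : C)⁻¹ * j * k) • x = x at h2
        change j • (k : C) • x = (k : C) • x
        calc j • (k : C) • x = (k : C) • (((k : C)⁻¹ * j * k) • x) := by
              simp only [← mul_smul]; congr 1; group
          _ = _ := by rw [h2] }
  have hcard : Nat.card S = Nat.card (fixedPoints J Ω) := rfl
  have := hK.nonempty_fixed_point_of_prime_not_dvd_card S (by rwa [hcard])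
  obtain ⟨x, hx⟩ := this
  refine ⟨x, fun j hj => x.2 ⟨j, hj⟩, fun k hk => ?_⟩
  have := hx ⟨k, hk⟩
  exact congrArg Subtype.val this

/-- The hypothesis on the subgroup `J` of the stabilizer of `b`. -/
def Local (b : Ω) (J : Subgroup C) : Prop :=
  Nat.Coprime (Nat.card (fixedPoints J Ω)) (Nat.card (stabilizer C b)) ∧
    ∀ x : Ω, (∀ j ∈ J, j • x = x) → ∃ g : C, (∀ j ∈ J, g * j = j * g) ∧ g • b = x

section

variable {b : Ω}

/-- fusion is controlled -/
theorem fusion {J : Subgroup C} (hloc : Local b J) {g : C} (hg : ∀ j ∈ J, g * j * g⁻¹ ∈ stabilizer C b) :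
    ∃ h ∈ stabilizer C b, ∀ j ∈ J, h * j * h⁻¹ = g * j * g⁻¹ := by
  obtain ⟨c, hc, hcb⟩ := hloc.2 (g⁻¹ • b) (fun j hj => by
    have := hg j hj
    rw [mem_stabilizer_iff, mul_smul, mul_smul] at this
    rw [eq_inv_smul_iff, this])
  refine ⟨g * c, ?_, fun j hj => ?_⟩
  · rw [mem_stabilizer_iff, mul_smul, hcb, smul_inv_smul]
  · rw [mul_inv_rev, mul_assoc g c j, hc j hj]; group

/-- A `p`-group normalising `J` can be moved into the stabilizer by an element centralising `J`. -/
theorem exists_conj [Finite Ω] {p : ℕ} (hp : p.Prime) (hpY : p ∣ Nat.card (stabilizer C b))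
    {J K : Subgroup C} (hloc : Local b J)
    (hK : IsPGroup p K) (hKJ : ∀ k ∈ K, ∀ j ∈ J, k⁻¹ * j * k ∈ J) :
    ∃ c : C, (∀ j ∈ J, c * j = j * c) ∧ ∀ k ∈ K, c * k * c⁻¹ ∈ stabilizer C b := by
  obtain ⟨x, hxJ, hxK⟩ := exists_fixed (Ω := Ω) hp hK hKJ (fun h =>
    hp.one_lt.ne' (Nat.dvd_one.mp (hloc.1 ▸ Nat.dvd_gcd h hpY)))
  obtain ⟨g, hg, hgb⟩ := hloc.2 x hxJ
  refine ⟨g⁻¹, fun j hj => ?_, fun k hk => ?_⟩
  · rw [inv_mul_eq_iff_eq_mul, ← mul_assoc, hg j hj, mul_inv_cancel_right]
  · rw [mem_stabilizer_iff, inv_inv, mul_smul, mul_smul, hgb, hxK k hk, inv_smul_eq_iff, hgb]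

/-- Conjugate subgroups, elementwise. -/
theorem card_map_conj (K : Subgroup C) (c : C) :
    Nat.card (K.map (MulAut.conj c).toMonoidHom) = Nat.card K :=
  Nat.card_congr (K.equivMapOfInjective _ (MulAut.conj c).injective).symm.toEquiv

theorem hall [Finite C] [Finite Ω]
    (H : ∀ J : Subgroup C, J ≠ ⊥ → J ≤ stabilizer C b → (∃ p : ℕ, p.Prime ∧ IsPGroup p J) →
      Local b J) :
    Nat.Coprime (Nat.card (stabilizer C b)) (stabilizer C b).index := by
  classical
  set Y := stabilizer C b with hYdef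
  rw [Nat.coprime_iff_gcd_eq_one]
  by_contra hne
  obtain ⟨p, hp, hpd⟩ := Nat.exists_prime_and_dvd hne
  have : Fact p.Prime := ⟨hp⟩
  have hpY : p ∣ Nat.card Y := hpd.trans (Nat.gcd_dvd_left _ _)
  have hpI : p ∣ Y.index := hpd.trans (Nat.gcd_dvd_right _ _)
  obtain ⟨P⟩ : Nonempty (Sylow p Y) := inferInstance
  set P' : Subgroup C := (P : Subgroup Y).map Y.subtype with hP'
  have hP'card : Nat.card P' = p ^ (Nat.card Y).factorization p := by
    rw [hP', Nat.card_congr ((P : Subgroup Y).equivMapOfInjective _ Y.subtype_injective).symm.toEquiv,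
      Sylow.card_eq_multiplicity]
  have hdvd : p ^ ((Nat.card Y).factorization p + 1) ∣ Nat.card C := by
    rw [← Y.card_mul_index, pow_succ]
    exact mul_dvd_mul (Nat.ordProj_dvd _ _) hpI
  obtain ⟨K, hKcard, hP'K⟩ := Sylow.exists_subgroup_card_pow_succ hdvd hP'card
  have hKp : IsPGroup p K := IsPGroup.of_card hKcard
  have hP'p : IsPGroup p P' := IsPGroup.of_card hP'card
  have hne1 : (Nat.card Y).factorization p ≠ 0 :=
    (hp.factorization_pos_of_dvd Nat.card_pos.ne' hpY).ne'
  have hP'ne : P' ≠ ⊥ := by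
    intro h
    rw [h, Subgroup.card_bot] at hP'card
    exact hne1 (Nat.pow_right_injective hp.two_le (by simpa using hP'card.symm))
  have hP'Y : P' ≤ Y := Subgroup.map_subtype_le _
  -- `P'` is normal in `K`
  have hidx : (P'.subgroupOf K).index = p := by
    have h1 := (P'.subgroupOf K).card_mul_index
    rw [Nat.card_congr (Subgroup.subgroupOfEquivOfLe hP'K).toEquiv, hP'card, hKcard, pow_succ] at h1
    exact Nat.eq_of_mul_eq_mul_left (pow_pos hp.pos _) h1
  have hnorm : (P'.subgroupOf K).Normal := by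
    apply Subgroup.normal_of_index_eq_minFac_card
    rw [hidx, hKcard, Nat.pow_minFac (Nat.succ_ne_zero _), hp.minFac_eq]
  obtain ⟨c, -, hcK⟩ := exists_conj (b := b) hp hpY (H P' hP'ne hP'Y ⟨p, hp, hP'p⟩) hKp
    (fun k hk j hj => by
      have := hnorm.conj_mem ⟨j, hP'K hj⟩ (by simpa [Subgroup.mem_subgroupOf] using hj)
        ⟨k⁻¹, inv_mem hk⟩
      simpa [Subgroup.mem_subgroupOf] using this)
  have hle : K.map (MulAut.conj c).toMonoidHom ≤ Y := by
    rintro _ ⟨k, hk, rfl⟩
    exact hcK k hk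
  have h3 : p ^ ((Nat.card Y).factorization p + 1) ∣ Nat.card Y := by
    rw [← hKcard, ← card_map_conj K c]
    exact Subgroup.card_dvd_of_le hle
  exact Nat.pow_succ_factorization_not_dvd Nat.card_pos.ne' hp h3

/-- `p`-subgroups are conjugate into a Hall subgroup of order divisible by `p`. -/
theorem pGroup_conj_of_hall [Finite C] {Y : Subgroup C}
    (hH : Nat.Coprime (Nat.card Y) Y.index) {p : ℕ} (hp : p.Prime) (hpY : p ∣ Nat.card Y)
    {K : Subgroup C} (hK : IsPGroup p K) : ∃ c : C, ∀ k ∈ K, c * k * c⁻¹ ∈ Y := by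
  classical
  have : Fact p.Prime := ⟨hp⟩
  obtain ⟨P⟩ : Nonempty (Sylow p Y) := inferInstance
  set P' : Subgroup C := (P : Subgroup Y).map Y.subtype with hP'
  have hP'card : Nat.card P' = p ^ (Nat.card Y).factorization p := by
    rw [hP', Nat.card_congr ((P : Subgroup Y).equivMapOfInjective _ Y.subtype_injective).symm.toEquiv,
      Sylow.card_eq_multiplicity]
  have hfac : (Nat.card C).factorization p = (Nat.card Y).factorization p := by
    rw [← Y.card_mul_index, Nat.factorization_mul Nat.card_pos.ne' Subgroup.index_ne_zero_of_finite,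
      Finsupp.add_apply, Nat.factorization_eq_zero_of_not_dvd (n := Y.index), add_zero]
    intro h
    exact hp.one_lt.ne' (Nat.dvd_one.mp (hH ▸ Nat.dvd_gcd hpY h))
  let Q : Sylow p C := Sylow.ofCard P' (by rw [hP'card, hfac])
  obtain ⟨S, hS⟩ := hK.exists_le_sylow
  obtain ⟨g, hg⟩ := MulAction.exists_smul_eq C S Q
  refine ⟨g, fun k hk => ?_⟩
  have h1 : g * k * g⁻¹ ∈ (g • S : Sylow p C) := by
    rw [Sylow.smul_def]
    exact Subgroup.smul_mem_pointwise_smul _ _ _ (hS hk)
  rw [hg] at h1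
  exact (Subgroup.map_subtype_le (P : Subgroup Y)) h1

theorem element_conj [Finite C] [Finite Ω]
    (hH : Nat.Coprime (Nat.card (stabilizer C b)) (stabilizer C b).index)
    (H : ∀ x ∈ stabilizer C b, x ≠ 1 → Local b (Subgroup.zpowers x)) :
    ∀ n : ℕ, ∀ x : C, orderOf x = n → n ∣ Nat.card (stabilizer C b) →
      ∃ c : C, c * x * c⁻¹ ∈ stabilizer C b := by
  intro n
  induction n using Nat.strong_induction_on with
  | _ n ih =>
    intro x hx hn
    by_cases hn1 : n = 1
    · refine ⟨1, ?_⟩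
      rw [hn1, orderOf_eq_one_iff] at hx
      simp [hx, one_mem]
    obtain ⟨p, hp, hpn⟩ := Nat.exists_prime_and_dvd hn1
    have : Fact p.Prime := ⟨hp⟩
    have hn0 : n ≠ 0 := by rw [← hx]; exact (orderOf_pos x).ne'
    obtain ⟨a, m, hpm, hnam⟩ := Nat.exists_eq_pow_mul_and_not_dvd hn0 p hp.ne_one
    have ha : a ≠ 0 := by
      rintro rfl
      rw [pow_zero, one_mul] at hnam
      exact hpm (hnam ▸ hpn)
    have hm0 : m ≠ 0 := by rintro rfl; exact hpm (dvd_zero _)
    have hcop : Nat.Coprime (p ^ a) m := (Nat.Prime.coprime_iff_not_dvd hp).mpr hpm |>.pow_left a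
    have hu : orderOf (x ^ (p ^ a)) = m := by
      rw [orderOf_pow_of_dvd (pow_pos hp.pos _).ne' (by rw [hx, hnam]; exact dvd_mul_right _ _), hx,
        hnam, Nat.mul_div_cancel_left _ (pow_pos hp.pos _)]
    have hv : orderOf (x ^ m) = p ^ a := by
      rw [orderOf_pow_of_dvd hm0 (by rw [hx, hnam]; exact dvd_mul_left _ _), hx,
        hnam, Nat.mul_div_cancel _ (Nat.pos_of_ne_zero hm0)]
    have hlt : m < n := by
      rw [hnam]
      calc m = 1 * m := (one_mul m).symm
        _ < p ^ a * m := Nat.mul_lt_mul_of_pos_right (Nat.one_lt_pow ha hp.one_lt)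
            (Nat.pos_of_ne_zero hm0)
    -- `x` is in the subgroup generated by the two parts
    have hx_mem : ∀ (Z : Subgroup C) (d : C), d * x ^ (p ^ a) * d⁻¹ ∈ Z → d * x ^ m * d⁻¹ ∈ Z →
        d * x * d⁻¹ ∈ Z := by
      intro Z d h1 h2
      have h3 := Nat.gcd_eq_gcd_ab (p ^ a) m
      rw [hcop] at h3
      have h4 : d * x * d⁻¹ = (d * x ^ (p ^ a) * d⁻¹) ^ (Nat.gcdA (p ^ a) m) *
          (d * x ^ m * d⁻¹) ^ (Nat.gcdB (p ^ a) m) := by
        rw [← conj_pow, ← conj_pow, ← zpow_natCast, ← zpow_natCast, ← zpow_mul, ← zpow_mul,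
          ← zpow_add, ← h3, Nat.cast_one, zpow_one]
      rw [h4]
      exact mul_mem (zpow_mem h1 _) (zpow_mem h2 _)
    have hpY : p ∣ Nat.card (stabilizer C b) := hpn.trans hn
    by_cases hm1 : m = 1
    · -- prime power order
      have hxp : IsPGroup p (Subgroup.zpowers x) := by
        apply IsPGroup.of_card (n := a)
        rw [Nat.card_zpowers, hx, hnam, hm1, mul_one]
      obtain ⟨c, hc⟩ := pGroup_conj_of_hall hH hp hpY hxp
      exact ⟨c, hc x (Subgroup.mem_zpowers x)⟩
    · obtain ⟨g, hg⟩ := ih m hlt (x ^ (p ^ a)) hu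
        ((Dvd.intro_left _ hnam.symm).trans hn)
      set u := g * x ^ (p ^ a) * g⁻¹ with hudef
      set v := g * x ^ m * g⁻¹ with hvdef
      have hcomm : u * v = v * u := by
        rw [hudef, hvdef]
        simp only [mul_assoc, inv_mul_cancel_left]
        rw [← mul_assoc (x ^ (p ^ a)), ← mul_assoc (x ^ m), ← pow_add, ← pow_add, add_comm]
      have hu1 : u ≠ 1 := by
        intro h
        have h5 : x ^ (p ^ a) = 1 := by
          have : g * x ^ (p ^ a) * g⁻¹ = 1 := h
          rwa [mul_inv_eq_one, mul_eq_left] at this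
        rw [h5, orderOf_one] at hu
        exact hm1 hu.symm
      have hvp : IsPGroup p (Subgroup.zpowers v) := by
        apply IsPGroup.of_card (n := a)
        rw [Nat.card_zpowers, hvdef]
        have : orderOf (g * x ^ m * g⁻¹) = orderOf (x ^ m) :=
          orderOf_injective (MulAut.conj g).toMonoidHom (MulAut.conj g).injective (x ^ m)
        rw [this, hv]
      obtain ⟨c, hcu, hcv⟩ := exists_conj (b := b) hp hpY (H u hg hu1) hvp (by
        intro k hk j hj
        rw [Subgroup.mem_zpowers_iff] at hk hj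
        obtain ⟨s, rfl⟩ := hk
        obtain ⟨r, rfl⟩ := hj
        have h6 : Commute (u ^ r) (v ^ s) := (show Commute u v from hcomm).zpow_zpow r s
        rw [mul_assoc, h6.eq, inv_mul_cancel_left]
        exact zpow_mem (Subgroup.mem_zpowers u) r)
      refine ⟨c * g, hx_mem _ _ ?_ ?_⟩
      · have h7 : c * g * x ^ (p ^ a) * (c * g)⁻¹ = c * u * c⁻¹ := by rw [hudef]; group
        rw [h7, hcu u (Subgroup.mem_zpowers u), mul_inv_cancel_right]
        exact hg
      · have h7 : c * g * x ^ m * (c * g)⁻¹ = c * v * c⁻¹ := by rw [hvdef]; group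
        rw [h7]
        exact hcv v (Subgroup.mem_zpowers v)

/-- **Normal complement of a point stabilizer.** Hypothesis for the nontrivial subgroups of the
stabilizer which are cyclic or `p`-groups. -/
theorem exists_compl [Finite C] [Finite Ω] (b : Ω)
    (H : ∀ J : Subgroup C, J ≠ ⊥ → J ≤ stabilizer C b →
      (IsCyclic J ∨ ∃ p : ℕ, p.Prime ∧ IsPGroup p J) → Local b J) :
    ∃ K : Subgroup C, K.Normal ∧ K ⊔ stabilizer C b = ⊤ ∧ K ⊓ stabilizer C b = ⊥ := by
  classical
  have hH := hall (b := b) (fun J h1 h2 h3 => H J h1 h2 (Or.inr h3))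
  have H1 : ∀ x ∈ stabilizer C b, x ≠ 1 → Local b (Subgroup.zpowers x) := fun x hx hx1 =>
    H _ (by rwa [Ne, Subgroup.zpowers_eq_bot]) (by rwa [Subgroup.zpowers_le])
      (Or.inl inferInstance)
  apply Cfsg.Agent.S0877.result (stabilizer C b) hH
  · intro x hx y hy hxy
    obtain ⟨g, hg⟩ := isConj_iff.mp hxy
    by_cases hx1 : x = 1
    · subst hx1
      exact ⟨1, one_mem _, by rw [← hg]; group⟩
    · obtain ⟨h, hh, hh2⟩ := fusion (H1 x hx hx1) (g := g) (by
        intro j hj
        obtain ⟨r, rfl⟩ := Subgroup.mem_zpowers_iff.mp hj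
        rw [← conj_zpow, hg]
        exact zpow_mem hy r)
      exact ⟨h, hh, by rw [hh2 x (Subgroup.mem_zpowers x), hg]⟩
  · rintro E p hp ⟨x, hxc, hxp, k, hk⟩ hE
    have : Fact p.Prime := ⟨hp⟩
    have hxE : orderOf (x : C) ∣ Nat.card (stabilizer C b) := by
      rw [Subgroup.orderOf_coe]
      exact (orderOf_dvd_natCard x).trans hE
    obtain ⟨P⟩ : Nonempty (Sylow p E) := inferInstance
    -- `E` is generated by `x` and `P`
    have hgen : Subgroup.zpowers x ⊔ (P : Subgroup E) = ⊤ := by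
      rw [← Subgroup.index_eq_one]
      have h1 : (Subgroup.zpowers x ⊔ (P : Subgroup E)).index ∣ p ^ k := by
        rw [← hk]; exact Subgroup.index_dvd_of_le le_sup_left
      have h2 : (Subgroup.zpowers x ⊔ (P : Subgroup E)).index ∣ (P : Subgroup E).index :=
        Subgroup.index_dvd_of_le le_sup_right
      have h3 : Nat.Coprime (p ^ k) (P : Subgroup E).index :=
        (Nat.Prime.coprime_iff_not_dvd hp).mpr P.not_dvd_index |>.pow_left k
      exact Nat.dvd_one.mp (h3 ▸ Nat.dvd_gcd h1 h2)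
    -- it is enough to conjugate `x` and `P`
    have key : ∀ c : C, c * x * c⁻¹ ∈ stabilizer C b →
        (∀ y ∈ (P : Subgroup E), c * y * c⁻¹ ∈ stabilizer C b) →
        E.map (MulAut.conj c).toMonoidHom ≤ stabilizer C b := by
      intro c h1 h2
      have h3 : (⊤ : Subgroup E) ≤
          (stabilizer C b).comap ((MulAut.conj c).toMonoidHom.comp E.subtype) := by
        rw [← hgen, sup_le_iff, Subgroup.zpowers_le]
        exact ⟨h1, fun y hy => h2 y hy⟩
      rintro _ ⟨e, he, rfl⟩
      exact h3 (Subgroup.mem_top (⟨e, he⟩ : E))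
    by_cases hPbot : (P : Subgroup E) = ⊥
    · obtain ⟨c, hc⟩ := element_conj hH H1 _ (x : C) rfl hxE
      refine ⟨c, key c hc ?_⟩
      intro y hy
      rw [hPbot, Subgroup.mem_bot] at hy
      subst hy
      simp [one_mem]
    have hpY : p ∣ Nat.card (stabilizer C b) := by
      refine dvd_trans ?_ ((Subgroup.card_subgroup_dvd_card (P : Subgroup E)).trans hE)
      obtain ⟨n, hn⟩ := IsPGroup.iff_card.mp P.isPGroup'
      rw [hn]
      refine dvd_pow_self p ?_
      rintro rfl
      rw [pow_zero] at hn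
      exact hPbot (Subgroup.card_eq_one.mp hn)
    have hPp : ∀ g : C, IsPGroup p ((((P : Subgroup E).map E.subtype)).map
        (MulAut.conj g).toMonoidHom) := fun g =>
      (P.isPGroup'.map _).map _
    by_cases hx1 : x = 1
    · obtain ⟨c, hc⟩ := pGroup_conj_of_hall hH hp hpY (P.isPGroup'.map E.subtype)
      refine ⟨c, key c (by simp [hx1, one_mem]) fun y hy => hc y ⟨y, hy, rfl⟩⟩
    · obtain ⟨g, hg⟩ := element_conj hH H1 _ (x : C) rfl hxE
      have hne : g * x * g⁻¹ ≠ 1 := by
        intro h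
        rw [mul_inv_eq_one, mul_eq_left] at h
        exact hx1 (by exact_mod_cast h)
      obtain ⟨c, hcx, hcP⟩ := exists_conj (b := b) hp hpY (H1 _ hg hne) (hPp g) (by
        rintro _ ⟨_, ⟨y, hy, rfl⟩, rfl⟩ j hj
        obtain ⟨r, rfl⟩ := Subgroup.mem_zpowers_iff.mp hj
        have h5 : Commute (x : C) (y : C) := by
          have := Subgroup.mem_center_iff.mp hxc y
          exact (congrArg Subtype.val this).symm
        have h6 : Commute ((g * x * g⁻¹) ^ r) (g * y * g⁻¹) := by
          have : Commute (g * x * g⁻¹) (g * y * g⁻¹) := by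
            show g * x * g⁻¹ * (g * y * g⁻¹) = g * y * g⁻¹ * (g * x * g⁻¹)
            have h7 : g * x * g⁻¹ * (g * y * g⁻¹) = g * (x * y) * g⁻¹ := by group
            have h8 : g * y * g⁻¹ * (g * x * g⁻¹) = g * (y * x) * g⁻¹ := by group
            rw [h7, h8, h5.eq]
          exact this.zpow_left r
        show (g * y * g⁻¹)⁻¹ * (g * x * g⁻¹) ^ r * (g * y * g⁻¹) ∈ _
        have h7 : (g * (y : C) * g⁻¹)⁻¹ * (g * x * g⁻¹) ^ r * (g * y * g⁻¹) =
            (g * x * g⁻¹) ^ r := by
          rw [mul_assoc (g * (y : C) * g⁻¹)⁻¹, h6.eq, inv_mul_cancel_left]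
        rw [h7]
        exact zpow_mem (Subgroup.mem_zpowers _) r)
      refine ⟨c * g, key _ ?_ ?_⟩
      · have h9 : c * g * x * (c * g)⁻¹ = c * (g * x * g⁻¹) * c⁻¹ := by group
        rw [h9, hcx _ (Subgroup.mem_zpowers _), mul_inv_cancel_right]
        exact hg
      · intro y hy
        have h9 : c * g * y * (c * g)⁻¹ = c * (g * y * g⁻¹) * c⁻¹ := by group
        rw [h9]
        exact hcP _ ⟨y, ⟨y, hy, rfl⟩, rfl⟩

/-- Version with a stabilizer of odd order, fixed point numbers that are powers of two, and the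
hypothesis for all nontrivial nilpotent subgroups of the stabilizer. -/
theorem exists_compl_of_odd [Finite C] [Finite Ω] (b : Ω) (hodd : Odd (Nat.card (stabilizer C b)))
    (H : ∀ J : Subgroup C, J ≠ ⊥ → J ≤ stabilizer C b → Group.IsNilpotent J →
      (∃ k : ℕ, Nat.card (fixedPoints J Ω) = 2 ^ k) ∧
        ∀ x : Ω, (∀ j ∈ J, j • x = x) → ∃ g : C, (∀ j ∈ J, g * j = j * g) ∧ g • b = x) :
    ∃ K : Subgroup C, K.Normal ∧ K ⊔ stabilizer C b = ⊤ ∧ K ⊓ stabilizer C b = ⊥ := by
  refine exists_compl b fun J h1 h2 h3 => ?_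
  have hnil : Group.IsNilpotent J := by
    rcases h3 with h3 | ⟨p, hp, h3⟩
    · have := h3
      let _ : CommGroup J := IsCyclic.commGroup
      exact CommGroup.isNilpotent
    · have : Fact p.Prime := ⟨hp⟩
      exact h3.isNilpotent
  obtain ⟨⟨k, hk⟩, h5⟩ := H J h1 h2 hnil
  refine ⟨?_, h5⟩
  rw [hk]
  exact (Nat.coprime_two_left.mpr hodd).pow_left k

end

end Cfsg.Agent.StrongEmb.TransferCompl
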