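import Mathlib
import Cfsg.Agent.StrongEmb.TransferCompl
import Cfsg.Agent.Transfer.Tate
import Cfsg.Agent.Transfer.AbelianHall

/-!
# Normal complements of solvable point stabilizers from local transitivity

`exists_compl_of_isSolvable`: the finite group `C` acts on `Ω`, the stabilizer `Y` of `b` is solvable
and `Local b J` holds for all nontrivial `p`-subgroups `J ≤ Y` (all primes `p`). Then `Y` is a Hall
subgroup with a normal complement in `C`. Only `p`-subgroups are needed, in contrast to
`TransferCompl.exists_compl`.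
-/

set_option autoImplicit false

universe u v

namespace Cfsg.Agent.StrongEmb.TransferSolv

open Cfsg MulAction Cfsg.Agent.StrongEmb.TransferCompl

/-- A nontrivial finite solvable group has a prime `p` and a surjection onto a nontrivial abelian
`p`-group. -/
theorem exists_hom {V : Type u} [Group V] [Finite V] [Group.IsSolvable V] [Nontrivial V] :
    ∃ (p : ℕ) (A : Type u) (_ : CommGroup A) (f : V →* A), p.Prime ∧ IsPGroup p A ∧
      Function.Surjective f ∧ Nontrivial A ∧ p ∣ Nat.card V := by
  classical
  have h1 : commutator V ≠ ⊤ := (Group.IsSolvable.commutator_lt_top_of_nontrivial V).ne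
  have h2 : Nontrivial (Abelianization V) := by
    rw [← not_subsingleton_iff_nontrivial]
    intro hs
    apply h1
    rw [eq_top_iff]
    intro x _
    have : Abelianization.of x = 1 := Subsingleton.elim _ _
    rwa [← MonoidHom.mem_ker, Abelianization.ker_of] at this
  have h3 : Nat.card (Abelianization V) ≠ 1 := by
    intro h
    rw [Nat.card_eq_one_iff_unique] at h
    exact not_subsingleton_iff_nontrivial.mpr h2 h.1
  obtain ⟨p, hp, hpd⟩ := Nat.exists_prime_and_dvd h3
  have hpf : Fact p.Prime := ⟨hp⟩
  have hfin : Finite (Abelianization V) := inferInstanceAs (Finite (V ⧸ commutator V))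
  have hcard0 : Nat.card (Abelianization V) ≠ 0 := Nat.card_pos.ne'
  obtain ⟨a, m, hpm, hnam⟩ := Nat.exists_eq_pow_mul_and_not_dvd hcard0 p hp.ne_one
  let φ : V →* Abelianization V := (powMonoidHom m).comp Abelianization.of
  have hrange : IsPGroup p φ.range := by
    rintro ⟨_, v, rfl⟩
    refine ⟨a, ?_⟩
    apply Subtype.ext
    change ((Abelianization.of v) ^ m) ^ (p ^ a) = 1
    rw [← pow_mul, mul_comm, ← hnam, pow_card_eq_one']
  refine ⟨p, φ.range, inferInstance, φ.rangeRestrict, hp, hrange, φ.rangeRestrict_surjective, ?_, ?_⟩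
  · -- an element of order `p` is not killed by `m`
    obtain ⟨x, hx⟩ := exists_prime_orderOf_dvd_card' (G := Abelianization V) p hpd
    obtain ⟨v, rfl⟩ := QuotientGroup.mk_surjective x
    refine ⟨⟨⟨φ v, v, rfl⟩, 1, ?_⟩⟩
    intro h
    have h4 : (Abelianization.of v) ^ m = 1 := congrArg Subtype.val h
    have h5 : orderOf (Abelianization.of v) = p := hx
    exact hpm (h5 ▸ orderOf_dvd_of_pow_eq_one h4)
  · refine hpd.trans ?_
    exact Subgroup.card_quotient_dvd_card (commutator V)

/-- Elements of order dividing `|K|` lie in the normal subgroup `K` if `|K|` is prime to the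
index. -/
theorem mem_of_orderOf_dvd {C : Type*} [Group C] [Finite C] (K : Subgroup C) [K.Normal]
    (hK : Nat.Coprime (Nat.card K) K.index) {x : C} (hx : orderOf x ∣ Nat.card K) : x ∈ K := by
  rw [← QuotientGroup.eq_one_iff, ← orderOf_eq_one_iff]
  have h1 : orderOf (x : C ⧸ K) ∣ Nat.card K :=
    (orderOf_map_dvd (QuotientGroup.mk' K) x).trans hx
  have h2 : orderOf (x : C ⧸ K) ∣ K.index := by
    rw [Subgroup.index_eq_card]; exact orderOf_dvd_natCard _
  exact Nat.dvd_one.mp (hK ▸ Nat.dvd_gcd h1 h2)

/-- Passing to the kernel `N` of a homomorphism to a `p`-group, `p` dividing the order of the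
stabilizer. -/
theorem local_ker {C : Type u} {Ω : Type v} [Group C] [Finite C] [MulAction C Ω] [Finite Ω] {b : Ω}
    {A : Type u} [CommGroup A] {p : ℕ} (hp : p.Prime) (hA : IsPGroup p A) (F : C →* A)
    (hpY : p ∣ Nat.card (stabilizer C b)) {J : Subgroup F.ker} (hJ : ∀ j ∈ J, (j : C) • b = b)
    (h : Local b (J.map F.ker.subtype)) : Local b J := by
  classical
  have hpf : Fact p.Prime := ⟨hp⟩
  set J' := J.map F.ker.subtype with hJ'
  have hfix : fixedPoints J Ω = fixedPoints J' Ω := by
    ext x
    constructor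
    · rintro hx ⟨_, j, hj, rfl⟩
      exact hx ⟨j, hj⟩
    · rintro hx ⟨j, hj⟩
      exact hx ⟨(j : C), j, hj, rfl⟩
  have hdvd : Nat.card (stabilizer F.ker b) ∣ Nat.card (stabilizer C b) := by
    have h1 : Nat.card (stabilizer F.ker b) =
        Nat.card ((stabilizer F.ker b).map F.ker.subtype) :=
      (Subgroup.card_map_of_injective F.ker.subtype_injective).symm
    rw [h1]
    apply Subgroup.card_dvd_of_le
    rintro _ ⟨x, hx, rfl⟩
    exact hx
  refine ⟨?_, ?_⟩
  · rw [hfix]
    exact h.1.coprime_dvd_right hdvd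
  · intro x hx
    obtain ⟨g, hg, hgb⟩ := h.2 x (by
      rintro _ ⟨j, hj, rfl⟩
      exact hx j hj)
    -- the centralizer of `J'` in `C`
    let Z : Subgroup C := Subgroup.centralizer (J' : Set C)
    have hZ : ∀ {z : C}, z ∈ Z ↔ ∀ j ∈ J', z * j = j * z := by
      intro z
      rw [Subgroup.mem_centralizer_iff]
      exact ⟨fun h j hj => (h j hj).symm, fun h j hj => (h j hj).symm⟩
    -- its orbit of `b` is the set of fixed points
    have horb : Nat.card (orbit Z b) = Nat.card (fixedPoints J' Ω) := by
      congr 1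
      have : orbit Z b = fixedPoints J' Ω := by
        ext y
        constructor
        · rintro ⟨⟨z, hz⟩, rfl⟩ ⟨j, hj⟩
          change j • z • b = z • b
          rw [← mul_smul, ← hZ.mp hz j hj, mul_smul]
          congr 1
          obtain ⟨j', hj', rfl⟩ := hj
          exact hJ j' hj'
        · intro hy
          obtain ⟨z, hz, hzb⟩ := h.2 y (fun j hj => hy ⟨j, hj⟩)
          exact ⟨⟨z, hZ.mpr hz⟩, hzb⟩
      rw [this]
    have hidx : (stabilizer Z b).index = Nat.card (fixedPoints J' Ω) := by
      rw [MulAction.index_stabilizer, ← horb]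
      rfl
    let FZ : Z →* A := F.comp Z.subtype
    have hN : ∃ k, FZ.ker.index = p ^ k := by
      have hfinr : Finite FZ.range := Finite.of_surjective _ FZ.rangeRestrict_surjective
      rw [Subgroup.index_ker]
      exact IsPGroup.iff_card.mp (hA.to_subgroup FZ.range)
    have htop : FZ.ker ⊔ stabilizer Z b = ⊤ := by
      rw [← Subgroup.index_eq_one]
      obtain ⟨k, hk⟩ := hN
      have h1 : (FZ.ker ⊔ stabilizer Z b).index ∣ p ^ k := by
        rw [← hk]; exact Subgroup.index_dvd_of_le le_sup_left
      have h2 : (FZ.ker ⊔ stabilizer Z b).index ∣ Nat.card (fixedPoints J' Ω) := by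
        rw [← hidx]; exact Subgroup.index_dvd_of_le le_sup_right
      have h3 : Nat.Coprime (p ^ k) (Nat.card (fixedPoints J' Ω)) :=
        (h.1.coprime_dvd_right hpY).symm.pow_left k
      exact Nat.dvd_one.mp (h3 ▸ Nat.dvd_gcd h1 h2)
    have hgZ : (⟨g, hZ.mpr hg⟩ : Z) ∈ FZ.ker ⊔ stabilizer Z b := by
      rw [htop]; exact Subgroup.mem_top _
    obtain ⟨n, hn, s, hs, hns⟩ := Subgroup.mem_sup_of_normal_left.mp hgZ
    have hnF : F (n : C) = 1 := hn
    refine ⟨⟨(n : C), hnF⟩, fun j hj => ?_, ?_⟩
    · apply Subtype.ext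
      exact hZ.mp n.2 _ ⟨j, hj, rfl⟩
    · change (n : C) • b = x
      have h4 : (n : C) * (s : C) = g := congrArg Subtype.val hns
      have h5 : (s : C) • b = b := hs
      rw [← hgb, ← h4, mul_smul, h5]

theorem aux {Ω : Type v} [Finite Ω] (b : Ω) :
    ∀ n : ℕ, ∀ (C : Type u) [Group C] [Finite C] [MulAction C Ω],
      Nat.card (stabilizer C b) = n → Group.IsSolvable (stabilizer C b) →
      (∀ J : Subgroup C, J ≠ ⊥ → J ≤ stabilizer C b → (∃ p : ℕ, p.Prime ∧ IsPGroup p J) →
        Local b J) →
      ∃ K : Subgroup C, K.Normal ∧ K ⊔ stabilizer C b = ⊤ ∧ K ⊓ stabilizer C b = ⊥ := by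
  intro n
  induction n using Nat.strong_induction_on with
  | _ n ih =>
    intro C _ _ _ hn hsolv H
    rcases subsingleton_or_nontrivial (stabilizer C b) with hs | hs
    · refine ⟨⊤, inferInstance, top_sup_eq _, ?_⟩
      rw [top_inf_eq]
      exact Subgroup.eq_bot_of_subsingleton _
    have hHall := hall (b := b) H
    obtain ⟨p, A, _, f, hp, hA, hf, hAn, hpY⟩ := exists_hom (V := stabilizer C b)
    have hpf : Fact p.Prime := ⟨hp⟩
    have hpI : ¬ p ∣ (stabilizer C b).index := fun h =>
      hp.one_lt.ne' (Nat.dvd_one.mp (hHall ▸ Nat.dvd_gcd hpY h))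
    obtain ⟨P, hP⟩ := Cfsg.Agent.Transfer.AbelianHall.exists_sylow_le p _ hpI
    obtain ⟨F, hF⟩ := Cfsg.Agent.Transfer.Tate.hom_to_comm_pGroup_extends_of_fusion P
      (stabilizer C b) hP (by
        intro x hx g hg
        by_cases hx1 : x = 1
        · subst hx1
          exact ⟨1, one_mem _, by simp⟩
        · have hxp : IsPGroup p (Subgroup.zpowers x) :=
            P.isPGroup'.to_le (by rwa [Subgroup.zpowers_le])
          obtain ⟨h, hh, hh2⟩ := fusion (g := g) (H (Subgroup.zpowers x)
            (by rwa [Ne, Subgroup.zpowers_eq_bot])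
            (by rw [Subgroup.zpowers_le]; exact hP hx) ⟨p, hp, hxp⟩) (by
              intro j hj
              obtain ⟨r, rfl⟩ := Subgroup.mem_zpowers_iff.mp hj
              rw [← conj_zpow]
              exact zpow_mem (hP hg) r)
          exact ⟨h, hh, hh2 x (Subgroup.mem_zpowers x)⟩) hA f
    have hFs : Function.Surjective F := by
      intro y
      obtain ⟨v, rfl⟩ := hf y
      exact ⟨v, hF v⟩
    -- the new stabilizer
    have hstab : (stabilizer F.ker b).map F.ker.subtype = f.ker.map (stabilizer C b).subtype := by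
      ext x
      constructor
      · rintro ⟨⟨y, hy⟩, hyb, rfl⟩
        refine ⟨⟨y, hyb⟩, ?_, rfl⟩
        rw [SetLike.mem_coe, MonoidHom.mem_ker, ← hF]
        exact hy
      · rintro ⟨⟨y, hyb⟩, hy, rfl⟩
        refine ⟨⟨y, ?_⟩, hyb, rfl⟩
        rw [SetLike.mem_coe, MonoidHom.mem_ker, ← hF] at hy
        exact hy
    have hcard : Nat.card (stabilizer F.ker b) = Nat.card f.ker := by
      have e1 := Subgroup.card_map_of_injective (K := stabilizer F.ker b) F.ker.subtype_injective
      have e2 := Subgroup.card_map_of_injective (K := f.ker) (stabilizer C b).subtype_injective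
      rw [← e1, hstab, e2]
    have hlt : Nat.card (stabilizer F.ker b) < n := by
      rw [hcard, ← hn]
      have h1 := f.ker.card_mul_index
      have h2 : f.ker.index ≠ 1 := by
        rw [Ne, Subgroup.index_eq_one]
        intro htop
        obtain ⟨x, y, hxy⟩ := hAn
        apply hxy
        obtain ⟨x', rfl⟩ := hf x
        obtain ⟨y', rfl⟩ := hf y
        have hx' : x' ∈ f.ker := by rw [htop]; trivial
        have hy' : y' ∈ f.ker := by rw [htop]; trivial
        rw [MonoidHom.mem_ker.mp hx', MonoidHom.mem_ker.mp hy']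
      have h3 : f.ker.index ≠ 0 := Subgroup.index_ne_zero_of_finite
      have h4 : 0 < Nat.card f.ker := Nat.card_pos
      have h5 : 2 ≤ f.ker.index := by omega
      rw [← h1]
      nlinarith
    have hsolv' : Group.IsSolvable (stabilizer F.ker b) := by
      let g : stabilizer F.ker b →* stabilizer C b :=
        { toFun := fun x => ⟨(x : F.ker), x.2⟩
          map_one' := rfl
          map_mul' := fun _ _ => rfl }
      exact Group.isSolvable_of_isSolvable_injective (f := g) (by
        intro x y hxy
        have := congrArg Subtype.val hxy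
        exact Subtype.ext (Subtype.ext this))
    obtain ⟨K, hKn, hKtop, hKbot⟩ := ih _ hlt F.ker rfl hsolv' (by
      rintro J hJ hJb ⟨r, hr, hJr⟩
      refine local_ker hp hA F hpY (fun j hj => hJb hj) (H _ ?_ ?_ ⟨r, hr, hJr.map _⟩)
      · rwa [Ne, Subgroup.map_eq_bot_iff_of_injective _ F.ker.subtype_injective]
      · rintro _ ⟨j, hj, rfl⟩
        exact hJb hj)
    -- `K` is a normal Hall subgroup of the kernel, hence normal in `C`
    have hcardK : Nat.card K * Nat.card (stabilizer F.ker b) = Nat.card F.ker := by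
      have hc : K.IsComplement' (stabilizer F.ker b) :=
        Subgroup.isComplement'_of_disjoint_and_mul_eq_univ (disjoint_iff.mpr hKbot) (by
          rw [← Subgroup.normal_mul, hKtop, Subgroup.coe_top])
      exact hc.card_mul_card
    have hKidx : K.index = Nat.card (stabilizer F.ker b) := by
      have := K.card_mul_index
      rw [← hcardK] at this
      exact Nat.eq_of_mul_eq_mul_left Nat.card_pos this
    have hdvdK : Nat.card K ∣ (stabilizer C b).index := by
      have h1 : F.ker.index * Nat.card F.ker = Nat.card C := by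
        rw [mul_comm]; exact F.ker.card_mul_index
      have h2 : f.ker.index * Nat.card f.ker = Nat.card (stabilizer C b) := by
        rw [mul_comm]; exact f.ker.card_mul_index
      have h3 : F.ker.index = f.ker.index := by
        rw [Subgroup.index_ker, Subgroup.index_ker, MonoidHom.range_eq_top.mpr hFs,
          MonoidHom.range_eq_top.mpr hf]
      have h4 := (stabilizer C b).card_mul_index
      rw [← h1, ← h2, ← hcardK, hcard, h3] at h4
      have h5 : (f.ker.index * Nat.card f.ker) * (stabilizer C b).index =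
          (f.ker.index * Nat.card f.ker) * Nat.card K := by
        rw [h4]; ring
      have h6 : 0 < f.ker.index * Nat.card f.ker := by
        rw [h2]; exact Nat.card_pos
      exact (Nat.eq_of_mul_eq_mul_left h6 h5).symm.dvd
    have hcopK : Nat.Coprime (Nat.card K) K.index := by
      rw [hKidx, hcard]
      have h2 : Nat.card f.ker ∣ Nat.card (stabilizer C b) := Subgroup.card_subgroup_dvd_card _
      exact (hHall.symm.coprime_dvd_left hdvdK).coprime_dvd_right h2
    refine ⟨K.map F.ker.subtype, ⟨?_⟩, ?_, ?_⟩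
    · rintro _ ⟨k, hk, rfl⟩ g
      have hmem : g * (k : C) * g⁻¹ ∈ F.ker := F.normal_ker.conj_mem _ k.2 g
      refine ⟨⟨_, hmem⟩, mem_of_orderOf_dvd K hcopK ?_, rfl⟩
      have h1 : orderOf (⟨g * (k : C) * g⁻¹, hmem⟩ : F.ker) = orderOf k := by
        rw [← Subgroup.orderOf_coe, ← Subgroup.orderOf_coe k]
        exact orderOf_injective (MulAut.conj g).toMonoidHom (MulAut.conj g).injective (k : C)
      rw [h1]
      exact Subgroup.orderOf_dvd_natCard K hk
    · rw [eq_top_iff]
      intro c _
      obtain ⟨v, hv⟩ := hf (F c)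
      have h1 : c * (v : C)⁻¹ ∈ F.ker := by
        rw [MonoidHom.mem_ker, map_mul, map_inv, hF, hv, mul_inv_cancel]
      have h2 : (⟨_, h1⟩ : F.ker) ∈ K ⊔ stabilizer F.ker b := by
        rw [hKtop]; trivial
      obtain ⟨k, hk, s, hs, hks⟩ := Subgroup.mem_sup_of_normal_left.mp h2
      have h3 : (k : C) * (s : C) = c * (v : C)⁻¹ := congrArg Subtype.val hks
      have h4 : c = (k : C) * ((s : C) * (v : C)) := by
        rw [← mul_assoc, h3, inv_mul_cancel_right]
      rw [h4]
      exact mul_mem (Subgroup.mem_sup_left ⟨k, hk, rfl⟩)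
        (Subgroup.mem_sup_right (mul_mem hs v.2))
    · rw [eq_bot_iff]
      rintro _ ⟨⟨k, hk, rfl⟩, hkb⟩
      have h1 : k ∈ K ⊓ stabilizer F.ker b := ⟨hk, hkb⟩
      rw [hKbot, Subgroup.mem_bot] at h1
      rw [Subgroup.mem_bot, h1]
      rfl

/-- **Normal complement of a solvable point stabilizer** (hypothesis for `p`-subgroups only). -/
theorem exists_compl_of_isSolvable {C : Type u} {Ω : Type v} [Group C] [Finite C] [MulAction C Ω]
    [Finite Ω] (b : Ω) (hsolv : Group.IsSolvable (stabilizer C b))
    (H : ∀ J : Subgroup C, J ≠ ⊥ → J ≤ stabilizer C b → (∃ p : ℕ, p.Prime ∧ IsPGroup p J) →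
      Local b J) :
    ∃ K : Subgroup C, K.Normal ∧ K ⊔ stabilizer C b = ⊤ ∧ K ⊓ stabilizer C b = ⊥ :=
  aux b _ C rfl hsolv H

end Cfsg.Agent.StrongEmb.TransferSolv
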