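import Mathlib
import Cfsg.Agent.StrongEmb.Frame

/-!
# 2-elements lie in the subgroup generated by the involutions and the core

If `BenderHolds (G ⧸ O(G))` and `G` has a strongly embedded subgroup and two commuting involutions,
then every `2`-element of `G` lies in `⟨involutions⟩ O(G)` (`mem_sup`). `gen_inv` is the version
for subgroups.
-/

set_option autoImplicit false

universe u v

namespace Cfsg.Agent.StrongEmb.GenInv

open Cfsg MulAction Cfsg.Agent.TwoFusion.StronglyEmbeddedBasic
open Cfsg.Agent.StrongEmb.Basic Cfsg.Agent.StrongEmb.TwoRank Cfsg.Agent.StrongEmb.Split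
open Cfsg.Agent.StrongEmb.Consequences Cfsg.Agent.StrongEmb.Frame
open Cfsg.Agent.SuzukiRankOne.Reduction (invClosure mem_invClosure invClosure_normal)

/-- A `2`-element lies in every normal subgroup of odd index. -/
theorem mem_of_odd_index {K : Type*} [Group K] {M : Subgroup K} (hM : M.Normal)
    (hodd : Odd M.index) {h : K} (hh : ∃ n : ℕ, orderOf h = 2 ^ n) : h ∈ M := by
  obtain ⟨n, hn⟩ := hh
  rw [← QuotientGroup.ker_mk' M, MonoidHom.mem_ker, ← orderOf_eq_one_iff]
  have h1 : orderOf (QuotientGroup.mk' M h) ∣ 2 ^ n := by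
    rw [← hn]; exact orderOf_map_dvd _ h
  have h2 : orderOf (QuotientGroup.mk' M h) ∣ M.index := orderOf_dvd_natCard _
  have h3 : Nat.Coprime (2 ^ n) M.index :=
    Nat.Coprime.pow_left n (Nat.coprime_two_left.mpr hodd)
  exact Nat.Coprime.eq_one_of_dvd (h3.coprime_dvd_left h1) h2

/-- Involutions lift through quotients by normal subgroups of odd order. -/
theorem exists_lift_involution {K : Type*} [Group K] [Finite K] {N : Subgroup K} [N.Normal]
    (hN : Odd (Nat.card N)) (x : K ⧸ N) (hx : orderOf x = 2) :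
    ∃ y : K, orderOf y = 2 ∧ QuotientGroup.mk' N y = x := by
  have hp : Fact (Nat.Prime 2) := ⟨Nat.prime_two⟩
  have hcard : Nat.card (Subgroup.zpowers x) = 2 := by rw [Nat.card_zpowers, hx]
  obtain ⟨T, hT, hTm⟩ := exists_lift_pgroup (QuotientGroup.mk' N) (QuotientGroup.mk'_surjective N)
    (p := 2) (Subgroup.zpowers x) (IsPGroup.of_card (n := 1) (by rw [hcard, pow_one]))
  have hxm : x ∈ T.map (QuotientGroup.mk' N) := by rw [hTm]; exact Subgroup.mem_zpowers x
  obtain ⟨y, hyT, hyx⟩ := hxm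
  refine ⟨y, ?_, hyx⟩
  apply orderOf_eq_two_of_mul_self
  · refine eq_one_of_odd_of_pgroup hT hN (mul_mem hyT hyT) ?_
    rw [← QuotientGroup.ker_mk' N, MonoidHom.mem_ker, map_mul, hyx]
    exact mul_self_of_orderOf hx
  · rintro rfl
    rw [map_one] at hyx
    rw [← hyx, orderOf_one] at hx
    exact absurd hx (by norm_num)

/-- In the faithful case the involutions generate a subgroup of odd index. -/
theorem odd_index_invClosure {G : Type u} [Group G] [Finite G] {H : Subgroup G}
    (hB : BenderHolds G) (hH : IsStronglyEmbedded H) (hr : CommPair G)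
    (hcore : H.normalCore = ⊥) : Odd (invClosure G).index := by
  obtain ⟨Q, hQ, -⟩ := hB H hH hr hcore
  obtain ⟨t, ht, ht2⟩ := exists_involution_notMem hH
  have hS := setup_of_isSplit hH hQ ht ht2
  have hf := faithfulSMul_of_core hcore
  exact Cfsg.Agent.SuzukiRankOne.Reduction.odd_index_of_le hS
    (Cfsg.Agent.SuzukiRankOne.Reduction.Q_le_invClosure hS hr.exists_sq)

/-- The involutions and `O(G)` generate a subgroup containing all `2`-elements. -/
theorem mem_sup {G : Type u} [Group G] [Finite G] {H : Subgroup G}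
    (hB : BenderHolds (G ⧸ oddCore G)) (hH : IsStronglyEmbedded H) (hr : CommPair G)
    {h : G} (hh : ∃ n : ℕ, orderOf h = 2 ^ n) : h ∈ invClosure G ⊔ oddCore G := by
  obtain ⟨hSE, hcp, hcore⟩ := quotient_data hH hr
  have hodd := odd_index_invClosure hB hSE hcp hcore
  have hle : invClosure (G ⧸ oddCore G) ≤ (invClosure G).map (QuotientGroup.mk' (oddCore G)) := by
    apply invClosure_le
    intro x hx
    obtain ⟨y, hy, rfl⟩ := exists_lift_involution (odd_oddCore G) x hx
    exact ⟨y, mem_invClosure_of_orderOf hy, rfl⟩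
  have h1 : QuotientGroup.mk' (oddCore G) h ∈ invClosure (G ⧸ oddCore G) := by
    refine mem_of_odd_index (invClosure_normal _) hodd ?_
    obtain ⟨n, hn⟩ := hh
    have h2 := orderOf_map_dvd (QuotientGroup.mk' (oddCore G)) h
    rw [hn] at h2
    obtain ⟨k, -, hk⟩ := (Nat.dvd_prime_pow Nat.prime_two).mp h2
    exact ⟨k, hk⟩
  obtain ⟨s, hs, hsh⟩ := hle h1
  have h2 : s⁻¹ * h ∈ oddCore G := by
    rw [← QuotientGroup.ker_mk' (oddCore G), MonoidHom.mem_ker, map_mul, map_inv, hsh,
      inv_mul_cancel]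
  have := mul_mem (Subgroup.mem_sup_left (T := oddCore G) hs)
    (Subgroup.mem_sup_right (S := invClosure G) h2)
  simpa using this

/-- The image of `⟨involutions of N⟩` in `G`. -/
theorem map_invClosure_le {G : Type u} [Group G] (N : Subgroup G) :
    (invClosure N).map N.subtype ≤ Subgroup.closure {s : G | s ∈ N ∧ orderOf s = 2} := by
  unfold Cfsg.Agent.SuzukiRankOne.Reduction.invClosure
  rw [MonoidHom.map_closure]
  refine Subgroup.closure_mono ?_
  rintro _ ⟨x, ⟨hx1, hx2⟩, rfl⟩
  refine ⟨x.2, ?_⟩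
  apply orderOf_eq_two_of_mul_self
  · exact congrArg Subtype.val hx2
  · exact fun h => hx1 (Subtype.ext h)

section Action

variable {G : Type u} {Ω : Type v} [Group G] [MulAction G Ω]

/-- **The 2-elements of `N` lie in `⟨involutions of N⟩ O(N)`.** -/
theorem gen_inv [Finite G] (hU : UniqueFix G Ω) {N : Subgroup G} {c : Ω} {t : G} (htN : t ∈ N)
    (ht : orderOf t = 2) (hc : t • c = c) {g : G} (hgN : g ∈ N) (hg : g • c ≠ c)
    (hr : CommPair N) (hB : BenderHolds (N ⧸ oddCore N)) :
    ∀ h ∈ N, (∃ n : ℕ, orderOf h = 2 ^ n) →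
      h ∈ Subgroup.closure {s : G | s ∈ N ∧ orderOf s = 2} ⊔ coreOf N := by
  intro h hh hh2
  have hSE := hU.stronglyEmbedded_subgroup htN ht hc hgN hg
  have h1 : (⟨h, hh⟩ : N) ∈ invClosure N ⊔ oddCore N := by
    refine mem_sup hB hSE hr ?_
    obtain ⟨n, hn⟩ := hh2
    exact ⟨n, by rw [Subgroup.orderOf_mk]; exact hn⟩
  have h2 : h ∈ (invClosure N ⊔ oddCore N).map N.subtype := ⟨_, h1, rfl⟩
  rw [Subgroup.map_sup] at h2
  exact sup_le_sup_right (map_invClosure_le N) _ h2

/-- The form of `gen_inv` used in the induction. -/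
theorem gen_inv_of_ih [Finite G]
    (hIH : ∀ (K : Type u) [Group K] [Finite K], Nat.card K < Nat.card G → BenderHolds K)
    (hU : UniqueFix G Ω) {N : Subgroup G} (hN : N ≠ ⊤) {c : Ω} {s t : G} (hsN : s ∈ N)
    (htN : t ∈ N) (hs : orderOf s = 2) (ht : orderOf t = 2) (hne : s ≠ t) (hst : Commute s t)
    (hc : s • c = c) {g : G} (hgN : g ∈ N) (hg : g • c ≠ c) :
    ∀ h ∈ N, (∃ n : ℕ, orderOf h = 2 ^ n) →
      h ∈ Subgroup.closure {s : G | s ∈ N ∧ orderOf s = 2} ⊔ coreOf N := by
  refine gen_inv hU hsN hs hc hgN hg (commPair_subgroup hsN htN hs ht hne hst) (hIH _ ?_)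
  have h1 : Nat.card (N ⧸ oddCore N) ≤ Nat.card N := by
    have := Subgroup.card_eq_card_quotient_mul_card_subgroup (oddCore N)
    rw [this]
    exact Nat.le_mul_of_pos_right _ Nat.card_pos
  refine lt_of_le_of_lt h1 ?_
  refine lt_of_le_of_ne (Subgroup.card_le_card_group N) (fun h => hN ?_)
  exact Subgroup.eq_top_of_card_eq N h

end Action

end Cfsg.Agent.StrongEmb.GenInv
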