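import Cfsg.Prelude.Def_LieExceptional
import Cfsg.Prelude.Def_TwoFusion
import Cfsg.Agent.LieExceptional.BNPairCore
import Cfsg.Agent.Lib.NormalAbelian

/-!
Strongly split (B,N)-pairs of rank one in simple groups, with `[G : B]` and `|B ⊓ N|` odd: the centre
of `U` meets a Sylow 2-subgroup in a strongly closed subgroup with the centralizers of its involutions
inside `B`.
-/

set_option autoImplicit false

namespace Cfsg.Agent.StrongEmb.SplitBN

open Cfsg Cfsg.Agent.LieExceptional.BNPairCore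

variable {G : Type*} [Group G]

/-- Rank one: there is exactly one distinguished generator. -/
theorem exists_S_eq_singleton (P : BNPair G) (hrank : P.rank = 1) : ∃ s : G, P.S = {s} := by
  have h : Nat.card P.S = 1 := hrank
  rw [Nat.card_eq_one_iff_unique] at h
  obtain ⟨hs, ⟨⟨s, hsS⟩⟩⟩ := h
  refine ⟨s, ?_⟩
  ext x
  constructor
  · intro hx
    have := Subsingleton.elim (⟨x, hx⟩ : P.S) ⟨s, hsS⟩
    simpa using congrArg Subtype.val this
  · rintro rfl
    exact hsS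

/-- Rank one: `G = B ∪ B s B`. -/
theorem mem_B_or_mem_C (P : BNPair G) {s : G} (hS : P.S = {s}) (g : G) : g ∈ P.B ∨ g ∈ C P s := by
  have hsS : s ∈ P.S := by rw [hS]; rfl
  have hg : g ∈ P.parabolic P.S := by rw [parabolic_S_eq_top]; exact Subgroup.mem_top g
  obtain ⟨n, hn, h⟩ := (mem_parabolic_iff le_rfl g).1 hg
  rw [hS, ← Subgroup.zpowers_eq_closure] at hn
  obtain ⟨k, rfl⟩ := hn
  have hsq : ∀ m : ℤ, s ^ (2 * m) ∈ P.B := by
    intro m
    rw [zpow_mul]
    refine zpow_mem ?_ m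
    have h2 : s ^ (2 : ℤ) = s * s := by rw [zpow_ofNat, pow_two]
    rw [h2]
    exact P.sq_mem s hsS
  obtain ⟨m, rfl | rfl⟩ := Int.even_or_odd' k
  · left
    exact mem_B_of_mem_C (hsq m) h
  · right
    have h1 : s ^ (2 * m + 1) = s ^ (2 * m) * s := by rw [zpow_add, zpow_one]
    simp only at h
    rw [h1, C_mul_left (hsq m)] at h
    exact h

theorem exists_eq_mul_inf (P : BNPair G) {U : Subgroup G} (hUB : U ≤ P.B)
    (hUn : (U.subgroupOf P.B).Normal) (hsplit : U ⊔ (P.B ⊓ P.N) = P.B) {x : G} (hx : x ∈ P.B) :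
    ∃ u ∈ U, ∃ h ∈ P.B ⊓ P.N, x = u * h := by
  have hnorm : P.B ⊓ P.N ≤ Subgroup.normalizer (U : Set G) := by
    have h1 : P.B ≤ Subgroup.normalizer (U : Set G) :=
      (Subgroup.normal_subgroupOf_iff_le_normalizer hUB).1 hUn
    exact inf_le_left.trans h1
  have hx' : x ∈ ((U ⊔ (P.B ⊓ P.N) : Subgroup G) : Set G) := by rw [hsplit]; exact hx
  rw [Subgroup.coe_mul_of_right_le_normalizer_left U (P.B ⊓ P.N) hnorm] at hx'
  obtain ⟨u, hu, h, hh, rfl⟩ := hx'
  exact ⟨u, hu, h, hh, rfl⟩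

/-- With `B = U (B ⊓ N)`, `U` normal in `B`, every element outside `B` is `u * s * b`. -/
theorem exists_eq_mul (P : BNPair G) {s : G} (hS : P.S = {s}) {U : Subgroup G} (hUB : U ≤ P.B)
    (hUn : (U.subgroupOf P.B).Normal) (hsplit : U ⊔ (P.B ⊓ P.N) = P.B) {g : G} (hg : g ∉ P.B) :
    ∃ u ∈ U, ∃ b ∈ P.B, g = u * s * b := by
  have hsS : s ∈ P.S := by rw [hS]; rfl
  rcases mem_B_or_mem_C P hS g with h | h
  · exact absurd h hg
  obtain ⟨x, hx, y, hy, rfl⟩ := mem_C.1 h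
  obtain ⟨u, hu, t, ht, rfl⟩ := exists_eq_mul_inf P hUB hUn hsplit hx
  exact ⟨u, hu, (s⁻¹ * t * s) * y, mul_mem (conj_mem_inv (mem_N hsS) ht.1 ht.2) hy, by group⟩

/-- `[G : U]` is odd. -/
theorem odd_index [Finite G] (P : BNPair G) {U : Subgroup G} (hUB : U ≤ P.B)
    (hUn : (U.subgroupOf P.B).Normal) (hsplit : U ⊔ (P.B ⊓ P.N) = P.B)
    (hind : Odd P.B.index) (hH : Odd (Nat.card ↥(P.B ⊓ P.N))) : Odd U.index := by
  rw [← Subgroup.relIndex_mul_index hUB]
  refine Odd.mul ?_ hind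
  let f : ↥(P.B ⊓ P.N) →* ↥P.B ⧸ (U.subgroupOf P.B) :=
    (QuotientGroup.mk' (U.subgroupOf P.B)).comp (Subgroup.inclusion inf_le_left)
  have hf : Function.Surjective f := by
    intro q
    obtain ⟨⟨x, hx⟩, rfl⟩ := QuotientGroup.mk_surjective q
    obtain ⟨u, hu, h, hh, rfl⟩ := exists_eq_mul_inf P hUB hUn hsplit hx
    refine ⟨⟨h, hh⟩, ?_⟩
    change ((Subgroup.inclusion inf_le_left ⟨h, hh⟩ : P.B) : ↥P.B ⧸ (U.subgroupOf P.B)) = _
    rw [QuotientGroup.eq]
    have h3 := hUn.conj_mem ⟨u, hUB hu⟩ (Subgroup.mem_subgroupOf.2 hu) (⟨h, hh.1⟩ : P.B)⁻¹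
    rw [Subgroup.mem_subgroupOf] at h3 ⊢
    simpa [mul_assoc] using h3
  have hdvd := Subgroup.card_dvd_of_surjective f hf
  have : U.relIndex P.B = Nat.card (↥P.B ⧸ (U.subgroupOf P.B)) := rfl
  rw [this]
  exact hH.of_dvd_nat hdvd

/-- A nonidentity element of the centre of `U` fixes no coset except `B`. -/
theorem mem_B_of_conj_mem [IsSimpleGroup G] (P : BNPair G) {s : G} (hS : P.S = {s})
    {U : Subgroup G} (hUB : U ≤ P.B)
    (hUn : (U.subgroupOf P.B).Normal) (hsplit : U ⊔ (P.B ⊓ P.N) = P.B)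
    {x : G} (hxU : x ∈ U) (hxc : ∀ u ∈ U, u * x = x * u) (hx1 : x ≠ 1) {g : G}
    (hg : g⁻¹ * x * g ∈ P.B) : g ∈ P.B := by
  by_contra hgB
  have hsS : s ∈ P.S := by rw [hS]; rfl
  obtain ⟨u, hu, b, hb, rfl⟩ := exists_eq_mul P hS hUB hUn hsplit hgB
  -- `s⁻¹ x s ∈ B`
  have hs1 : s⁻¹ * x * s ∈ P.B := by
    have h1 : (u * s * b)⁻¹ * x * (u * s * b) = b⁻¹ * (s⁻¹ * (u⁻¹ * x * u) * s) * b := by group
    have h2 : u⁻¹ * x * u = x := by
      rw [mul_assoc, ← hxc u hu]; group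
    rw [h1, h2] at hg
    have h3 := mul_mem (mul_mem hb hg) (inv_mem hb)
    have h4 : b * (b⁻¹ * (s⁻¹ * x * s) * b) * b⁻¹ = s⁻¹ * x * s := by group
    rwa [h4] at h3
  have hall : ∀ g : G, g⁻¹ * x * g ∈ P.B := by
    intro g
    by_cases hgB : g ∈ P.B
    · exact mul_mem (mul_mem (inv_mem hgB) (hUB hxU)) hgB
    · obtain ⟨u, hu, b, hb, rfl⟩ := exists_eq_mul P hS hUB hUn hsplit hgB
      have h1 : (u * s * b)⁻¹ * x * (u * s * b) = b⁻¹ * (s⁻¹ * (u⁻¹ * x * u) * s) * b := by group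
      have h2 : u⁻¹ * x * u = x := by
        rw [mul_assoc, ← hxc u hu]; group
      rw [h1, h2]
      exact mul_mem (mul_mem (inv_mem hb) hs1) hb
  have hcore : x ∈ P.B.normalCore := by
    intro g
    have := hall g⁻¹
    rwa [inv_inv] at this
  have hbot : P.B.normalCore = ⊥ := by
    rcases (Subgroup.normalCore_normal P.B).eq_bot_or_eq_top with h | h
    · exact h
    · exfalso
      have h1 : s ∈ P.B.normalCore := by rw [h]; exact Subgroup.mem_top s
      exact not_mem_B hsS (Subgroup.normalCore_le _ h1)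
  rw [hbot, Subgroup.mem_bot] at hcore
  exact hx1 hcore

/-- The main construction. -/
theorem exists_stronglyClosed [Finite G] [IsSimpleGroup G]
    (P : BNPair G) (hrank : P.rank = 1) (U : Subgroup G) (hUB : U ≤ P.B)
    (hUn : (U.subgroupOf P.B).Normal) (hUnil : Group.IsNilpotent U) (hsplit : U ⊔ (P.B ⊓ P.N) = P.B)
    (hind : Odd P.B.index) (hH : Odd (Nat.card ↥(P.B ⊓ P.N))) :
    ∃ (S : Sylow 2 G) (T : Subgroup G), T ≠ ⊥ ∧ IsStronglyClosed T (S : Subgroup G) ∧ T ≤ P.B ∧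
      P.B ≠ ⊤ ∧ (⨆ t : {t : G // t ∈ T ∧ orderOf t = 2}, Subgroup.centralizer ({(t : G)} : Set G)) ≤ P.B := by
  have : Fact (Nat.Prime 2) := ⟨Nat.prime_two⟩
  obtain ⟨s, hS⟩ := exists_S_eq_singleton P hrank
  have hsS : s ∈ P.S := by rw [hS]; rfl
  have hsB := not_mem_B hsS
  have hUodd := odd_index P hUB hUn hsplit hind hH
  -- a Sylow 2-subgroup inside U
  obtain ⟨S₀⟩ : Nonempty (Sylow 2 U) := inferInstance
  let S₁ : Subgroup G := (S₀ : Subgroup U).map U.subtype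
  have hS₁p : IsPGroup 2 S₁ := S₀.isPGroup'.map U.subtype
  have hS₁ind : ¬ 2 ∣ S₁.index := by
    have h1 : S₁.index = (S₀ : Subgroup U).index * U.index := by
      rw [Subgroup.index_map_subtype]
    rw [h1, Nat.prime_two.dvd_mul, not_or]
    refine ⟨S₀.not_dvd_index, ?_⟩
    intro h2
    exact (Nat.not_even_iff_odd.2 hUodd) (even_iff_two_dvd.2 h2)
  let S : Sylow 2 G := hS₁p.toSylow hS₁ind
  have hScoe : (S : Subgroup G) = S₁ := hS₁p.toSylow_coe hS₁ind
  -- `|G|` is even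
  have hGeven : Even (Nat.card G) := by
    by_contra hodd
    rw [Nat.not_even_iff_odd] at hodd
    obtain ⟨k, hk⟩ := hodd
    apply hsB
    have h1 : s ^ (2 * k + 1) = 1 := by rw [← hk]; exact pow_card_eq_one'
    have h2 : s = (s * s)⁻¹ ^ k := by
      have h3 : (s * s) ^ k * s = 1 := by
        rw [← pow_two, ← pow_mul, ← pow_succ]; exact h1
      rw [inv_pow]
      exact eq_inv_of_mul_eq_one_right h3
    rw [h2]
    exact pow_mem (inv_mem (P.sq_mem s hsS)) k
  have hS₀ne : (S₀ : Subgroup U) ≠ ⊥ := by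
    intro hbot
    have h1 : S₁ = ⊥ := by
      change (S₀ : Subgroup U).map U.subtype = ⊥
      rw [hbot, Subgroup.map_bot]
    rw [h1, Subgroup.index_bot] at hS₁ind
    exact hS₁ind (even_iff_two_dvd.1 hGeven)
  have := hUnil
  have hS₀n : (S₀ : Subgroup U).Normal := by
    have h := (Group.isNilpotent_of_finite_tfae (G := U)).out 0 3
    exact h.1 hUnil 2 inferInstance S₀
  have hT₀ := Cfsg.Agent.Lib.NormalAbelian.normal_inf_center_ne_bot (S₀ : Subgroup U) hS₀ne
  let T : Subgroup G := ((S₀ : Subgroup U) ⊓ Subgroup.center U).map U.subtype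
  have hTne : T ≠ ⊥ := by
    intro h
    exact hT₀ ((Subgroup.map_eq_bot_iff_of_injective _ U.subtype_injective).1 h)
  have hTU : ∀ x ∈ T, x ∈ U := by
    rintro x ⟨y, _, rfl⟩
    exact y.2
  have hTc : ∀ x ∈ T, ∀ u ∈ U, u * x = x * u := by
    rintro x ⟨y, hy, rfl⟩ u hu
    have := Subgroup.mem_center_iff.1 hy.2 ⟨u, hu⟩
    exact congrArg Subtype.val this
  have key : ∀ x ∈ T, x ≠ 1 → ∀ g : G, g⁻¹ * x * g ∈ P.B → g ∈ P.B := fun x hx hx1 g hg =>
    mem_B_of_conj_mem P hS hUB hUn hsplit (hTU x hx) (hTc x hx) hx1 hg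
  refine ⟨S, T, hTne, ?_, fun x hx => hUB (hTU x hx), ?_, ?_⟩
  · constructor
    · rw [hScoe]
      exact Subgroup.map_mono inf_le_left
    · intro x hx g hg
      by_cases hx1 : x = 1
      · subst hx1
        rw [mul_one, mul_inv_cancel]
        exact one_mem _
      · rw [hScoe] at hg
        have hgU : g * x * g⁻¹ ∈ U := by
          obtain ⟨y, _, hy⟩ := hg
          rw [← hy]; exact y.2
        have hgB : g ∈ P.B := by
          have := key x hx hx1 g⁻¹ (by rw [inv_inv]; exact hUB hgU)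
          simpa using inv_mem this
        obtain ⟨y, hy, hyg⟩ := hg
        refine ⟨y, ⟨hy, ?_⟩, hyg⟩
        change y ∈ Subgroup.center U
        rw [Subgroup.mem_center_iff]
        intro u
        apply Subtype.ext
        change (u : G) * (y : G) = (y : G) * (u : G)
        have hyg' : (y : G) = g * x * g⁻¹ := hyg
        rw [hyg']
        have hu' : g⁻¹ * u * g ∈ U := by
          have h3 := hUn.conj_mem ⟨u, hUB u.2⟩ (Subgroup.mem_subgroupOf.2 u.2) (⟨g, hgB⟩ : P.B)⁻¹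
          rw [Subgroup.mem_subgroupOf] at h3
          simpa using h3
        have h4 := hTc x hx _ hu'
        calc (u : G) * (g * x * g⁻¹) = g * ((g⁻¹ * u * g) * x) * g⁻¹ := by group
          _ = g * (x * (g⁻¹ * u * g)) * g⁻¹ := by rw [h4]
          _ = g * x * g⁻¹ * u := by group
  · intro h
    exact hsB (h ▸ Subgroup.mem_top s)
  · refine iSup_le ?_
    rintro ⟨t, htT, ht2⟩ c hc
    have ht1 : t ≠ 1 := by
      rintro rfl
      simp at ht2
    apply key t htT ht1 c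
    have h1 : c * t = t * c := by
      have := Subgroup.mem_centralizer_iff.1 hc t rfl
      exact this.symm
    have h2 : c⁻¹ * t * c = t := by
      rw [mul_assoc, ← h1]; group
    rw [h2]
    exact hUB (hTU t htT)

end Cfsg.Agent.StrongEmb.SplitBN
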