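import Mathlib
import Cfsg.Prelude.Def_LieRecognition
import Cfsg.Prelude.Def_Exceptional
import Cfsg.Prelude.Def_Sz
import Cfsg.Prelude.Def_Classical
import Cfsg.Agent.S1136
import Cfsg.Agent.S1222
import Cfsg.Agent.StrongEmb.RankOne
import Cfsg.Agent.TwoFusion.StronglyEmbeddedBasic

/-!
# Bender-Suzuki for simple groups, isomorphism form

`of_setup`: a non-cyclic simple group with a rank one set-up is `PSL₂(2^n)`, `Sz(2^(2m+1))` or
`PSU₃(2^n)`, up to isomorphism (S1136 transported to the whole group).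

`of_regular`: the same for a simple group with a strongly embedded subgroup `H` having a normal
subgroup regular on the other cosets (the hypotheses of S1222).
-/

set_option autoImplicit false

namespace Cfsg.Agent.StrongEmb.BenderIso

open Cfsg MulAction

/-- The conclusion of the Bender-Suzuki theorem for simple groups, up to isomorphism. -/
def Concl (G : Type*) [Group G] : Prop :=
  (∃ (F : Type) (_ : Field F) (_ : Fintype F), (∃ n : ℕ, 2 ≤ n ∧ Fintype.card F = 2 ^ n) ∧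
      Nonempty (G ≃* Matrix.ProjectiveSpecialLinearGroup (Fin 2) F)) ∨
    Cfsg.Lie.IsoSuzuki G ∨
    (∃ (F : Type) (_ : Field F) (_ : Fintype F) (n : ℕ), 2 ≤ n ∧ Fintype.card F = (2 ^ n) ^ 2 ∧
      Nonempty (G ≃* Cfsg.PSU 3 F (2 ^ n)))

/-- **Suzuki's theorem for simple groups**, isomorphism form (from S1136). -/
theorem of_setup {G Ω : Type*} [Group G] [Finite G] [IsSimpleGroup G] [MulAction G Ω] {a : Ω}
    {t : G} {Q : Subgroup G} (hS : Cfsg.IsRankOneSetup G Ω a t Q) (hcyc : ¬ IsCyclic G) :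
    Concl G := by
  have hfaith : FaithfulSMul G Ω :=
    Cfsg.Agent.StrongEmb.RankOne.faithfulSMul_of_simple (t := t) (a := a) hS.not_mem
  obtain ⟨E, hE⟩ := Cfsg.Agent.S0204.result hcyc
  obtain ⟨L, hL, hodd, hcases⟩ := Cfsg.Agent.S1136.result hS
    (Cfsg.Agent.StrongEmb.RankOne.exists_commuting hE)
  have heven : Even (Nat.card G) := by
    rw [even_iff_two_dvd]
    exact (even_iff_two_dvd.mp hS.even_card).trans (Subgroup.card_subgroup_dvd_card Q)
  have hLtop : L = ⊤ := by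
    rcases IsSimpleGroup.eq_bot_or_eq_top_of_normal L hL with h1 | h1
    · exfalso
      rw [h1, Subgroup.index_bot] at hodd
      exact (Nat.not_even_iff_odd.mpr hodd) heven
    · exact h1
  have e : L ≃* G := (MulEquiv.subgroupCongr hLtop).trans Subgroup.topEquiv
  rcases hcases with ⟨F, hF1, hF2, hn, ⟨f⟩⟩ | ⟨F, hF1, hF2, m, hm, hF, ⟨f⟩⟩ |
    ⟨F, hF1, hF2, n, hn, hcard, ⟨f⟩⟩
  · exact Or.inl ⟨F, hF1, hF2, hn, ⟨e.symm.trans f⟩⟩
  · exact Or.inr (Or.inl ⟨F, hF1, hF2, m, hm, hF, ⟨e.symm.trans f⟩⟩)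
  · exact Or.inr (Or.inr ⟨F, hF1, hF2, n, hn, hcard, ⟨e.symm.trans f⟩⟩)

/-- A simple group with a strongly embedded subgroup is not cyclic. -/
theorem not_isCyclic {G : Type*} [Group G] [Finite G] [IsSimpleGroup G] (H : Subgroup G)
    (hH : Cfsg.IsStronglyEmbedded H) : ¬ IsCyclic G := by
  refine Cfsg.Agent.StrongEmb.RankOne.not_isCyclic_of_exists H hH.1 ?_
  intro h
  have := hH.2.1
  rw [h, Subgroup.card_bot] at this
  exact absurd this (by decide)

/-- The isomorphism form of S1222. -/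
theorem of_regular {G : Type*} [Group G] [Finite G] [IsSimpleGroup G] (H : Subgroup G)
    (hH : Cfsg.IsStronglyEmbedded H) (Q : Subgroup G) (hQH : Q ≤ H)
    (hQn : (Q.subgroupOf H).Normal)
    (htrans : ∀ g₁ g₂ : G, g₁ ∉ H → g₂ ∉ H → ∃ u ∈ Q, g₂⁻¹ * (u * g₁) ∈ H)
    (hreg : ∀ g : G, g ∉ H → ∀ u ∈ Q, g⁻¹ * (u * g) ∈ H → u = 1) : Concl G := by
  obtain ⟨t, ht, ht2⟩ := Cfsg.Agent.TwoFusion.StronglyEmbeddedBasic.exists_involution_notMem hH
  exact of_setup (Cfsg.Agent.S1222.setup H hH Q hQH hQn htrans hreg ht ht2) (not_isCyclic H hH)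

end Cfsg.Agent.StrongEmb.BenderIso
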