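import Mathlib
import Cfsg.Prelude.Def_Involutions
import Cfsg.Agent.TwoFusion.BenderTwoTrans
import Cfsg.Agent.TwoFusion.BenderRankOne
import Cfsg.Agent.StrongEmb.TwoRank
import Cfsg.Agent.Lib.ProductSet
import Cfsg.Agent.Lib.Cores
import Cfsg.Agent.S0044

/-!
# Doubly transitive groups with a strongly embedded subgroup: the core of the point stabilizer

Let `H` be strongly embedded in the finite group `G` of 2-rank at least two, doubly transitive on
`G ⧸ H`. For every odd prime `r`, every involution `t` of `H` and every normal `r`-subgroup `A` of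
`H` the commutator `[A, t]` fixes every point of `G ⧸ H` (Bender; the argument is due to
helper653: count the elements inverted by `t` in `t`-invariant Sylow subgroups of the odd order
groups `D` and `D A`, both transitive on the involutions of `H`).
-/

set_option autoImplicit false

namespace Cfsg.Agent.StrongEmb.CoreCentral

open Cfsg Cfsg.Agent.TwoFusion.StronglyEmbeddedBasic
open Cfsg.Agent.SignalizersComponents.BenderCount
open Cfsg.Agent.SignalizersComponents.BenderPerfect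
open Cfsg.Agent.Blocks.SylowIn
open Cfsg.Agent.TwoFusion.BenderTwoTrans
open scoped Pointwise

section Transitive

variable {G : Type*} [Group G] [Finite G]

omit [Finite G] in
/-- Orbit-stabilizer for the conjugation action of a subgroup. -/
theorem ncard_mul_card {M : Subgroup G} {I : Set G} (hconj : ∀ d ∈ M, ∀ s ∈ I, d * s * d⁻¹ ∈ I)
    (htr : ∀ s ∈ I, ∀ t ∈ I, ∃ d ∈ M, d * s * d⁻¹ = t) {t : G} (ht : t ∈ I) :
    I.ncard * Nat.card ↥(M ⊓ Subgroup.centralizer ({t} : Set G)) = Nat.card M := by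
  let act : MulAction M G := MulAction.compHom G ((MulAut.conj : G →* MulAut G).comp M.subtype)
  have hact : ∀ (d : M) (g : G), d • g = (d : G) * g * (d : G)⁻¹ := fun d g => rfl
  have h1 : MulAction.orbit M t = I := by
    ext w
    rw [MulAction.mem_orbit_iff]
    constructor
    · rintro ⟨d, rfl⟩
      rw [hact]
      exact hconj d d.2 t ht
    · intro hw
      obtain ⟨d, hd, hdt⟩ := htr t ht w hw
      exact ⟨⟨d, hd⟩, hdt⟩
  have h2 : MulAction.stabilizer M t = (M ⊓ Subgroup.centralizer ({t} : Set G)).subgroupOf M := by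
    ext d
    rw [MulAction.mem_stabilizer_iff, hact, Subgroup.mem_subgroupOf, Subgroup.mem_inf,
      Subgroup.mem_centralizer_singleton_iff, mul_inv_eq_iff_eq_mul]
    exact ⟨fun h => ⟨d.2, h⟩, fun h => h.2⟩
  have h3 := MulAction.index_stabilizer M t
  rw [h1, h2] at h3
  rw [← h3]
  exact relIndex_mul_card inf_le_left

/-- `M` of odd order, transitive by conjugation on the set `I ∋ t`: if the involution `t`
normalizes a Sylow `r`-subgroup `B` of `M`, it inverts `|I|_r` elements of `B`. -/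
theorem kap_of_sylow {r : ℕ} [hr : Fact r.Prime] (hr2 : r ≠ 2) {M : Subgroup G}
    (hM : Odd (Nat.card M)) {I : Set G} (hconj : ∀ d ∈ M, ∀ s ∈ I, d * s * d⁻¹ ∈ I)
    (htr : ∀ s ∈ I, ∀ t ∈ I, ∃ d ∈ M, d * s * d⁻¹ = t) {t : G} (ht : t ∈ I) (ht2 : orderOf t = 2)
    {B : Subgroup G} (hB : SylIn r M B) (htB : ∀ u ∈ B, t * u * t⁻¹ ∈ B) :
    kap B t = r ^ I.ncard.factorization r := by
  have : Fact (Nat.Prime 2) := ⟨Nat.prime_two⟩
  have htt := mul_self_of_orderOf ht2
  obtain ⟨hBM, hBp, hBmax⟩ := exists_sylow_map_eq_iff.mp hB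
  set D : Subgroup G := M ⊓ M.map (MulAut.conj t).toMonoidHom with hD
  have htD : ∀ u ∈ D, t * u * t⁻¹ ∈ D := by
    rintro u ⟨hu, v, hv, rfl⟩
    refine ⟨?_, ⟨_, hu, rfl⟩⟩
    have e : t * (MulAut.conj t).toMonoidHom v * t⁻¹ = v := by
      simp only [MulEquiv.toMonoidHom_eq_coe, MonoidHom.coe_coe, MulAut.conj_apply]
      calc t * (t * v * t⁻¹) * t⁻¹ = (t * t) * v * (t * t)⁻¹ := by group
        _ = v := by rw [htt]; group
    rw [e]; exact hv
  have hBD : B ≤ D := by
    intro u hu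
    refine ⟨hBM hu, t * u * t⁻¹, hBM (htB u hu), ?_⟩
    simp only [MulEquiv.toMonoidHom_eq_coe, MonoidHom.coe_coe, MulAut.conj_apply]
    calc t * (t * u * t⁻¹) * t⁻¹ = (t * t) * u * (t * t)⁻¹ := by group
      _ = u := by rw [htt]; group
  have hBSyl : SylIn r D B :=
    exists_sylow_map_eq_iff.mpr ⟨hBD, hBp, fun Q hQ hQp hBQ => hBmax Q (hQ.trans inf_le_left) hQp hBQ⟩
  have hDodd : Odd (Nat.card D) := Odd.of_dvd_nat hM (Subgroup.card_dvd_of_le inf_le_left)
  have h2 := S1287.card_fixed_sylow (B := Subgroup.zpowers t) (isPGroup_two_zpowers ht2)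
    (not_two_dvd hDodd) (zpowers_forall htD) hBSyl (zpowers_forall htB)
  rw [S1287.centralizer_zpowers] at h2
  have hMD : M ⊓ Subgroup.centralizer ({t} : Set G) = D ⊓ Subgroup.centralizer ({t} : Set G) := by
    ext u
    constructor
    · rintro ⟨hu, hc⟩
      refine ⟨⟨hu, u, hu, ?_⟩, hc⟩
      have hc' := Subgroup.mem_centralizer_singleton_iff.mp hc
      simp only [MulEquiv.toMonoidHom_eq_coe, MonoidHom.coe_coe, MulAut.conj_apply]
      rw [← hc', mul_assoc, mul_inv_cancel, mul_one]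
    · rintro ⟨hu, hc⟩
      exact ⟨hu.1, hc⟩
  have h3 := ncard_mul_card hconj htr ht
  have h1 := kap_mul (odd_of_pGroup hr2 hBp) ht2 htB
  have hIpos : I.ncard ≠ 0 := by
    intro h0
    rw [h0, zero_mul] at h3
    exact Nat.card_pos.ne' h3.symm
  rw [h2, ← hMD, card_of_sylow_map_eq hB, ← h3, Nat.factorization_mul hIpos Nat.card_pos.ne',
    Finsupp.coe_add, Pi.add_apply, pow_add] at h1
  exact Nat.eq_of_mul_eq_mul_right (pow_pos hr.out.pos _) h1

omit [Finite G] in
/-- Products of subgroups, one normalizing the other. -/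
theorem card_sup_mul {D A : Subgroup G} (h : ∀ d ∈ D, ∀ a ∈ A, d * a * d⁻¹ ∈ A) :
    Nat.card ↥(D ⊔ A) * Nat.card ↥(D ⊓ A) = Nat.card D * Nat.card A := by
  have hle : D ≤ Subgroup.normalizer (A : Set G) := S1287.le_normalizer_of_forall h
  rw [← Lib.ProductSet.card_mul_card_inf D A, ← Subgroup.coe_mul_of_left_le_normalizer_right _ _ hle]
  rfl

/-- The key step: `M ≤ N` of odd order, `A ≤ N` an `r`-group normalized by `N`, `M` transitive on
the `N`-invariant set `I` of involutions normalizing `A`. If `t ∈ I` normalizes a Sylow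
`r`-subgroup of `M`, then `[A, t] ≤ M`. -/
theorem commutator_mem {r : ℕ} [hr : Fact r.Prime] (hr2 : r ≠ 2) {M A B : Subgroup G}
    (hM : Odd (Nat.card M)) (hA : IsPGroup r A) (hMA : ∀ d ∈ M, ∀ a ∈ A, d * a * d⁻¹ ∈ A)
    {I : Set G} (hconj : ∀ d ∈ M ⊔ A, ∀ s ∈ I, d * s * d⁻¹ ∈ I)
    (htr : ∀ s ∈ I, ∀ t ∈ I, ∃ d ∈ M, d * s * d⁻¹ = t) {t : G} (ht : t ∈ I) (ht2 : orderOf t = 2)
    (htA : ∀ a ∈ A, t * a * t⁻¹ ∈ A) (hB : SylIn r M B) (htB : ∀ u ∈ B, t * u * t⁻¹ ∈ B) :
    ∀ a ∈ A, t * a * t⁻¹ * a⁻¹ ∈ B := by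
  obtain ⟨hBM, hBp, hBmax⟩ := exists_sylow_map_eq_iff.mp hB
  have hBA : ∀ d ∈ B, ∀ a ∈ A, d * a * d⁻¹ ∈ A := fun d hd => hMA d (hBM hd)
  have hcM := card_sup_mul hMA
  have hcB := card_sup_mul hBA
  -- `M ⊓ A = B ⊓ A`
  have hinf : M ⊓ A = B ⊓ A := by
    apply le_antisymm _ (inf_le_inf_right A hBM)
    refine le_inf ?_ inf_le_right
    have hn : B ≤ Subgroup.normalizer ((M ⊓ A : Subgroup G) : Set G) := by
      refine S1287.le_normalizer_of_forall (fun b hb a ha => ⟨?_, hBA b hb a ha.2⟩)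
      exact M.mul_mem (M.mul_mem (hBM hb) ha.1) (M.inv_mem (hBM hb))
    have h1 : IsPGroup r (B ⊔ (M ⊓ A) : Subgroup G) :=
      IsPGroup.to_sup_of_normal_right' hBp (hA.to_le inf_le_right) hn
    have h2 := hBmax _ (sup_le hBM inf_le_left) h1 le_sup_left
    rw [← h2]; exact le_sup_right
  have hBAp : IsPGroup r (B ⊔ A : Subgroup G) :=
    IsPGroup.to_sup_of_normal_right' hBp hA (S1287.le_normalizer_of_forall hBA)
  -- `B ⊔ A` is Sylow in `M ⊔ A`
  have hSyl : SylIn r (M ⊔ A) (B ⊔ A) := by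
    refine exists_sylow_map_eq_of_card (sup_le_sup_right hBM A) ?_
    rw [hinf] at hcM
    have hcard : Nat.card ↥(M ⊔ A) * Nat.card B = Nat.card M * Nat.card ↥(B ⊔ A) := by
      have h1 : Nat.card ↥(M ⊔ A) * Nat.card B * Nat.card ↥(B ⊓ A)
          = Nat.card M * Nat.card ↥(B ⊔ A) * Nat.card ↥(B ⊓ A) := by
        calc Nat.card ↥(M ⊔ A) * Nat.card B * Nat.card ↥(B ⊓ A)
            = (Nat.card ↥(M ⊔ A) * Nat.card ↥(B ⊓ A)) * Nat.card B := by ring
          _ = Nat.card M * (Nat.card B * Nat.card A) := by rw [hcM]; ring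
          _ = Nat.card M * (Nat.card ↥(B ⊔ A) * Nat.card ↥(B ⊓ A)) := by rw [hcB]
          _ = _ := by ring
      exact Nat.eq_of_mul_eq_mul_right Nat.card_pos h1
    obtain ⟨k, hk⟩ := IsPGroup.iff_card.mp hBAp
    have hf : (Nat.card ↥(M ⊔ A) * Nat.card B).factorization r =
        (Nat.card M * Nat.card ↥(B ⊔ A)).factorization r := by rw [hcard]
    rw [Nat.factorization_mul Nat.card_pos.ne' Nat.card_pos.ne',
      Nat.factorization_mul Nat.card_pos.ne' Nat.card_pos.ne', Finsupp.coe_add, Pi.add_apply,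
      Finsupp.coe_add, Pi.add_apply, card_of_sylow_map_eq hB, hr.out.factorization_pow,
      Finsupp.single_eq_same, hk, hr.out.factorization_pow, Finsupp.single_eq_same] at hf
    rw [hk]
    congr 1
    omega
  have hMAodd : Odd (Nat.card ↥(M ⊔ A)) := by
    have h1 : Odd (Nat.card ↥(M ⊔ A) * Nat.card ↥(M ⊓ A)) := by
      rw [hcM]; exact hM.mul (odd_of_pGroup hr2 hA)
    exact (Nat.odd_mul.mp h1).1
  have htBA : ∀ u ∈ B ⊔ A, t * u * t⁻¹ ∈ B ⊔ A := by
    intro u hu
    rw [← SetLike.mem_coe, Subgroup.coe_mul_of_left_le_normalizer_right _ _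
      (S1287.le_normalizer_of_forall hBA)] at hu
    obtain ⟨b, hb, a, ha, rfl⟩ := hu
    have e : t * (b * a) * t⁻¹ = (t * b * t⁻¹) * (t * a * t⁻¹) := by group
    simp only at e ⊢
    rw [e]
    exact mul_mem (Subgroup.mem_sup_left (htB b hb)) (Subgroup.mem_sup_right (htA a ha))
  have hk1 := kap_of_sylow hr2 hM (fun d hd => hconj d (Subgroup.mem_sup_left hd)) htr ht ht2 hB htB
  have hk2 := kap_of_sylow hr2 hMAodd hconj
    (fun s hs t ht => by
      obtain ⟨d, hd, hdt⟩ := htr s hs t ht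
      exact ⟨d, Subgroup.mem_sup_left hd, hdt⟩) ht ht2 hSyl htBA
  intro a ha
  refine mem_of_kap_le (U := B) (V := B ⊔ A) le_sup_left (v := t) (by rw [hk1, hk2]) ?_ ?_
  · exact Subgroup.mem_sup_right (mul_mem (htA a ha) (inv_mem ha))
  · have htt := mul_self_of_orderOf ht2
    calc t * (t * a * t⁻¹ * a⁻¹) * t⁻¹ = (t * t) * a * (t⁻¹ * a⁻¹ * t⁻¹) := by group
      _ = a * (t * a⁻¹ * t⁻¹) := by rw [htt, one_mul, inv_eq_self_of_orderOf ht2]
      _ = (t * a * t⁻¹ * a⁻¹)⁻¹ := by group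

end Transitive

section Main

variable {G : Type*} [Group G] [Finite G] {H : Subgroup G}

omit [Finite G] in
theorem stab2_map (g : G) (x y : G ⧸ H) :
    (stab2 x y).map (MulAut.conj g).toMonoidHom = stab2 (g • x) (g • y) := by
  ext h
  rw [mem_stab2, Subgroup.mem_map]
  constructor
  · rintro ⟨k, hk, rfl⟩
    rw [mem_stab2] at hk
    simp only [MulEquiv.coe_toMonoidHom, MulAut.conj_apply]
    constructor
    · rw [mul_smul, mul_smul, inv_smul_smul, hk.1]
    · rw [mul_smul, mul_smul, inv_smul_smul, hk.2]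
  · rintro ⟨h1, h2⟩
    refine ⟨g⁻¹ * h * g, ?_, by simp [mul_assoc]⟩
    rw [mem_stab2]
    constructor
    · rw [mul_smul, mul_smul, h1, inv_smul_smul]
    · rw [mul_smul, mul_smul, h2, inv_smul_smul]

omit [Finite G] in
/-- conjugates of Sylow subgroups of subgroups -/
theorem SylIn.map {p : ℕ} {K P : Subgroup G} (h : SylIn p K P) (g : G) :
    SylIn p (K.map (MulAut.conj g).toMonoidHom) (P.map (MulAut.conj g).toMonoidHom) := by
  obtain ⟨h1, h2, h3⟩ := exists_sylow_map_eq_iff.mp h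
  refine exists_sylow_map_eq_iff.mpr ⟨Subgroup.map_mono h1, h2.map _, fun Q hQ hQp hPQ => ?_⟩
  have h4 := h3 (Q.map (MulAut.conj g⁻¹).toMonoidHom) ?_ (hQp.map _) ?_
  · rw [← h4, Subgroup.map_map]
    ext x
    constructor
    · intro hx
      refine ⟨x, hx, ?_⟩
      simp [mul_assoc]
    · rintro ⟨y, hy, rfl⟩
      have : ((MulAut.conj g).toMonoidHom.comp (MulAut.conj g⁻¹).toMonoidHom) y = y := by
        simp [mul_assoc]
      rw [this]; exact hy
  · rintro _ ⟨q, hq, rfl⟩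
    obtain ⟨k, hk, rfl⟩ := hQ hq
    simpa [mul_assoc] using hk
  · intro u hu
    exact ⟨(MulAut.conj g).toMonoidHom u, hPQ ⟨u, hu, rfl⟩, by simp [mul_assoc]⟩

/-- double transitivity, in the form: the stabilizer of any point is transitive on the other
points -/
def TwoTrans (H : Subgroup G) : Prop :=
  ∀ x y z : G ⧸ H, x ≠ y → x ≠ z → ∃ g : G, g • x = x ∧ g • y = z

omit [Finite G] in
theorem TwoTrans.exists (h2 : TwoTrans H) {x y z w : G ⧸ H} (hxy : x ≠ y) (hzw : z ≠ w) :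
    ∃ g : G, g • x = z ∧ g • y = w := by
  obtain ⟨g, hg⟩ := MulAction.exists_smul_eq G x z
  have h1 : z ≠ g • y := fun h => hxy (smul_left_cancel g (hg.trans h))
  obtain ⟨k, hk1, hk2⟩ := h2 z (g • y) w h1 hzw
  exact ⟨k * g, by rw [mul_smul, hg, hk1], by rw [mul_smul, hk2]⟩

theorem coreHyp (G : Type*) [Group G] [Finite G] : CoreHyp G := by
  intro N _ hno
  obtain ⟨O, h1, h2, h3, h4, h5⟩ := Cfsg.Agent.TwoFusion.BenderRankOne.exists_core N hno
  exact ⟨O, h1, h2, h3, h4, h5⟩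

/-- If no involution fixing `x` normalizes a Sylow `r`-subgroup of `G_x ∩ G_y`, normal
`r`-subgroups of the point stabilizer are trivial on the points. -/
theorem smul_of_star (hH : IsStronglyEmbedded H) (h2 : TwoTrans H) {r : ℕ} [hr : Fact r.Prime]
    (hr2 : r ≠ 2) (hs : Star H r) {x : G ⧸ H} {A : Subgroup G} (hA : IsPGroup r A)
    (hAx : A ≤ MulAction.stabilizer G x)
    (hn : ∀ g ∈ MulAction.stabilizer G x, ∀ a ∈ A, g * a * g⁻¹ ∈ A) :
    ∀ a ∈ A, ∀ y : G ⧸ H, a • y = y := by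
  intro a ha y
  by_cases hxy : x = y
  · rw [← hxy]; exact hAx ha
  obtain ⟨x0, y0, hxy0, P0, hP0, hpair0⟩ := exists_max hH hr2 hs (coreHyp G)
  obtain ⟨g, hgx, hgy⟩ := h2.exists hxy0 hxy
  have hP : SylIn r (stab2 x y) (P0.map (MulAut.conj g).toMonoidHom) := by
    rw [← hgx, ← hgy, ← stab2_map]
    exact SylIn.map hP0 g
  set P := P0.map (MulAut.conj g).toMonoidHom with hPdef
  have hpair : ∀ z ∈ fixp H P, z = x ∨ z = y := by
    intro z hz
    have h1 : g⁻¹ • z ∈ fixp H P0 := by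
      intro d hd
      have := hz (g * d * g⁻¹) ⟨d, hd, rfl⟩
      rw [mul_smul, mul_smul] at this
      apply smul_left_cancel g
      rw [smul_inv_smul]
      exact this
    rcases hpair0 _ h1 with h | h
    · left; rw [← hgx, ← h, smul_inv_smul]
    · right; rw [← hgy, ← h, smul_inv_smul]
  obtain ⟨hPle, hPp, -⟩ := exists_sylow_map_eq_iff.mp hP
  have hPA : P ≤ Subgroup.normalizer (A : Set G) :=
    S1287.le_normalizer_of_forall (fun d hd => hn d (mem_stab2.mp (hPle hd)).1)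
  have hR : IsPGroup r (P ⊔ A : Subgroup G) := IsPGroup.to_sup_of_normal_right' hPp hA hPA
  have h3 := sylow_of_fixp_pair hr2 hP hpair hR le_sup_left
  have h4 : a ∈ P := by rw [← h3]; exact Subgroup.mem_sup_right ha
  exact (mem_stab2.mp (hPle h4)).2

/-- The other case: commutators of involutions of `G_x` with normal `r`-subgroups of `G_x` fix
all points. -/
theorem commutator_smul_of_not_star (hH : IsStronglyEmbedded H) (h2 : TwoTrans H) {r : ℕ}
    [hr : Fact r.Prime] (hr2 : r ≠ 2) (hs : ¬ Star H r) {x : G ⧸ H} {A : Subgroup G}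
    (hA : IsPGroup r A) (hAx : A ≤ MulAction.stabilizer G x)
    (hn : ∀ g ∈ MulAction.stabilizer G x, ∀ a ∈ A, g * a * g⁻¹ ∈ A) {t : G}
    (ht : t ∈ invs x x) : ∀ a ∈ A, ∀ y : G ⧸ H, (t * a * t⁻¹ * a⁻¹) • y = y := by
  intro a ha y
  have htA : t * a * t⁻¹ ∈ A := hn t ht.2 a ha
  by_cases hxy : x = y
  · rw [← hxy]; exact hAx (mul_mem htA (inv_mem ha))
  -- a pair, a Sylow subgroup and an involution
  unfold TwoFusion.BenderTwoTrans.Star at hs
  push Not at hs
  obtain ⟨x0, y0, hxy0, P0, hP0, s0, hs0, hs0x, hs0P⟩ := hs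
  obtain ⟨g, hgx, hgy⟩ := h2.exists hxy0 hxy
  have hP : SylIn r (stab2 x y) (P0.map (MulAut.conj g).toMonoidHom) := by
    rw [← hgx, ← hgy, ← stab2_map]
    exact SylIn.map hP0 g
  set P := P0.map (MulAut.conj g).toMonoidHom with hPdef
  set s := g * s0 * g⁻¹ with hsdef
  have hsx : s ∈ invs x x := by
    refine ⟨by rw [hsdef, orderOf_conj, hs0], ?_⟩
    rw [hsdef, ← hgx, mul_smul, mul_smul, inv_smul_smul, hs0x]
  have hsP : ∀ u ∈ P, s * u * s⁻¹ ∈ P := by
    rintro _ ⟨u, hu, rfl⟩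
    refine ⟨s0 * u * s0⁻¹, hs0P u hu, ?_⟩
    simp only [MulEquiv.coe_toMonoidHom, MulAut.conj_apply, hsdef]
    group
  have hDodd := odd_stab2 hH hxy
  have hDx : ∀ d ∈ stab2 x y ⊔ A, d • x = x := by
    intro d hd
    have : stab2 x y ⊔ A ≤ MulAction.stabilizer G x := sup_le inf_le_left hAx
    exact this hd
  have hconj : ∀ d ∈ stab2 x y ⊔ A, ∀ s ∈ invs x x, d * s * d⁻¹ ∈ invs x x := by
    intro d hd s hs
    have h1 := hDx d hd
    refine ⟨by rw [orderOf_conj, hs.1], ?_⟩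
    have h3 : d⁻¹ • x = x := by rw [inv_smul_eq_iff, h1]
    rw [mul_smul, mul_smul, h3, hs.2, h1]
  have htr : ∀ s ∈ invs x x, ∀ t ∈ invs x x, ∃ d ∈ stab2 x y, d * s * d⁻¹ = t := by
    intro s hs t ht
    obtain ⟨d, hd1, hd2, hd⟩ := exists_conj_of_fixes hH hxy hs ht
    exact ⟨d, mem_stab2.mpr ⟨hd1, hd2⟩, hd⟩
  have key := commutator_mem hr2 hDodd hA
    (fun d hd a ha => hn d (mem_stab2.mp hd).1 a ha) hconj htr hsx hsx.1
    (fun a ha => hn s hsx.2 a ha) hP hsP
  obtain ⟨d, hd, hdt⟩ := htr s hsx t ht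
  have hdA : d⁻¹ * a * d ∈ A := by
    have := hn d⁻¹ (inv_mem (mem_stab2.mp hd).1) a ha
    rwa [inv_inv] at this
  have h5 := (exists_sylow_map_eq_iff.mp hP).1 (key _ hdA)
  have h6 : t * a * t⁻¹ * a⁻¹ = d * (s * (d⁻¹ * a * d) * s⁻¹ * (d⁻¹ * a * d)⁻¹) * d⁻¹ := by
    rw [← hdt]; group
  have h7 : t * a * t⁻¹ * a⁻¹ ∈ stab2 x y := by
    rw [h6]; exact mul_mem (mul_mem hd h5) (inv_mem hd)
  exact (mem_stab2.mp h7).2

/-- **Main step**: `G` doubly transitive on `G ⧸ H`, `H` strongly embedded. Involutions fixing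
`x` centralize the normal subgroups of odd prime power order of `G_x`, up to the kernel of the
action. -/
theorem commutator_smul (hH : IsStronglyEmbedded H) (h2 : TwoTrans H) {r : ℕ}
    [hr : Fact r.Prime] (hr2 : r ≠ 2) {x : G ⧸ H} {A : Subgroup G}
    (hA : IsPGroup r A) (hAx : A ≤ MulAction.stabilizer G x)
    (hn : ∀ g ∈ MulAction.stabilizer G x, ∀ a ∈ A, g * a * g⁻¹ ∈ A) {t : G}
    (ht : t ∈ invs x x) : ∀ a ∈ A, ∀ y : G ⧸ H, (t * a * t⁻¹ * a⁻¹) • y = y := by
  by_cases hs : Star H r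
  · intro a ha y
    have h1 := smul_of_star hH h2 hr2 hs hA hAx hn
    exact h1 _ (mul_mem (hn t ht.2 a ha) (inv_mem ha)) y
  · exact commutator_smul_of_not_star hH h2 hr2 hs hA hAx hn ht

omit [Finite G] in
/-- Elements fixing all points of `G ⧸ H` lie in the core of `H`. -/
theorem mem_normalCore_of_smul {g : G} (hg : ∀ y : G ⧸ H, g • y = y) : g ∈ H.normalCore := by
  rw [Subgroup.normalCore_eq_ker, MonoidHom.mem_ker]
  ext y
  exact hg y

/-- Involutions of `H` centralize the normal subgroups of `H` of odd prime power order. -/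
theorem commute_of_isPGroup (hH : IsStronglyEmbedded H) (h2 : TwoTrans H)
    (hcore : H.normalCore = ⊥) {r : ℕ} [hr : Fact r.Prime] (hr2 : r ≠ 2) {A : Subgroup G}
    (hA : IsPGroup r A) (hAH : A ≤ H) (hn : ∀ g ∈ H, ∀ a ∈ A, g * a * g⁻¹ ∈ A) {t : G}
    (htH : t ∈ H) (ht : orderOf t = 2) : ∀ a ∈ A, Commute t a := by
  intro a ha
  have hst : MulAction.stabilizer G ((1 : G) : G ⧸ H) = H := by
    ext g; rw [MulAction.mem_stabilizer_iff, smul_one_eq_iff]
  have h3 := commutator_smul hH h2 hr2 (x := ((1 : G) : G ⧸ H)) (A := A) hA (by rw [hst]; exact hAH)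
    (by rw [hst]; exact hn) (t := t) ⟨ht, (smul_one_eq_iff t).mpr htH⟩ a ha
  have h4 := mem_normalCore_of_smul h3
  rw [hcore, Subgroup.mem_bot] at h4
  show t * a = a * t
  have h5 := mul_inv_eq_one.mp h4
  exact mul_inv_eq_iff_eq_mul.mp h5

end Main

section Fitting

variable {K : Type*} [Group K] [Finite K]

/-- An involution centralizing all normal subgroups of odd prime power order centralizes every
solvable normal subgroup of odd order. -/
theorem commute_of_solvable {t : K} (ht : orderOf t = 2) {N : Subgroup K} (hN : N.Normal)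
    (hodd : Odd (Nat.card N)) (hsol : Group.IsSolvable N)
    (h : ∀ r : ℕ, r.Prime → r ≠ 2 → ∀ A : Subgroup K, A.Normal → IsPGroup r A →
      ∀ a ∈ A, Commute t a) : ∀ n ∈ N, Commute t n := by
  have htt := mul_self_of_orderOf ht
  have hti := inv_eq_self_of_orderOf ht
  have hFn : (fittingSubgroup N).Normal := Lib.Cores.fittingSubgroup_normal
  have hC := S0044.centralizer_fitting_le N hFn
  -- `t` centralizes the Fitting subgroup of `N`
  have hF : ∀ f ∈ fittingSubgroup N, Commute t (f : K) := by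
    have h1 : fittingSubgroup N ≤ (Subgroup.centralizer ({t} : Set K)).subgroupOf N := by
      rw [Lib.Cores.fittingSubgroup_eq_iSup_pCore]
      refine iSup_le fun p => ?_
      haveI := Fact.mk p.2
      intro f hf
      rw [Subgroup.mem_subgroupOf, Subgroup.mem_centralizer_singleton_iff]
      by_cases hp2 : (p : ℕ) = 2
      · -- trivial
        have h2 : IsPGroup 2 (pCore (p : ℕ) N) := by
          have h0 : ∀ q : ℕ, q = 2 → IsPGroup 2 (pCore q N) := by
            rintro q rfl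
            exact Lib.Cores.pCore_isPGroup (G := N) 2
          exact h0 _ hp2
        have h3 : f = 1 := by
          obtain ⟨k, hk⟩ := IsPGroup.iff_orderOf.mp h2 ⟨f, hf⟩
          rw [Subgroup.orderOf_mk] at hk
          have h4 : orderOf f ∣ Nat.card N := orderOf_dvd_natCard f
          have h5 : Nat.Coprime (orderOf f) (Nat.card N) := by
            rw [hk]; exact Nat.Coprime.pow_left k (Nat.coprime_two_left.mpr hodd)
          exact orderOf_eq_one_iff.mp (Nat.Coprime.eq_one_of_dvd h5 h4)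
        rw [h3]; simp
      · haveI : (pCore (p : ℕ) N).Characteristic := Lib.Cores.pCore_characteristic _
        have h2 : ((pCore (p : ℕ) N).map N.subtype).Normal := inferInstance
        have h3 := h p p.2 hp2 _ h2 ((Lib.Cores.pCore_isPGroup (G := N) (p : ℕ)).map _) (f : K)
          ⟨f, hf, rfl⟩
        exact h3.symm
    intro f hf
    have := h1 hf
    rw [Subgroup.mem_subgroupOf, Subgroup.mem_centralizer_singleton_iff] at this
    exact this.symm
  intro n hn
  -- the commutator `c = t n t⁻¹ n⁻¹`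
  have hcN : t * n * t⁻¹ * n⁻¹ ∈ N := mul_mem (hN.conj_mem n hn t) (inv_mem hn)
  have hcC : (⟨_, hcN⟩ : N) ∈ Subgroup.centralizer (fittingSubgroup N : Set N) := by
    rw [Subgroup.mem_centralizer_iff]
    intro f hf
    have hnf : (⟨n, hn⟩ : N)⁻¹ * f * (⟨n, hn⟩ : N) ∈ fittingSubgroup N := by
      have := hFn.conj_mem f hf (⟨n, hn⟩ : N)⁻¹
      rwa [inv_inv] at this
    have e1 : t * (f : K) = f * t := hF f hf
    have e2 : t * (n⁻¹ * (f : K) * n) = (n⁻¹ * (f : K) * n) * t := hF _ hnf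
    apply Subtype.ext
    show (f : K) * (t * n * t⁻¹ * n⁻¹) = (t * n * t⁻¹ * n⁻¹) * f
    have e3 : t⁻¹ * (n⁻¹ * (f : K) * n) = (n⁻¹ * (f : K) * n) * t⁻¹ := by
      rw [hti]; exact e2
    calc (f : K) * (t * n * t⁻¹ * n⁻¹) = (f * t) * (n * t⁻¹ * n⁻¹) := by group
      _ = (t * f) * (n * t⁻¹ * n⁻¹) := by rw [e1]
      _ = t * n * ((n⁻¹ * (f : K) * n) * t⁻¹) * n⁻¹ := by group
      _ = t * n * (t⁻¹ * (n⁻¹ * (f : K) * n)) * n⁻¹ := by rw [e3]
      _ = (t * n * t⁻¹ * n⁻¹) * f := by group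
  have hcF := hC hcC
  have h1 : t * (t * n * t⁻¹ * n⁻¹) = (t * n * t⁻¹ * n⁻¹) * t := hF _ hcF
  -- `c` is inverted and centralized by `t`
  set c := t * n * t⁻¹ * n⁻¹ with hc
  have h2 : t * c * t⁻¹ = c⁻¹ := by
    rw [hc]
    calc t * (t * n * t⁻¹ * n⁻¹) * t⁻¹ = (t * t) * n * t⁻¹ * n⁻¹ * t⁻¹ := by group
      _ = n * t * n⁻¹ * t⁻¹ := by rw [htt, one_mul, hti]
      _ = (t * n * t⁻¹ * n⁻¹)⁻¹ := by group
  have h3 : c = c⁻¹ := by
    rw [← h2, h1]; group
  have h4 : c * c = 1 := by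
    nth_rewrite 2 [h3]; exact mul_inv_cancel c
  have h5 : c = 1 := by
    by_contra hne
    exact not_odd_of_mem N c hcN (orderOf_eq_two_of_mul_self h4 hne) hodd
  show t * n = n * t
  rw [hc] at h5
  exact mul_inv_eq_iff_eq_mul.mp (mul_inv_eq_one.mp h5)

end Fitting

section Final

variable {G : Type*} [Group G] [Finite G] {H : Subgroup G}

/-- **Bender**: `G` faithful and doubly transitive on the cosets of the strongly embedded subgroup
`H`. Then every involution of `H` centralizes every solvable normal subgroup of odd order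
of `H`, in particular `O(H)` (by the odd order theorem). -/
theorem commute_normal (hH : IsStronglyEmbedded H) (h2 : TwoTrans H) (hcore : H.normalCore = ⊥)
    {N : Subgroup H} (hN : N.Normal) (hodd : Odd (Nat.card N)) (hsol : Group.IsSolvable N) {t : H}
    (ht : orderOf t = 2) : ∀ n ∈ N, Commute t n := by
  refine commute_of_solvable ht hN hodd hsol ?_
  intro r hr hr2 A hA hAp a ha
  haveI := Fact.mk hr
  have h1 := commute_of_isPGroup hH h2 hcore hr2 (A := A.map H.subtype) (hAp.map _)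
    (by rintro _ ⟨x, -, rfl⟩; exact x.2)
    (by
      rintro g hg _ ⟨x, hx, rfl⟩
      exact ⟨_, hA.conj_mem x hx ⟨g, hg⟩, rfl⟩)
    (t := (t : G)) t.2 (by rw [Subgroup.orderOf_coe, ht]) (a : G) ⟨a, ha, rfl⟩
  exact Subtype.ext h1

theorem commute_oddCore (hH : IsStronglyEmbedded H) (h2 : TwoTrans H) (hcore : H.normalCore = ⊥)
    (hsol : Group.IsSolvable (oddCore H)) {t : H} (ht : orderOf t = 2) :
    ∀ n ∈ oddCore H, Commute t n :=
  commute_normal hH h2 hcore inferInstance (StrongEmb.TwoRank.odd_oddCore H) hsol ht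

end Final

end Cfsg.Agent.StrongEmb.CoreCentral
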