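import Mathlib
import Cfsg.Agent.StrongEmb.CoreCentral
import Cfsg.Agent.StrongEmb.Frame
import Cfsg.Agent.TwoFusion.BenderStar
import Cfsg.Agent.BenderW3.Setup

/-!
# Bender's theorem: two distinct points generate, or the involutions of `H` commute

`G` finite, faithful on the cosets of the strongly embedded subgroup `H`, with commuting
involutions, Bender's theorem known for smaller groups and groups of odd order solvable.
`big_or_comm`: either for all `x ≠ y` the involutions fixing `x` or `y` generate `G`, or any two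
involutions fixing the same point commute. `big_false`: in the first case, if `G` is simple, a
subgroup normalized by `G_x ∩ G_y`, by an involution fixing `x` and by an involution
interchanging `x` and `y` is trivial or all of `G`.
-/

set_option autoImplicit false

universe u

namespace Cfsg.Agent.StrongEmb.CaseSplit

open Cfsg MulAction Cfsg.Agent.TwoFusion.StronglyEmbeddedBasic
open Cfsg.Agent.SignalizersComponents.BenderCount
open Cfsg.Agent.SignalizersComponents.BenderPerfect
open Cfsg.Agent.StrongEmb.Basic Cfsg.Agent.StrongEmb.TwoRank Cfsg.Agent.StrongEmb.Split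
open Cfsg.Agent.StrongEmb.Frame Cfsg.Agent.StrongEmb.CoreCentral

/-! ### Groups generated by involutions commuting modulo a normal subgroup -/

section Gen

variable {G : Type*} [Group G]

/-- Let `C` be normalized by `Z = ⟨S⟩`, `S` a set of involutions commuting modulo `C`. Then `z * z`
lies in `C` for every `z ∈ Z`. -/
theorem mul_self_mem {S : Set G} {C : Subgroup G} (hS : ∀ s ∈ S, s * s = 1)
    (hC : ∀ s ∈ S, ∀ c ∈ C, s * c * s⁻¹ ∈ C) (hcomm : ∀ s ∈ S, ∀ t ∈ S, s * t * s⁻¹ * t⁻¹ ∈ C)
    {z : G} (hz : z ∈ Subgroup.closure S) : z * z ∈ C := by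
  have hinv : ∀ s ∈ S, s⁻¹ = s := fun s hs => inv_eq_of_mul_eq_one_left (hS s hs)
  -- commutators of elements of `S` with elements of `Z`
  have h1 : ∀ z ∈ Subgroup.closure S, ∀ s ∈ S, s * z * s⁻¹ * z⁻¹ ∈ C := by
    intro z hz
    induction hz using Subgroup.closure_induction_left with
    | one => intro s _; simp
    | mul_left x hx y hy ih =>
      intro s hs
      have e : s * (x * y) * s⁻¹ * (x * y)⁻¹ =
          (s * x * s⁻¹ * x⁻¹) * (x * (s * y * s⁻¹ * y⁻¹) * x⁻¹) := by group
      rw [e]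
      exact mul_mem (hcomm s hs x hx) (hC x hx _ (ih s hs))
    | inv_mul_cancel x hx y hy ih =>
      intro s hs
      rw [hinv x hx]
      have e : s * (x * y) * s⁻¹ * (x * y)⁻¹ =
          (s * x * s⁻¹ * x⁻¹) * (x * (s * y * s⁻¹ * y⁻¹) * x⁻¹) := by group
      rw [e]
      exact mul_mem (hcomm s hs x hx) (hC x hx _ (ih s hs))
  induction hz using Subgroup.closure_induction_left with
  | one => simp
  | mul_left x hx y hy ih =>
    have e : x * y * (x * y) = (x * y * x⁻¹ * y⁻¹) * (y * y) := by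
      rw [hinv x hx]
      calc x * y * (x * y) = x * y * x * y⁻¹ * (y * y) := by group
        _ = _ := rfl
    rw [e]
    exact mul_mem (h1 y hy x hx) ih
  | inv_mul_cancel x hx y hy ih =>
    rw [hinv x hx]
    have e : x * y * (x * y) = (x * y * x⁻¹ * y⁻¹) * (y * y) := by
      rw [hinv x hx]
      calc x * y * (x * y) = x * y * x * y⁻¹ * (y * y) := by group
        _ = _ := rfl
    rw [e]
    exact mul_mem (h1 y hy x hx) ih

/-- An element of odd order with square in `C` lies in `C`. -/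
theorem mem_of_mul_self_mem {C : Subgroup G} {z : G} (hz : z * z ∈ C) (hodd : Odd (orderOf z)) :
    z ∈ C := by
  obtain ⟨k, hk⟩ := hodd
  have h1 : z = ((z * z) ^ (k + 1)) := by
    have h2 : (z * z) ^ (k + 1) = z ^ (orderOf z) * z := by
      rw [← pow_two, ← pow_mul, hk, ← pow_succ]; congr 1
    rw [h2, pow_orderOf_eq_one, one_mul]
  rw [h1]
  exact pow_mem hz _

end Gen

section Main

variable {G : Type u} [Group G] [Finite G] {H : Subgroup G}

omit [Finite G] in
theorem conj_mem_invs {g v : G} {x y : G ⧸ H} (hv : v ∈ invs x y) :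
    g * v * g⁻¹ ∈ invs (g • x) (g • y) := by
  refine ⟨by rw [orderOf_conj, hv.1], ?_⟩
  rw [mul_smul, mul_smul, inv_smul_smul, hv.2]

omit [Finite G] in
/-- The subgroup generated by the involutions fixing `x` or `y`. -/
theorem closure_map_le (g : G) (x y : G ⧸ H) :
    (Subgroup.closure (invs x x ∪ invs y y)).map (MulAut.conj g).toMonoidHom ≤
      Subgroup.closure (invs (g • x) (g • x) ∪ invs (g • y) (g • y)) := by
  rw [MonoidHom.map_closure, Subgroup.closure_le]
  rintro _ ⟨v, hv | hv, rfl⟩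
  · exact Subgroup.subset_closure (Or.inl (conj_mem_invs hv))
  · exact Subgroup.subset_closure (Or.inr (conj_mem_invs hv))

omit [Finite G] in
theorem closure_eq_top_smul {g : G} {x y : G ⧸ H}
    (h : Subgroup.closure (invs x x ∪ invs y y) = ⊤) :
    Subgroup.closure (invs (g • x) (g • x) ∪ invs (g • y) (g • y)) = ⊤ := by
  rw [eq_top_iff]
  refine le_trans ?_ (closure_map_le g x y)
  rw [h]
  intro k _
  exact ⟨g⁻¹ * k * g, trivial, by simp [mul_assoc]⟩

/-- The main argument: if the involutions fixing `1 · H` or `y` generate a proper subgroup, the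
involutions of `H` commute. -/
theorem comm_of_proper (hH : IsStronglyEmbedded H) (hr : CommPair G) (h2 : TwoTrans H)
    (hcore : H.normalCore = ⊥)
    (hIH : ∀ (K : Type u) [Group K] [Finite K], Nat.card K < Nat.card G → BenderHolds K)
    (hFT : ∀ (K : Type u) [Group K] [Finite K], Odd (Nat.card K) → Group.IsSolvable K)
    {y : G ⧸ H} (hy : ((1 : G) : G ⧸ H) ≠ y)
    (hL : Subgroup.closure (invs ((1 : G) : G ⧸ H) ((1 : G) : G ⧸ H) ∪ invs y y) ≠ ⊤) {s t : G}
    (hsH : s ∈ H) (htH : t ∈ H) (hs : orderOf s = 2) (ht : orderOf t = 2) : Commute s t := by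
  set a : G ⧸ H := ((1 : G) : G ⧸ H) with ha
  set L := Subgroup.closure (invs a a ∪ invs y y) with hLdef
  have hU := uniqueFix_quotient hH
  have hfix : ∀ g : G, g • a = a ↔ g ∈ H := fun g => smul_one_eq_iff g
  have hsa : s • a = a := (hfix s).mpr hsH
  have hta : t • a = a := (hfix t).mpr htH
  obtain ⟨s₁, s₂, hs₁, hs₂, hne, hc, hs₁a, hs₂a⟩ := exists_commuting_of_fix hU hr hs hsa
  -- an involution fixing `y`
  obtain ⟨g, hg⟩ := MulAction.exists_smul_eq G a y
  have hw : g * s * g⁻¹ ∈ invs y y := by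
    have := conj_mem_invs (g := g) (show s ∈ invs a a from ⟨hs, hsa⟩)
    rwa [hg] at this
  have hwa : (g * s * g⁻¹) • a ≠ a := fun h => hy (hU.eq hw.1 h hw.2)
  have hgood : Good L a := good_of_ih hIH hU hL (Subgroup.subset_closure (Or.inl ⟨hs₁, hs₁a⟩))
    (Subgroup.subset_closure (Or.inl ⟨hs₂, hs₂a⟩)) hs₁ hs₂ hne hc hs₁a
    (Subgroup.subset_closure (Or.inr hw)) hwa
  have haL : a ∈ orbit L a := mem_orbit_self a
  -- the group generated by the involutions of `H`
  set Z := Subgroup.closure (invs a a) with hZ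
  have hZL : Z ≤ L := Subgroup.closure_mono Set.subset_union_left
  have hZH : Z ≤ H := by
    rw [hZ, Subgroup.closure_le]
    exact fun v hv => (hfix v).mp hv.2
  have hsq : ∀ z ∈ Z, z * z ∈ coreOf L := by
    intro z hz
    refine mul_self_mem (S := invs a a) (C := coreOf L) (fun v hv => mul_self_of_orderOf hv.1) ?_ ?_ hz
    · intro v hv c hc
      exact coreOf_conj (hZL (Subgroup.subset_closure hv)) hc
    · intro v hv w hw
      exact hgood.inv_comm a haL v (hZL (Subgroup.subset_closure hv)) w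
        (hZL (Subgroup.subset_closure hw)) hv.1 hv.2 hw.2 ⟨1, by rw [hw.1, pow_one]⟩
  have hmem : ∀ z : G, z ∈ Z → Odd (orderOf z) → z ∈ coreOf L := fun z hz hodd =>
    mem_of_mul_self_mem (hsq z hz) hodd
  have hodd : ∀ z : G, z ∈ coreOf L → Odd (orderOf z) := fun z hz =>
    Odd.of_dvd_nat (odd_coreOf L) ((coreOf L).orderOf_dvd_natCard hz)
  -- `N = Z ⊓ O(L)` is normal in `H`
  set N : Subgroup H := (Z ⊓ coreOf L).subgroupOf H with hN
  have hNmem : ∀ k : H, k ∈ N ↔ (k : G) ∈ Z ∧ (k : G) ∈ coreOf L := fun k => Iff.rfl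
  have hZconj : ∀ k ∈ H, ∀ z ∈ Z, k * z * k⁻¹ ∈ Z := by
    intro k hk z hz
    have h1 : Z.map (MulAut.conj k).toMonoidHom ≤ Z := by
      rw [hZ, MonoidHom.map_closure, Subgroup.closure_le]
      rintro _ ⟨v, hv, rfl⟩
      have := conj_mem_invs (g := k) hv
      rw [(hfix k).mpr hk] at this
      exact Subgroup.subset_closure this
    exact h1 ⟨z, hz, rfl⟩
  have hNn : N.Normal := by
    constructor
    rintro n hn k
    obtain ⟨h1, h3⟩ := (hNmem n).mp hn
    have h4 : (k : G) * (n : G) * (k : G)⁻¹ ∈ Z := hZconj k k.2 n h1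
    refine (hNmem _).mpr ⟨h4, hmem _ h4 ?_⟩
    have h5 : Odd (orderOf ((k : G) * (n : G) * (k : G)⁻¹)) := by
      rw [orderOf_conj]; exact hodd _ h3
    exact h5
  have hNodd : Odd (Nat.card N) := by
    have h1 : Nat.card N = Nat.card ↥(Z ⊓ coreOf L) :=
      Nat.card_congr (Subgroup.subgroupOfEquivOfLe (inf_le_left.trans hZH)).toEquiv
    rw [h1]
    exact Odd.of_dvd_nat (odd_coreOf L) (Subgroup.card_dvd_of_le inf_le_right)
  have hcN : s * t * s⁻¹ * t⁻¹ ∈ Z ⊓ coreOf L := by
    refine ⟨?_, hgood.inv_comm a haL s (hZL (Subgroup.subset_closure ⟨hs, hsa⟩)) t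
      (hZL (Subgroup.subset_closure ⟨ht, hta⟩)) hs hsa hta ⟨1, by rw [ht, pow_one]⟩⟩
    have h1 : s ∈ Z := Subgroup.subset_closure ⟨hs, hsa⟩
    have h3 : t ∈ Z := Subgroup.subset_closure ⟨ht, hta⟩
    exact Z.mul_mem (Z.mul_mem (Z.mul_mem h1 h3) (Z.inv_mem h1)) (Z.inv_mem h3)
  have hcH : s * t * s⁻¹ * t⁻¹ ∈ H := hZH hcN.1
  have hcent := commute_normal hH h2 hcore hNn hNodd (hFT N hNodd) (t := ⟨s, hsH⟩)
    (by rw [Subgroup.orderOf_mk, hs]) ⟨_, hcH⟩ ((hNmem _).mpr hcN)
  have h5 : s * (s * t * s⁻¹ * t⁻¹) = (s * t * s⁻¹ * t⁻¹) * s := congrArg Subtype.val hcent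
  set c := s * t * s⁻¹ * t⁻¹ with hcdef
  have hss := mul_self_of_orderOf hs
  have hsi := inv_eq_self_of_orderOf hs
  have h6 : s * c * s⁻¹ = c⁻¹ := by
    calc s * c * s⁻¹ = (s * s) * t * s⁻¹ * t⁻¹ * s⁻¹ := by rw [hcdef]; group
      _ = t * s * t⁻¹ * s⁻¹ := by rw [hss, one_mul, hsi]
      _ = c⁻¹ := by rw [hcdef]; group
  have h7 : c = c⁻¹ := by rw [← h6, h5]; group
  have h8 : c * c = 1 := by
    nth_rewrite 2 [h7]; exact mul_inv_cancel c
  have h9 : c = 1 := by
    by_contra hne
    have h10 := hodd c hcN.2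
    rw [orderOf_eq_two_of_mul_self h8 hne] at h10
    exact absurd h10 (by decide)
  show s * t = t * s
  exact mul_inv_eq_iff_eq_mul.mp (mul_inv_eq_one.mp h9)

omit [Finite G] in
/-- Two involutions fixing the same point commute if this holds for the involutions of `H`. -/
theorem comm_of_comm_one
    (h : ∀ s t : G, s ∈ H → t ∈ H → orderOf s = 2 → orderOf t = 2 → Commute s t) (x : G ⧸ H)
    (s t : G) (hs : orderOf s = 2) (ht : orderOf t = 2) (hsx : s • x = x) (htx : t • x = x) :
    Commute s t := by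
  obtain ⟨g, hg⟩ := MulAction.exists_smul_eq G x ((1 : G) : G ⧸ H)
  have h1 : ∀ v : G, orderOf v = 2 → v • x = x → g * v * g⁻¹ ∈ H := by
    intro v hv hvx
    have := conj_mem_invs (g := g) (show v ∈ invs x x from ⟨hv, hvx⟩)
    rw [hg] at this
    exact (smul_one_eq_iff _).mp this.2
  have h3 := h _ _ (h1 s hs hsx) (h1 t ht htx) (by rw [orderOf_conj, hs]) (by rw [orderOf_conj, ht])
  have h4 : g * (s * t) * g⁻¹ = g * (t * s) * g⁻¹ := by
    calc g * (s * t) * g⁻¹ = (g * s * g⁻¹) * (g * t * g⁻¹) := by group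
      _ = (g * t * g⁻¹) * (g * s * g⁻¹) := h3
      _ = g * (t * s) * g⁻¹ := by group
  exact mul_left_cancel (mul_right_cancel h4)

/-- **The case distinction.** -/
theorem big_or_comm (hH : IsStronglyEmbedded H) (hr : CommPair G) (h2 : TwoTrans H)
    (hcore : H.normalCore = ⊥)
    (hIH : ∀ (K : Type u) [Group K] [Finite K], Nat.card K < Nat.card G → BenderHolds K)
    (hFT : ∀ (K : Type u) [Group K] [Finite K], Odd (Nat.card K) → Group.IsSolvable K) :
    (∀ x y : G ⧸ H, x ≠ y → Subgroup.closure (invs x x ∪ invs y y) = ⊤) ∨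
    (∀ (x : G ⧸ H) (s t : G), orderOf s = 2 → orderOf t = 2 → s • x = x → t • x = x →
      Commute s t) := by
  by_cases hbig : ∀ x y : G ⧸ H, x ≠ y → Subgroup.closure (invs x x ∪ invs y y) = ⊤
  · exact Or.inl hbig
  right
  push Not at hbig
  obtain ⟨x, y, hxy, hL⟩ := hbig
  obtain ⟨g, hg⟩ := MulAction.exists_smul_eq G ((1 : G) : G ⧸ H) x
  have hy : ((1 : G) : G ⧸ H) ≠ g⁻¹ • y := by
    intro h
    apply hxy
    rw [← hg, h, smul_inv_smul]
  have hL' : Subgroup.closure (invs ((1 : G) : G ⧸ H) ((1 : G) : G ⧸ H) ∪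
      invs (g⁻¹ • y) (g⁻¹ • y)) ≠ ⊤ := by
    intro h
    apply hL
    have := closure_eq_top_smul (g := g) h
    rwa [hg, smul_inv_smul] at this
  exact comm_of_comm_one
    (fun s t hsH htH hs ht => comm_of_proper hH hr h2 hcore hIH hFT hy hL' hsH htH hs ht)

end Main

section Frame

variable {G : Type*} [Group G] [Finite G] {H : Subgroup G}

/-- Double transitivity (`S1220`). -/
theorem twoTrans (hH : IsStronglyEmbedded H) (hr : CommPair G) : TwoTrans H := by
  obtain ⟨a, b, ha, hb, hne, hc⟩ := hr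
  intro x y z hxy hxz
  exact TwoFusion.BenderStar.two_transitive_of_commute hH ha hb hc hne hxy hxz

/-- The frame of the second case (`BenderW3`). -/
theorem frame_of_comm (hH : IsStronglyEmbedded H) (h2 : TwoTrans H)
    (hcomm : ∀ (x : G ⧸ H) (s t : G), orderOf s = 2 → orderOf t = 2 → s • x = x → t • x = x →
      Commute s t) : BenderW3.Setup.Frame G (G ⧸ H) :=
  ⟨uniqueFix_quotient hH, fun x y z hy hz => h2 x y z hy.symm hz.symm, hcomm⟩

end Frame

/-! ### Subgroups normalized by too much -/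

section Big

variable {G : Type*} [Group G] [Finite G] {H : Subgroup G}

/-- If the involutions fixing `x` or `y` generate `G`, a subgroup normalized by `G_x ∩ G_y`, by an
involution fixing `x` and by an involution interchanging `x` and `y` is normal. -/
theorem normal_of_normalized (hH : IsStronglyEmbedded H) {x y : G ⧸ H} (hxy : x ≠ y)
    (hbig : Subgroup.closure (invs x x ∪ invs y y) = ⊤) {M : Subgroup G}
    (hM : stab2 x y ≤ Subgroup.normalizer (M : Set G)) {v t : G} (hv : v ∈ invs x y)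
    (ht : t ∈ invs x x) (hvM : v ∈ Subgroup.normalizer (M : Set G))
    (htM : t ∈ Subgroup.normalizer (M : Set G)) : M.Normal := by
  have hx : ∀ s ∈ invs x x, s ∈ Subgroup.normalizer (M : Set G) := by
    intro s hs
    obtain ⟨d, hd1, hd2, hd⟩ := exists_conj_of_fixes hH hxy ht hs
    have hdM := hM (mem_stab2.mpr ⟨hd1, hd2⟩)
    rw [← hd]
    exact mul_mem (mul_mem hdM htM) (inv_mem hdM)
  have hvy : v • y = x := by
    rw [← hv.2, ← mul_smul, mul_self_of_orderOf hv.1, one_smul]
  have hy : ∀ s ∈ invs y y, s ∈ Subgroup.normalizer (M : Set G) := by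
    intro s hs
    have h1 : v * s * v⁻¹ ∈ invs x x := by
      have := conj_mem_invs (g := v) hs
      rwa [hvy] at this
    have h2 := hx _ h1
    have e : s = v⁻¹ * (v * s * v⁻¹) * v := by group
    rw [e]
    exact mul_mem (mul_mem (inv_mem hvM) h2) hvM
  have h3 : Subgroup.normalizer (M : Set G) = ⊤ := by
    rw [eq_top_iff, ← hbig, Subgroup.closure_le]
    rintro s (hs | hs)
    · exact hx s hs
    · exact hy s hs
  exact Subgroup.normalizer_eq_top_iff.mp h3

/-- In a simple group such a subgroup is trivial if it is proper. -/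
theorem eq_bot_of_normalized [IsSimpleGroup G] (hH : IsStronglyEmbedded H) {x y : G ⧸ H}
    (hxy : x ≠ y) (hbig : Subgroup.closure (invs x x ∪ invs y y) = ⊤) {M : Subgroup G}
    (hM : stab2 x y ≤ Subgroup.normalizer (M : Set G)) {v t : G} (hv : v ∈ invs x y)
    (ht : t ∈ invs x x) (hvM : v ∈ Subgroup.normalizer (M : Set G))
    (htM : t ∈ Subgroup.normalizer (M : Set G)) (hne : M ≠ ⊤) : M = ⊥ :=
  (IsSimpleGroup.eq_bot_or_eq_top_of_normal M
    (normal_of_normalized hH hxy hbig hM hv ht hvM htM)).resolve_right hne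

end Big

end Cfsg.Agent.StrongEmb.CaseSplit
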