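import Mathlib
import Cfsg.Agent.Lib.PGroupCoprimeAction

/-!
# A dihedral group acting coprimely on a solvable group

Let `k` be an element of `r`-power order, `t * t = 1`, `t * k * t⁻¹ = k⁻¹`, and let `O` be a
solvable subgroup of order prime to `2 * r` normalised by `k` and `t`. Then `O` is generated by
`C_O(k)`, `C_O(t)` and `C_O(t * k)`.
-/

set_option autoImplicit false

namespace Cfsg.Agent.StrongEmb.DihedralLe

open Cfsg.Agent.Lib.PGroupCoprimeAction

variable {G : Type*} [Group G]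

theorem zpowers_conj_mem {U : Subgroup G} [Finite G] {v : G} (h : ∀ u ∈ U, v * u * v⁻¹ ∈ U) :
    ∀ b ∈ Subgroup.zpowers v, ∀ u ∈ U, b * u * b⁻¹ ∈ U := by
  intro b hb u hu
  obtain ⟨n, rfl⟩ : b ∈ Submonoid.powers v := by rwa [mem_powers_iff_mem_zpowers]
  clear hb
  induction n with
  | zero => simpa using hu
  | succ n ih =>
    have e : v ^ (n + 1) * u * (v ^ (n + 1))⁻¹ = v * (v ^ n * u * (v ^ n)⁻¹) * v⁻¹ := by
      rw [pow_succ']; group
    simp only at ih ⊢
    rw [e]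
    exact h _ ih

theorem isPGroup_two_zpowers {v : G} (hv : v * v = 1) : IsPGroup 2 (Subgroup.zpowers v) := by
  rintro ⟨x, hx⟩
  obtain ⟨n, rfl⟩ := Subgroup.mem_zpowers_iff.mp hx
  refine ⟨1, Subtype.ext ?_⟩
  have h1 : (v ^ n) ^ 2 = 1 := by
    rw [← zpow_natCast (v ^ n) 2, ← zpow_mul, mul_comm, zpow_mul]
    have : v ^ ((2 : ℕ) : ℤ) = 1 := by rw [zpow_natCast, pow_two, hv]
    rw [this, one_zpow]
  simpa using h1

theorem conj_commutator_mem {O : Subgroup G} {v : G} (h : ∀ u ∈ O, v * u * v⁻¹ ∈ O) :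
    ∀ u ∈ ⁅O, O⁆, v * u * v⁻¹ ∈ ⁅O, O⁆ := by
  have h1 : O.map (MulAut.conj v).toMonoidHom ≤ O := by
    rintro _ ⟨u, hu, rfl⟩
    exact h u hu
  intro u hu
  have h2 : (⁅O, O⁆ : Subgroup G).map (MulAut.conj v).toMonoidHom ≤ ⁅O, O⁆ := by
    rw [Subgroup.map_commutator]
    exact Subgroup.commutator_mono h1 h1
  exact h2 ⟨u, hu, rfl⟩

/-- `O` is generated by `C_O(k)`, `C_O(t)` and `C_O(t * k)`. -/
theorem dihedral_le [Finite G] {r : ℕ} [hr : Fact r.Prime] {k t : G} {M : Subgroup G}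
    (hk : IsPGroup r (Subgroup.zpowers k)) (ht : t * t = 1) (htk : (t * k) * (t * k) = 1) :
    ∀ n : ℕ, ∀ O : Subgroup G, Nat.card O < n → Group.IsSolvable O → Odd (Nat.card O) →
      ¬ r ∣ Nat.card O → (∀ u ∈ O, k * u * k⁻¹ ∈ O) → (∀ u ∈ O, t * u * t⁻¹ ∈ O) →
      (∀ u ∈ O, k * u = u * k → u ∈ M) → (∀ u ∈ O, t * u = u * t → u ∈ M) →
      (∀ u ∈ O, (t * k) * u = u * (t * k) → u ∈ M) → O ≤ M := by
  intro n
  induction n with
  | zero => intro O h; omega
  | succ n IH =>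
  intro O hn hsol hodd hrO hkO htO hMk hMt hMtk
  by_cases hbot : O = ⊥
  · rw [hbot]; exact bot_le
  have h2 : ¬ 2 ∣ Nat.card O := by
    rw [← even_iff_two_dvd, Nat.not_even_iff_odd]; exact hodd
  have htkO : ∀ u ∈ O, (t * k) * u * (t * k)⁻¹ ∈ O := by
    intro u hu
    have h1 := htO _ (hkO u hu)
    have e : t * k * u * (t * k)⁻¹ = t * (k * u * k⁻¹) * t⁻¹ := by group
    rw [e]; exact h1
  -- the derived subgroup
  have hWle : ⁅O, O⁆ ≤ O := Subgroup.commutator_le_self O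
  have hWlt : ⁅O, O⁆ < O := by
    have hnt : Nontrivial O := (Subgroup.nontrivial_iff_ne_bot O).mpr hbot
    have h3 : commutator O < ⊤ := Group.IsSolvable.commutator_lt_top_of_nontrivial O
    have h4 : (commutator O).map O.subtype = ⁅O, O⁆ := Subgroup.map_subtype_commutator O
    have h5 : (commutator O).map O.subtype < (⊤ : Subgroup O).map O.subtype :=
      (Subgroup.map_lt_map_iff_of_injective O.subtype_injective).mpr h3
    rw [h4, ← MonoidHom.range_eq_map, Subgroup.range_subtype] at h5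
    exact h5
  have hWcard : Nat.card (⁅O, O⁆ : Subgroup G) < Nat.card O := by
    have h3 := Subgroup.card_le_of_le hWle
    rcases h3.lt_or_eq with h4 | h4
    · exact h4
    · exact absurd (Subgroup.eq_of_le_of_card_ge hWle h4.ge) hWlt.ne
  have hdvd : Nat.card (⁅O, O⁆ : Subgroup G) ∣ Nat.card O := Subgroup.card_dvd_of_le hWle
  have hsolW : Group.IsSolvable (⁅O, O⁆ : Subgroup G) :=
    Group.isSolvable_of_isSolvable_injective (Subgroup.inclusion_injective hWle)
  have hW : ⁅O, O⁆ ≤ M := by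
    refine IH _ (by omega) hsolW (Odd.of_dvd_nat hodd hdvd) (fun h => hrO (h.trans hdvd))
      (conj_commutator_mem hkO) (conj_commutator_mem htO) ?_ ?_ ?_
    · exact fun u hu h => hMk u (hWle hu) h
    · exact fun u hu h => hMt u (hWle hu) h
    · exact fun u hu h => hMtk u (hWle hu) h
  -- commutators
  have hcomm : ∀ a ∈ O, ∀ b ∈ O, a * b * a⁻¹ * b⁻¹ ∈ M := by
    intro a ha b hb
    have := Subgroup.commutator_mem_commutator ha hb
    rw [commutatorElement_def] at this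
    exact hW this
  -- an involution `v`: `z * (v z v⁻¹) ∈ M`
  have hinv : ∀ v : G, v * v = 1 → (∀ u ∈ O, v * u * v⁻¹ ∈ O) →
      (∀ u ∈ O, v * u = u * v → u ∈ M) → ∀ z ∈ O, z * (v * z * v⁻¹) ∈ M := by
    intro v hv hvO hvM z hz
    have hvi : v⁻¹ = v := inv_eq_of_mul_eq_one_right hv
    have hy := hvO z hz
    obtain ⟨c, hc, hcW⟩ := exists_centralizer_mem_coset (A := Subgroup.zpowers v) (H := O)
      (isPGroup_two_zpowers hv) h2 (zpowers_conj_mem hvO) (N := ⁅O, O⁆)
      (zpowers_conj_mem (conj_commutator_mem hvO)) (h := z * (v * z * v⁻¹)) (O.mul_mem hz hy) (by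
        intro b hb
        obtain ⟨m, rfl⟩ := Subgroup.mem_zpowers_iff.mp hb
        rcases Int.even_or_odd m with ⟨j, rfl⟩ | ⟨j, rfl⟩
        · have e : v ^ (j + j) = 1 := by
            rw [← two_mul, zpow_mul]
            have : v ^ (2 : ℤ) = 1 := by
              have : v ^ (2 : ℤ) = v * v := by
                rw [show (2 : ℤ) = ((2 : ℕ) : ℤ) from rfl, zpow_natCast, pow_two]
              rw [this, hv]
            rw [this, one_zpow]
          rw [e]
          have : (z * (v * z * v⁻¹))⁻¹ * (1 * (z * (v * z * v⁻¹)) * 1⁻¹) = 1 := by group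
          rw [this]; exact one_mem _
        · have e : v ^ (2 * j + 1) = v := by
            rw [zpow_add, zpow_mul, zpow_one]
            have : v ^ (2 : ℤ) = 1 := by
              have : v ^ (2 : ℤ) = v * v := by
                rw [show (2 : ℤ) = ((2 : ℕ) : ℤ) from rfl, zpow_natCast, pow_two]
              rw [this, hv]
            rw [this, one_zpow, one_mul]
          rw [e]
          have h5 : v * (z * (v * z * v⁻¹)) * v⁻¹ = (v * z * v⁻¹) * z := by
            rw [hvi]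
            calc v * (z * (v * z * v)) * v = (v * z * v) * z * (v * v) := by group
              _ = (v * z * v) * z := by rw [hv, mul_one]
          rw [h5]
          have h6 := Subgroup.commutator_mem_commutator (inv_mem hy) (inv_mem hz)
          rw [commutatorElement_def] at h6
          have h7 : (z * (v * z * v⁻¹))⁻¹ * (v * z * v⁻¹ * z) =
              (v * z * v⁻¹)⁻¹ * z⁻¹ * ((v * z * v⁻¹)⁻¹)⁻¹ * (z⁻¹)⁻¹ := by group
          rw [h7]
          exact h6)
    have hcM : c ∈ M := by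
      refine hvM c hc.1 ?_
      exact Subgroup.mem_centralizer_iff.mp hc.2 v (Subgroup.mem_zpowers v)
    have h8 : z * (v * z * v⁻¹) = c * ((z * (v * z * v⁻¹))⁻¹ * c)⁻¹ := by group
    rw [h8]
    exact M.mul_mem hcM (M.inv_mem (hW hcW))
  -- `k` centralises `O / (M ∩ O)`
  have hkz : ∀ z ∈ O, z⁻¹ * (k * z * k⁻¹) ∈ M := by
    intro z hz
    set y := (t * k) * z * (t * k)⁻¹ with hy
    have hyO : y ∈ O := htkO z hz
    have h3 : z * y ∈ M := hinv (t * k) htk htkO hMtk z hz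
    have h4 : y * (t * y * t⁻¹) ∈ M := hinv t ht htO hMt y hyO
    have h5 : t * y * t⁻¹ = k * z * k⁻¹ := by
      rw [hy]
      calc t * (t * k * z * (t * k)⁻¹) * t⁻¹ = (t * t) * k * z * k⁻¹ * (t * t)⁻¹ := by group
        _ = k * z * k⁻¹ := by rw [ht]; group
    rw [h5] at h4
    have hkzO := hkO z hz
    -- z⁻¹ * w = (z * y)... up to commutators
    have h6 : z⁻¹ * (k * z * k⁻¹) =
        (z⁻¹ * y⁻¹ * (z⁻¹)⁻¹ * (y⁻¹)⁻¹) * ((z * y)⁻¹ * (z * y) * (y⁻¹ * z⁻¹)) *
          (y * (k * z * k⁻¹)) := by group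
    rw [h6]
    refine M.mul_mem (M.mul_mem (hcomm _ (inv_mem hz) _ (inv_mem hyO)) ?_) h4
    have h7 : (z * y)⁻¹ * (z * y) * (y⁻¹ * z⁻¹) = (z * y)⁻¹ := by group
    rw [h7]
    exact M.inv_mem h3
  have hkM : ∀ b ∈ Subgroup.zpowers k, ∀ z ∈ O, z⁻¹ * (b * z * b⁻¹) ∈ M := by
    intro b hb
    obtain ⟨m, rfl⟩ : b ∈ Submonoid.powers k := by rwa [mem_powers_iff_mem_zpowers]
    clear hb
    induction m with
    | zero => intro z _; simp
    | succ m ih =>
      intro z hz
      simp only at ih ⊢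
      have h3 := hkz z hz
      have hz' := hkO z hz
      have h4 := ih (k * z * k⁻¹) hz'
      have e : z⁻¹ * (k ^ (m + 1) * z * (k ^ (m + 1))⁻¹) =
          (z⁻¹ * (k * z * k⁻¹)) * ((k * z * k⁻¹)⁻¹ * (k ^ m * (k * z * k⁻¹) * (k ^ m)⁻¹)) := by
        rw [pow_succ]; group
      rw [e]
      exact M.mul_mem h3 h4
  intro z hz
  obtain ⟨c, hc, hcM⟩ := exists_centralizer_mem_coset (A := Subgroup.zpowers k) (H := O)
    hk hrO (zpowers_conj_mem hkO) (N := M ⊓ O) (by
      intro b hb u hu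
      refine ⟨?_, zpowers_conj_mem hkO b hb u hu.2⟩
      have h3 := hkM b hb u hu.2
      have h4 := M.mul_mem hu.1 h3
      have e : u * (u⁻¹ * (b * u * b⁻¹)) = b * u * b⁻¹ := by group
      rwa [e] at h4) (h := z) hz (by
      intro b hb
      exact ⟨hkM b hb z hz, O.mul_mem (O.inv_mem hz) (zpowers_conj_mem hkO b hb z hz)⟩)
  have hcM' : c ∈ M :=
    hMk c hc.1 (Subgroup.mem_centralizer_iff.mp hc.2 k (Subgroup.mem_zpowers k))
  have h8 : z = c * (z⁻¹ * c)⁻¹ := by group
  rw [h8]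
  exact M.mul_mem hcM' (M.inv_mem hcM.1)

end Cfsg.Agent.StrongEmb.DihedralLe
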