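import Mathlib
import Cfsg.Agent.StrongEmb.Frame
import Cfsg.Agent.StrongEmb.CoreCentral
import Cfsg.Agent.TwoFusion.BenderStar

/-!
# Bender's theorem, involutions normalizing `p`-subgroups (R-GOOD), part 1

Let `H` be strongly embedded in `G` and `Star H p`. A pair `U`, `w` is *bad* at `x` if the
`p`-subgroup `U` and the involution `w` fix `x`, `w` normalizes but does not centralize `U`.

Steps (1) and (2) of the proof that there are no bad pairs: if `(U, w)` is a bad pair, `U` maximal,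
then `N = N_G(U)` moves `x` and `N ∩ G_x` contains two commuting involutions.
-/

set_option autoImplicit false

universe u

namespace Cfsg.Agent.StrongEmb.RGoodBasic

open Cfsg Cfsg.Agent.TwoFusion.StronglyEmbeddedBasic
open Cfsg.Agent.SignalizersComponents.BenderCount
open Cfsg.Agent.SignalizersComponents.BenderPerfect
open Cfsg.Agent.Blocks.SylowIn
open Cfsg.Agent.TwoFusion.BenderTwoTrans
open Cfsg.Agent.StrongEmb.Basic

variable {G : Type u} [Group G] [Finite G] {H : Subgroup G}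

/-- The `p`-subgroup `U` and the involution `w` fix `x`, `w` normalizes `U` but does not
centralize it. -/
structure Bad (p : ℕ) (U : Subgroup G) (w : G) (x : G ⧸ H) : Prop where
  pg : IsPGroup p U
  inv : orderOf w = 2
  fix : w • x = x
  mem : ∀ u ∈ U, u • x = x
  norm : ∀ u ∈ U, w * u * w⁻¹ ∈ U
  ne : ∃ u ∈ U, w * u * w⁻¹ ≠ u

/-- Under `Star H p` every `p`-subgroup fixes two points. -/
theorem exists_two_fixed (hH : IsStronglyEmbedded H) {p : ℕ} [hp : Fact p.Prime]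
    (hs : Star H p) {U : Subgroup G} (hU : IsPGroup p U) :
    ∃ x y : G ⧸ H, x ≠ y ∧ x ∈ fixp H U ∧ y ∈ fixp H U := by
  have hp2 := TwoFusion.BenderStar.ne_two_of_star hH hs
  obtain ⟨x0, y0, hne, P0, hP0, hpair0⟩ :=
    exists_max hH hp2 hs (TwoFusion.BenderStar.coreHyp G)
  have hP0' := exists_sylow_map_eq_iff.mp hP0
  have hx : x0 ∈ fixp H P0 := fun d hd => (mem_stab2.mp (hP0'.1 hd)).1
  have hy : y0 ∈ fixp H P0 := fun d hd => (mem_stab2.mp (hP0'.1 hd)).2
  let S0 : Sylow p G := ⟨P0, hP0'.2.1, fun {Q} hQ hle =>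
    sylow_of_fixp_pair hp2 hP0 hpair0 hQ hle⟩
  obtain ⟨S, hS⟩ := hU.exists_le_sylow
  obtain ⟨g, hg⟩ := MulAction.exists_smul_eq G S0 S
  have key : ∀ z ∈ fixp H P0, g • z ∈ fixp H U := by
    intro z hz u hu
    have h1 : u ∈ (g • S0 : Sylow p G) := by rw [hg]; exact hS hu
    obtain ⟨s, hsm, rfl⟩ : u ∈ ((g • S0 : Sylow p G) : Subgroup G) := h1
    have h2 : s • z = z := hz s hsm
    show (g * s * g⁻¹) • g • z = g • z
    rw [mul_smul, mul_smul, inv_smul_smul, h2]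
  exact ⟨g • x0, g • y0, fun h => hne (smul_left_cancel g h), key x0 hx, key y0 hy⟩

theorem exists_other_fixed (hH : IsStronglyEmbedded H) {p : ℕ} [hp : Fact p.Prime]
    (hs : Star H p) {U : Subgroup G} (hU : IsPGroup p U) (x : G ⧸ H) :
    ∃ y : G ⧸ H, x ≠ y ∧ y ∈ fixp H U := by
  obtain ⟨a, b, hab, ha, hb⟩ := exists_two_fixed hH hs hU
  by_cases h : x = a
  · exact ⟨b, fun h' => hab (h.symm.trans h'), hb⟩
  · exact ⟨a, h, ha⟩

/-- If `N_G(U)` moves `x`, no involution centralizes `U`. -/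
theorem Bad.not_centralize (hH : IsStronglyEmbedded H) {p : ℕ} {U : Subgroup G} {w : G}
    {x : G ⧸ H} (h : Bad p U w x) {g : G} (hg : g ∈ Subgroup.normalizer (U : Set G))
    (hgx : g • x ≠ x) {v : G} (hv : orderOf v = 2) : ∃ u ∈ U, v * u * v⁻¹ ≠ u := by
  by_contra hno
  push Not at hno
  have hvN : v ∈ Subgroup.normalizer (U : Set G) :=
    mem_normalizer_of_forall (fun u hu => by rw [hno u hu]; exact hu)
  have hwN : w ∈ Subgroup.normalizer (U : Set G) := mem_normalizer_of_forall h.norm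
  have hc := ((uniqueFix_quotient hH).subgroup (Subgroup.normalizer (U : Set G))).isConj
    (t := ⟨w, hwN⟩) (x := x) (by rw [Subgroup.orderOf_mk]; exact h.inv) h.fix (g := ⟨g, hg⟩) hgx
    (a := ⟨v, hvN⟩) (b := ⟨w, hwN⟩) (by rw [Subgroup.orderOf_mk]; exact hv)
    (by rw [Subgroup.orderOf_mk]; exact h.inv)
  obtain ⟨⟨c, hc⟩, hcvw⟩ := isConj_iff.mp hc
  have hcw : c * v * c⁻¹ = w := congrArg Subtype.val hcvw
  obtain ⟨u, hu, hne⟩ := h.ne
  apply hne
  have h1 : c⁻¹ * u * c ∈ U := by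
    have := forall_of_mem_normalizer (inv_mem hc) u hu
    rwa [inv_inv] at this
  have h2 := hno _ h1
  rw [← hcw]
  calc c * v * c⁻¹ * u * (c * v * c⁻¹)⁻¹ = c * (v * (c⁻¹ * u * c) * v⁻¹) * c⁻¹ := by group
    _ = u := by rw [h2]; group

theorem Bad.odd (hH : IsStronglyEmbedded H) {p : ℕ} [hp : Fact p.Prime] (hs : Star H p)
    {U : Subgroup G} {w : G} {x : G ⧸ H} (h : Bad p U w x) : Odd (Nat.card U) :=
  odd_of_pGroup (TwoFusion.BenderStar.ne_two_of_star hH hs) h.pg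

/-- The involution of a bad pair moves all other fixed points. -/
theorem Bad.smul_ne (hH : IsStronglyEmbedded H) {p : ℕ} {U : Subgroup G} {w : G} {x : G ⧸ H}
    (h : Bad p U w x) {y : G ⧸ H} (hxy : x ≠ y) : w • y ≠ y := fun hy =>
  hxy (eq_of_smul_eq hH h.inv h.fix hy)

theorem Bad.smul_mem {p : ℕ} {U : Subgroup G} {w : G} {x : G ⧸ H}
    (h : Bad p U w x) {y : G ⧸ H} (hy : y ∈ fixp H U) : w • y ∈ fixp H U :=
  le_stab2 hy (mem_normalizer_of_forall h.norm)

/-- **Step (1)**: for a maximal bad pair the normalizer moves `x`. -/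
theorem Bad.exists_move (hH : IsStronglyEmbedded H) {p : ℕ} [hp : Fact p.Prime] (hs : Star H p)
    {U : Subgroup G} {w : G} {x : G ⧸ H} (h : Bad p U w x)
    (hmax : ∀ V : Subgroup G, Bad p V w x → U ≤ V → V = U) :
    ∃ g ∈ Subgroup.normalizer (U : Set G), g • x ≠ x := by
  by_contra hno
  push Not at hno
  have h2 : Fact (Nat.Prime 2) := ⟨Nat.prime_two⟩
  obtain ⟨y, hxy, hy⟩ := exists_other_fixed hH hs h.pg x
  have hwy := h.smul_ne hH hxy
  have hwy' := h.smul_mem hy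
  have hle : U ≤ stab2 y (w • y) := fun u hu => mem_stab2.mpr ⟨hy u hu, hwy' u hu⟩
  have hwi : w ∈ invs y (w • y) := ⟨h.inv, rfl⟩
  obtain ⟨P, hP, hPw, hUP⟩ := Lib.PGroupCoprimeAction.exists_invariant_sylow_ge
    (A := Subgroup.zpowers w) (H := stab2 y (w • y)) (isPGroup_two_zpowers h.inv)
    (not_two_dvd (odd_stab2 hH hwy.symm)) (zpowers_forall (swap_normalizes hwi)) hle h.pg
    (zpowers_forall h.norm)
  obtain ⟨-, hPp, -⟩ := exists_sylow_map_eq_iff.mp hP
  have hne : ¬ Subgroup.normalizer (U : Set G) ⊓ P ≤ U := by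
    intro hle'
    have h3 := eq_of_normalizer_inf_le hPp hUP hle'
    rcases TwoFusion.BenderStar.fixp_eq_pair hH hs hwy.symm hP (c := x)
      (fun u hu => h.mem u (by rw [← h3]; exact hu)) with h4 | h4
    · exact hxy h4
    · apply hxy
      have h5 := h.fix
      nth_rewrite 1 [h4] at h5
      rw [← mul_smul, mul_self_of_orderOf h.inv, one_smul] at h5
      exact h5.symm
  apply hne
  have hwV : ∀ u ∈ Subgroup.normalizer (U : Set G) ⊓ P,
      w * u * w⁻¹ ∈ Subgroup.normalizer (U : Set G) ⊓ P := by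
    intro u hu
    have hwN : w ∈ Subgroup.normalizer (U : Set G) := mem_normalizer_of_forall h.norm
    exact ⟨Subgroup.mul_mem _ (Subgroup.mul_mem _ hwN hu.1) (Subgroup.inv_mem _ hwN),
      hPw w (Subgroup.mem_zpowers w) u hu.2⟩
  have hUV : U ≤ Subgroup.normalizer (U : Set G) ⊓ P := le_inf Subgroup.le_normalizer hUP
  obtain ⟨u, hu, hune⟩ := h.ne
  have hV : Bad p (Subgroup.normalizer (U : Set G) ⊓ P) w x :=
    ⟨hPp.to_le inf_le_right, h.inv, h.fix, fun u hu => hno u hu.1, hwV, ⟨u, hUV hu, hune⟩⟩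
  rw [hmax _ hV hUV]

/-- **Step (2)**: for a maximal bad pair the subgroup `N_G(U) ∩ G_x` has `2`-rank at least
two. -/
theorem Bad.exists_comm (hH : IsStronglyEmbedded H) {p : ℕ} [hp : Fact p.Prime] (hs : Star H p)
    {U : Subgroup G} {w : G} {x : G ⧸ H} (h : Bad p U w x)
    (hmax : ∀ (V : Subgroup G) (w' : G), Bad p V w' x → U ≤ V → V = U) :
    ∃ a ∈ Subgroup.normalizer (U : Set G), ∃ b ∈ Subgroup.normalizer (U : Set G),
      orderOf a = 2 ∧ orderOf b = 2 ∧ a ≠ b ∧ Commute a b ∧ a • x = x ∧ b • x = x := by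
  by_contra hno
  push Not at hno
  set N := Subgroup.normalizer (U : Set G) ⊓ MulAction.stabilizer G x with hN
  have hwN : w ∈ N := ⟨mem_normalizer_of_forall h.norm, h.fix⟩
  have hp2 := TwoFusion.BenderStar.ne_two_of_star hH hs
  obtain ⟨O, hO⟩ := TwoFusion.BenderStar.coreHyp G N ⟨w, hwN, h.inv⟩ (by
    intro a ha b hb ha2 hb2 hab
    by_contra hne
    exact hno a ha.1 b hb.1 ha2 hb2 hne hab ha.2 hb.2)
  obtain ⟨y, hxy, hy⟩ := exists_other_fixed hH hs h.pg x
  obtain ⟨T, hT, hUT⟩ := exists_sylIn_ge (p := p) (D := stab2 x y) (Q := U)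
    (fun u hu => mem_stab2.mpr ⟨h.mem u hu, hy u hu⟩) h.pg
  obtain ⟨hTle, hTp, -⟩ := exists_sylow_map_eq_iff.mp hT
  have hne : ¬ Subgroup.normalizer (U : Set G) ⊓ T ≤ U := by
    intro hle'
    have h3 := eq_of_normalizer_inf_le hTp hUT hle'
    exact hs x y hxy T hT w h.inv h.fix (by rw [h3]; exact h.norm)
  apply hne
  have hTN : Subgroup.normalizer (U : Set G) ⊓ T ≤ N :=
    fun u hu => ⟨hu.1, (mem_stab2.mp (hTle hu.2)).1⟩
  obtain ⟨g, hg, R, hR, hTR, hRN, hgR, -⟩ := TwoFusion.BenderRankOne.exists_invariant N O hO.le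
    hO.odd hO.conj hO.comm p hp2 hwN h.inv (hTp.to_le inf_le_right) hTN
  have hUR : U ≤ R := (le_inf Subgroup.le_normalizer hUT).trans hTR
  have hgx : g • x = x := hg.2
  have hgx' : g⁻¹ • x = x := by rw [inv_smul_eq_iff, hgx]
  obtain ⟨u, hu, hune⟩ := h.ne
  have hbad : Bad p R (g * w * g⁻¹) x := by
    refine ⟨hR, by rw [orderOf_conj, h.inv], ?_, fun r hr => (hRN hr).2, hgR,
      ⟨g * u * g⁻¹, hUR (forall_of_mem_normalizer hg.1 u hu), fun he => hune ?_⟩⟩
    · rw [mul_smul, mul_smul, hgx', h.fix, hgx]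
    · have e : g * w * g⁻¹ * (g * u * g⁻¹) * (g * w * g⁻¹)⁻¹ = g * (w * u * w⁻¹) * g⁻¹ := by group
      rw [e] at he
      exact mul_left_cancel (mul_right_cancel he)
  exact hTR.trans (hmax R _ hbad hUR).le

/-- The data for the climbing argument. -/
structure Data (p : ℕ) (U : Subgroup G) (w : G) (x y : G ⧸ H) (Q : Subgroup G) : Prop where
  bad : Bad p U w x
  move : ∃ g ∈ Subgroup.normalizer (U : Set G), g • x = y
  ne : x ≠ y
  comm : ∃ a ∈ Subgroup.normalizer (U : Set G), ∃ b ∈ Subgroup.normalizer (U : Set G),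
      orderOf a = 2 ∧ orderOf b = 2 ∧ a ≠ b ∧ Commute a b ∧ a • x = x ∧ b • x = x
  syl : SylIn p (Subgroup.normalizer (U : Set G) ⊓ stab2 x y) Q

/-- If there is a bad pair, there are climbing data. -/
theorem exists_data (hH : IsStronglyEmbedded H) {p : ℕ} [hp : Fact p.Prime] (hs : Star H p)
    {U : Subgroup G} {w : G} {x : G ⧸ H} (h : Bad p U w x) :
    ∃ (U : Subgroup G) (w : G) (x y : G ⧸ H) (Q : Subgroup G), Data p U w x y Q := by
  classical
  obtain ⟨V, ⟨w', hV⟩, hmax⟩ := (Set.toFinite {V : Subgroup G | ∃ w', Bad p V w' x}).exists_maximal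
    ⟨U, w, h⟩
  have hmax' : ∀ (V' : Subgroup G) (w'' : G), Bad p V' w'' x → V ≤ V' → V' = V :=
    fun V' w'' hb hle => le_antisymm (hmax ⟨w'', hb⟩ hle) hle
  obtain ⟨g, hg, hgx⟩ := hV.exists_move hH hs (fun V' hb => hmax' V' w' hb)
  obtain ⟨Q, hQ, -⟩ := exists_sylIn_ge (p := p)
    (D := Subgroup.normalizer (V : Set G) ⊓ stab2 x (g • x)) (Q := ⊥) bot_le IsPGroup.of_bot
  exact ⟨V, w', x, g • x, Q, hV, ⟨g, hg, rfl⟩, hgx.symm, hV.exists_comm hH hs hmax', hQ⟩

/-- Choose climbing data with a Sylow subgroup of maximal order. -/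
theorem exists_max_data (hH : IsStronglyEmbedded H) {p : ℕ} [hp : Fact p.Prime] (hs : Star H p)
    {U : Subgroup G} {w : G} {x : G ⧸ H} (h : Bad p U w x) :
    ∃ (U : Subgroup G) (w : G) (x y : G ⧸ H) (Q : Subgroup G), Data p U w x y Q ∧
      ∀ (U' : Subgroup G) (w' : G) (x' y' : G ⧸ H) (Q' : Subgroup G), Data p U' w' x' y' Q' →
        Nat.card Q' ≤ Nat.card Q := by
  classical
  obtain ⟨U, w, x, y, Q, hd⟩ := exists_data hH hs h
  obtain ⟨Q, ⟨U, w, x, y, hd⟩, hmax⟩ := Set.exists_max_image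
    {Q : Subgroup G | ∃ (U : Subgroup G) (w : G) (x y : G ⧸ H), Data p U w x y Q}
    (fun Q => Nat.card Q) (Set.toFinite _) ⟨Q, U, w, x, y, hd⟩
  exact ⟨U, w, x, y, Q, hd, fun U' w' x' y' Q' h' => hmax Q' ⟨U', w', x', y', h'⟩⟩

end Cfsg.Agent.StrongEmb.RGoodBasic
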