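import Mathlib
import Cfsg.Agent.StrongEmb.RGoodBasic
import Cfsg.Agent.StrongEmb.RGoodTools
import Cfsg.Agent.Lib.KleinGen

/-!
# Bender's theorem, involutions normalizing `p`-subgroups (R-GOOD), part 2

The climbing argument (step (3)) and the bad element (step (4)).
-/

set_option autoImplicit false

universe u

namespace Cfsg.Agent.StrongEmb.RGoodClimb

open Cfsg Cfsg.Agent.TwoFusion.StronglyEmbeddedBasic
open Cfsg.Agent.SignalizersComponents.BenderCount
open Cfsg.Agent.SignalizersComponents.BenderPerfect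
open Cfsg.Agent.Blocks.SylowIn
open Cfsg.Agent.TwoFusion.BenderTwoTrans
open Cfsg.Agent.StrongEmb.Basic Cfsg.Agent.StrongEmb.TwoRank Cfsg.Agent.StrongEmb.Split
open Cfsg.Agent.StrongEmb.Frame Cfsg.Agent.StrongEmb.RGoodBasic
open Cfsg.Agent.StrongEmb.CoreCentral (mem_normalCore_of_smul)

variable {G : Type u} [Group G] [Finite G] {H : Subgroup G}

/-! ### Generalities -/

omit [Finite G] in
/-- A nontrivial subgroup fixing a point is not normal in `G` if the core of `H` is trivial. -/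
theorem normalizer_ne_top (hcore : H.normalCore = ⊥) {J : Subgroup G} (hJ : J ≠ ⊥) {x : G ⧸ H}
    (hx : ∀ j ∈ J, j • x = x) : Subgroup.normalizer (J : Set G) ≠ ⊤ := by
  intro h
  apply hJ
  rw [eq_bot_iff]
  intro j hj
  rw [← hcore]
  refine mem_normalCore_of_smul (fun y => ?_)
  obtain ⟨g, rfl⟩ := MulAction.exists_smul_eq G x y
  have hg : g⁻¹ ∈ Subgroup.normalizer (J : Set G) := by rw [h]; trivial
  have h1 := hx _ (forall_of_mem_normalizer hg j hj)
  rw [inv_inv] at h1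
  have h2 : j • g • x = g • ((g⁻¹ * j * g) • x) := by
    rw [← mul_smul, ← mul_smul]; congr 1; group
  rw [h2, h1]

omit [Finite G] in
theorem fixes_orbit {U : Subgroup G} {x : G ⧸ H} (hx : ∀ u ∈ U, u • x = x) {g : G}
    (hg : g ∈ Subgroup.normalizer (U : Set G)) : ∀ u ∈ U, u • g • x = g • x := by
  intro u hu
  have h1 := hx _ (forall_of_mem_normalizer (inv_mem hg) u hu)
  rw [inv_inv] at h1
  have h2 : u • g • x = g • ((g⁻¹ * u * g) • x) := by
    rw [← mul_smul, ← mul_smul]; congr 1; group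
  rw [h2, h1]

omit [Finite G] in
/-- A normal `p`-subgroup of `K` is contained in the Sylow `p`-subgroups of `K`. -/
theorem le_of_normal {p : ℕ} {K Q U : Subgroup G} (hQ : SylIn p K Q) (hU : IsPGroup p U)
    (hUK : U ≤ K) (hn : K ≤ Subgroup.normalizer (U : Set G)) : U ≤ Q := by
  obtain ⟨hQK, hQp, hmax⟩ := exists_sylow_map_eq_iff.mp hQ
  have h1 : IsPGroup p (Q ⊔ U : Subgroup G) :=
    IsPGroup.to_sup_of_normal_right' hQp hU (hQK.trans hn)
  rw [← hmax (Q ⊔ U) (sup_le hQK hUK) h1 le_sup_left]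
  exact le_sup_right

/-- Intersection of a Sylow subgroup with a normal subgroup. -/
theorem sylIn_inf {p : ℕ} [hp : Fact p.Prime] {K O P : Subgroup G} (hP : SylIn p K P) (hOK : O ≤ K)
    (hn : ∀ g ∈ K, ∀ o ∈ O, g * o * g⁻¹ ∈ O) : SylIn p O (P ⊓ O) := by
  obtain ⟨hPK, hPp, hmax⟩ := exists_sylow_map_eq_iff.mp hP
  obtain ⟨S, hS, hPS⟩ := exists_sylIn_ge (p := p) (D := O) (Q := P ⊓ O) inf_le_right
    (hPp.to_le inf_le_left)
  obtain ⟨hSO, hSp, -⟩ := exists_sylow_map_eq_iff.mp hS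
  obtain ⟨P', hP', hSP'⟩ := exists_sylIn_ge (p := p) (D := K) (Q := S) (hSO.trans hOK) hSp
  obtain ⟨k, hk, hkP⟩ := exists_conj_of_sylow_map_eq hP' hP
  have h1 : S.map (MulAut.conj k).toMonoidHom ≤ P ⊓ O := by
    rintro _ ⟨s, hs, rfl⟩
    refine ⟨?_, hn k hk s (hSO hs)⟩
    rw [← hkP]
    exact ⟨s, hSP' hs, rfl⟩
  have h2 : Nat.card S ≤ Nat.card ↥(P ⊓ O) := by
    rw [← Subgroup.card_map_of_injective (K := S) (f := (MulAut.conj k).toMonoidHom)
      (MulAut.conj k).injective]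
    exact Subgroup.card_le_of_le h1
  have h3 : P ⊓ O = S := Subgroup.eq_of_le_of_card_ge hPS h2
  rw [h3]; exact hS

theorem mem_coreOf_of_sup {N T : Subgroup G} (hTN : T ≤ N) (hT : IsPGroup 2 T) {c : G}
    (hc : c ∈ T ⊔ coreOf N) (hodd : Odd (orderOf c)) : c ∈ coreOf N := by
  have h1 : T ⊔ coreOf N = (T.subgroupOf N ⊔ oddCore N).map N.subtype := by
    rw [Subgroup.map_sup, Subgroup.subgroupOf_map_subtype, inf_of_le_left hTN]
  rw [h1] at hc
  obtain ⟨c', hc', rfl⟩ := hc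
  refine ⟨c', ?_, rfl⟩
  have hT' : IsPGroup 2 (T.subgroupOf N) := hT.comap_subtype
  have h2 : QuotientGroup.mk' (oddCore N) c' ∈ (T.subgroupOf N).map (QuotientGroup.mk' (oddCore N)) := by
    have h3 : QuotientGroup.mk' (oddCore N) c' ∈
        (T.subgroupOf N ⊔ oddCore N).map (QuotientGroup.mk' (oddCore N)) := ⟨c', hc', rfl⟩
    rw [Subgroup.map_sup] at h3
    have h4 : (oddCore N).map (QuotientGroup.mk' (oddCore N)) = ⊥ := by
      rw [Subgroup.map_eq_bot_iff, QuotientGroup.ker_mk']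
    rwa [h4, sup_bot_eq] at h3
  obtain ⟨n, hn⟩ := IsPGroup.iff_orderOf.mp (hT'.map (QuotientGroup.mk' (oddCore N))) ⟨_, h2⟩
  rw [Subgroup.orderOf_mk] at hn
  have h5 : orderOf (QuotientGroup.mk' (oddCore N) c') ∣ orderOf c' := orderOf_map_dvd _ _
  have h6 : Odd (orderOf c') := by rw [← Subgroup.orderOf_coe]; exact hodd
  have h7 : Nat.Coprime (orderOf (QuotientGroup.mk' (oddCore N) c')) (orderOf c') := by
    rw [hn]; exact Nat.Coprime.pow_left n (Nat.coprime_two_left.mpr h6)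
  have h8 : QuotientGroup.mk' (oddCore N) c' = 1 :=
    orderOf_eq_one_iff.mp (Nat.Coprime.eq_one_of_dvd h7 h5)
  rwa [← MonoidHom.mem_ker, QuotientGroup.ker_mk'] at h8

omit [Finite G] in
theorem isPGroup_two_sup {a b : G} (ha : orderOf a = 2) (hb : orderOf b = 2) (hab : Commute a b) :
    IsPGroup 2 (Subgroup.zpowers a ⊔ Subgroup.zpowers b : Subgroup G) := by
  refine IsPGroup.to_sup_of_normal_right' (isPGroup_two_zpowers ha) (isPGroup_two_zpowers hb) ?_
  rw [Subgroup.zpowers_le, Subgroup.mem_normalizer_iff]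
  have hk : ∀ k : G, k ∈ Subgroup.zpowers b → a * k * a⁻¹ = k := by
    rintro k ⟨n, rfl⟩
    have : Commute a (b ^ n) := hab.zpow_right n
    simp only
    rw [this.eq]; group
  intro k
  constructor
  · intro h1
    rw [hk k h1]; exact h1
  · intro h1
    have h2 : a⁻¹ * (a * k * a⁻¹) * a = k := by group
    have h3 : a * (a * k * a⁻¹) * a⁻¹ = a * k * a⁻¹ := hk _ h1
    have h4 : a * k * a⁻¹ = k := by
      calc a * k * a⁻¹ = a⁻¹ * (a * (a * k * a⁻¹) * a⁻¹) * a := by group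
        _ = a⁻¹ * (a * k * a⁻¹) * a := by rw [h3]
        _ = k := h2
    rw [h4] at h1; exact h1

/-- A four-group acting on `U` whose involution `a` acts nontrivially: it acts nontrivially on the
centralizer in `U` of another involution of the four-group. -/
theorem exists_moved {U : Subgroup G} (hU : Odd (Nat.card U)) {a b : G} (ha : orderOf a = 2)
    (hb : orderOf b = 2) (hne : a ≠ b) (hab : Commute a b) (haU : ∀ u ∈ U, a * u * a⁻¹ ∈ U)
    (hbU : ∀ u ∈ U, b * u * b⁻¹ ∈ U) (hna : ∃ u ∈ U, a * u * a⁻¹ ≠ u) :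
    ∃ v : G, orderOf v = 2 ∧ Commute v a ∧ ∃ c ∈ U, Commute v c ∧ a * c * a⁻¹ ≠ c := by
  by_contra hno
  push Not at hno
  have hab2 : orderOf (a * b) = 2 := by
    apply orderOf_eq_two_of_mul_self
    · rw [hab.symm.mul_mul_mul_comm, mul_self_of_orderOf ha, mul_self_of_orderOf hb, one_mul]
    · intro h
      apply hne
      have := eq_inv_of_mul_eq_one_left h
      rw [this, inv_eq_self_of_orderOf hb]
  have key : ∀ v : G, orderOf v = 2 → Commute v a →
      U ⊓ Subgroup.centralizer {v} ≤ Subgroup.centralizer ({a} : Set G) := by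
    rintro v hv hva c ⟨hcU, hc⟩
    have h1 : Commute v c := (Subgroup.mem_centralizer_singleton_iff.mp hc).symm
    have h2 := hno v hv hva c hcU h1
    rw [Subgroup.mem_centralizer_singleton_iff]
    exact (mul_inv_eq_iff_eq_mul.mp h2).symm
  have hle := Lib.KleinGen.le_of_klein U (Subgroup.centralizer ({a} : Set G)) hU a b
    (mul_self_of_orderOf ha) (mul_self_of_orderOf hb) hab.eq haU hbU inf_le_right
    (key b hb hab.symm) (key _ hab2 ((Commute.refl a).mul_left hab.symm))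
  obtain ⟨u, hu, hune⟩ := hna
  apply hune
  have h1 := Subgroup.mem_centralizer_singleton_iff.mp (hle hu)
  rw [← h1]; group

/-! ### Step (4): the bad element -/

/-- **Step (4)**. From climbing data we get an element `k` of order `p` of a two point stabilizer,
inverted by an involution `t` swapping the two points and centralized by an involution. -/
theorem Data.exists_elt (hH : IsStronglyEmbedded H) {p : ℕ} [hp : Fact p.Prime] (hs : Star H p)
    {U : Subgroup G} {w : G} {x y : G ⧸ H} {Q : Subgroup G} (d : Data p U w x y Q) :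
    ∃ (x' y' : G ⧸ H) (t k v : G), x' ≠ y' ∧ t ∈ invs x' y' ∧ k ∈ stab2 x' y' ∧ orderOf k = p ∧
      t * k * t⁻¹ = k⁻¹ ∧ orderOf v = 2 ∧ Commute v k := by
  obtain ⟨g, hg, hgy⟩ := d.move
  obtain ⟨a, haN, b, hbN, ha, hb, hne, hab, hax, hbx⟩ := d.comm
  have hU := d.bad.odd hH hs
  have hgx : g • x ≠ x := by rw [hgy]; exact d.ne.symm
  obtain ⟨v, hv, hva, c, hc, hvc, hac⟩ := exists_moved hU ha hb hne hab
    (forall_of_mem_normalizer haN) (forall_of_mem_normalizer hbN)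
    (d.bad.not_centralize hH hg hgx ha)
  have haa := mul_self_of_orderOf ha
  have hai := inv_eq_self_of_orderOf ha
  set e := a * c * a⁻¹ * c⁻¹ with he
  have heU : e ∈ U := mul_mem (forall_of_mem_normalizer haN c hc) (inv_mem hc)
  have he1 : e ≠ 1 := fun h => hac (mul_inv_eq_one.mp h)
  have hve : Commute v e := by
    rw [he]
    exact ((hva.mul_right hvc).mul_right hva.inv_right).mul_right hvc.inv_right
  have hinv : a * e * a⁻¹ = e⁻¹ := by
    rw [he]
    calc a * (a * c * a⁻¹ * c⁻¹) * a⁻¹ = (a * a) * c * (a⁻¹ * c⁻¹ * a⁻¹) := by group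
      _ = c * (a * c⁻¹ * a⁻¹) := by rw [haa, one_mul, hai]
      _ = (a * c * a⁻¹ * c⁻¹)⁻¹ := by group
  -- an element of order `p`
  obtain ⟨n, hn⟩ := IsPGroup.iff_orderOf.mp d.bad.pg ⟨e, heU⟩
  rw [Subgroup.orderOf_mk] at hn
  have hn0 : n ≠ 0 := by
    rintro rfl
    rw [pow_zero, orderOf_eq_one_iff] at hn
    exact he1 hn
  obtain ⟨m, rfl⟩ := Nat.exists_eq_succ_of_ne_zero hn0
  have hkp : orderOf (e ^ p ^ m) = p := by
    rw [orderOf_pow' e (pow_ne_zero m hp.out.ne_zero), hn,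
      Nat.gcd_eq_right (pow_dvd_pow p (Nat.le_succ m)), Nat.succ_eq_add_one, pow_succ,
      Nat.mul_div_cancel_left _ (pow_pos hp.out.pos m)]
  have hy : y ∈ fixp H U := by
    rw [← hgy]
    exact fun u hu => fixes_orbit d.bad.mem hg u hu
  have hay : a • y ≠ y := fun h => d.ne (eq_of_smul_eq hH ha hax h)
  have hay' : a • y ∈ fixp H U := le_stab2 hy haN
  refine ⟨y, a • y, a, e ^ p ^ m, v, hay.symm, ⟨ha, rfl⟩, ?_, hkp, ?_, hv, hve.pow_right _⟩
  · have h1 : e ^ p ^ m ∈ U := pow_mem heU _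
    exact mem_stab2.mpr ⟨hy _ h1, hay' _ h1⟩
  · have h2 : a * e ^ p ^ m * a⁻¹ = (a * e * a⁻¹) ^ p ^ m := by rw [conj_pow]
    rw [h2, hinv, inv_pow]

/-! ### Step (3): the climb -/

/-- Two commuting involutions of `N` fixing `x` and an element of `N` moving `x` to `y`: there is an
involution of `N` swapping `x` and `y`, normalizing a given Sylow subgroup of `N ∩ G_{xy}`. -/
theorem exists_swap_in (hH : IsStronglyEmbedded H) {p : ℕ} [hp : Fact p.Prime] {N : Subgroup G}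
    {x y : G ⧸ H} (hxy : x ≠ y) {w g : G} (hwN : w ∈ N) (hw : orderOf w = 2) (hwx : w • x = x)
    (hg : g ∈ N) (hgy : g • x = y) {Q : Subgroup G} (hQ : SylIn p (N ⊓ stab2 x y) Q) :
    ∃ t ∈ N, t ∈ invs x y ∧ ∀ u ∈ Q, t * u * t⁻¹ ∈ Q := by
  have h2 : Fact (Nat.Prime 2) := ⟨Nat.prime_two⟩
  have hw' : orderOf (g * w * g⁻¹) = 2 := by rw [orderOf_conj, hw]
  have hwy : (g * w * g⁻¹) • y = y := by
    rw [← hgy, mul_smul, mul_smul, inv_smul_smul, hwx]
  obtain ⟨j, hj, hj2, -, -, hjx, hjy⟩ := (uniqueFix_quotient hH).exists_swap hw hw' hxy hwx hwy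
  have hjN : j ∈ N := by
    have : Subgroup.closure ({w, g * w * g⁻¹} : Set G) ≤ N := by
      rw [Subgroup.closure_le]
      rintro z (rfl | hz)
      · exact hwN
      · rw [Set.mem_singleton_iff] at hz
        rw [hz]; exact N.mul_mem (N.mul_mem hg hwN) (N.inv_mem hg)
    exact this hj
  have hjinv : j ∈ invs x y := ⟨hj2, hjx⟩
  have hinv : ∀ u ∈ N ⊓ stab2 x y, j * u * j⁻¹ ∈ N ⊓ stab2 x y := fun u hu =>
    ⟨N.mul_mem (N.mul_mem hjN hu.1) (N.inv_mem hjN), swap_normalizes hjinv u hu.2⟩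
  have hodd : Odd (Nat.card ↥(N ⊓ stab2 x y)) :=
    Odd.of_dvd_nat (odd_stab2 hH hxy) (Subgroup.card_dvd_of_le inf_le_right)
  obtain ⟨S, hS, hSj⟩ := Lib.PGroupCoprimeAction.exists_invariant_sylow (A := Subgroup.zpowers j)
    (H := N ⊓ stab2 x y) (isPGroup_two_zpowers hj2) (not_two_dvd hodd) (zpowers_forall hinv) p
  obtain ⟨k, hk, rfl⟩ := exists_conj_of_sylow_map_eq hS hQ
  have hk' := mem_stab2.mp hk.2
  refine ⟨k * j * k⁻¹, N.mul_mem (N.mul_mem hk.1 hjN) (N.inv_mem hk.1), ⟨?_, ?_⟩, ?_⟩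
  · rw [orderOf_conj, hj2]
  · have : k⁻¹ • x = x := by rw [inv_smul_eq_iff, hk'.1]
    rw [mul_smul, mul_smul, this, hjx, hk'.2]
  · rintro _ ⟨s, hs, rfl⟩
    have h1 := hSj j (Subgroup.mem_zpowers j) s hs
    refine ⟨_, h1, ?_⟩
    simp only [MulEquiv.coe_toMonoidHom, MulAut.conj_apply]
    group

/-- The normalizer of a Sylow subgroup of a normal subgroup, climbing: if `R₀` is a `p`-subgroup of
`K`, `O ≤ K` normalized by `K` and `R₁` is a Sylow `p`-subgroup of `O`, then a conjugate of `R₀`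
under `K` normalizes `R₁`. -/
theorem exists_conj_normalizes {p : ℕ} [hp : Fact p.Prime] {K O R₀ R₁ : Subgroup G} (hOK : O ≤ K)
    (hn : ∀ g ∈ K, ∀ o ∈ O, g * o * g⁻¹ ∈ O) (hR₀ : IsPGroup p R₀) (hR₀K : R₀ ≤ K)
    (hR₁ : SylIn p O R₁) :
    ∃ R₂ : Subgroup G, IsPGroup p R₂ ∧ R₂ ≤ K ⊓ Subgroup.normalizer (R₁ : Set G) ∧
      Nat.card R₀ ≤ Nat.card R₂ := by
  obtain ⟨P, hP, hRP⟩ := exists_sylIn_ge hR₀K hR₀
  obtain ⟨hPK, hPp, -⟩ := exists_sylow_map_eq_iff.mp hP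
  obtain ⟨o, ho, hoR⟩ := exists_conj_of_sylow_map_eq (sylIn_inf hP hOK hn) hR₁
  refine ⟨P.map (MulAut.conj o).toMonoidHom, hPp.map _, le_inf ?_ ?_, ?_⟩
  · rintro _ ⟨r, hr, rfl⟩
    exact K.mul_mem (K.mul_mem (hOK ho) (hPK hr)) (K.inv_mem (hOK ho))
  · rintro _ ⟨r, hr, rfl⟩
    refine mem_normalizer_of_forall ?_
    intro s hs
    rw [← hoR] at hs ⊢
    obtain ⟨q, ⟨hqP, hqO⟩, rfl⟩ := hs
    refine ⟨r * q * r⁻¹, ⟨P.mul_mem (P.mul_mem hr hqP) (P.inv_mem hr), hn r (hPK hr) q hqO⟩, ?_⟩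
    simp only [MulEquiv.coe_toMonoidHom, MulAut.conj_apply]
    group
  · rw [Subgroup.card_map_of_injective (MulAut.conj o).injective]
    exact Subgroup.card_le_of_le hRP

/-- **Step (3)**, the climb: data for `U` and two commuting involutions normalizing `ZJ(Q)`. If `Q` is
not a Sylow subgroup of `G_{xy}`, there are data with a larger Sylow subgroup. -/
theorem Data.climb (hH : IsStronglyEmbedded H) (hcore : H.normalCore = ⊥)
    (hIH : ∀ (K : Type u) [Group K] [Finite K], Nat.card K < Nat.card G → BenderHolds K)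
    {p : ℕ} [hp : Fact p.Prime] (hs : Star H p)
    {U : Subgroup G} {w : G} {x y : G ⧸ H} {Q : Subgroup G} (d : Data p U w x y Q)
    {J : Subgroup G} (hJQ : J ≤ Q) (hJ1 : J ≠ ⊥)
    (hQJ : Subgroup.normalizer (Q : Set G) ≤ Subgroup.normalizer (J : Set G)) {e₁ e₂ : G}
    (he₁N : e₁ ∈ Subgroup.normalizer (U : Set G)) (he₂N : e₂ ∈ Subgroup.normalizer (U : Set G))
    (he₁J : e₁ ∈ Subgroup.normalizer (J : Set G)) (he₂J : e₂ ∈ Subgroup.normalizer (J : Set G))
    (he₁ : orderOf e₁ = 2) (he₂ : orderOf e₂ = 2) (he : e₁ ≠ e₂) (hc : Commute e₁ e₂)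
    (he₁x : e₁ • x = x) (he₂x : e₂ • x = x) {t : G} (ht : t ∈ invs x y)
    (htQ : ∀ u ∈ Q, t * u * t⁻¹ ∈ Q) (hnot : ¬ SylIn p (stab2 x y) Q) :
    ∃ (U' : Subgroup G) (Q' : Subgroup G), Data p U' e₁ x y Q' ∧ Nat.card Q < Nat.card Q' := by
  have h2 : Fact (Nat.Prime 2) := ⟨Nat.prime_two⟩
  obtain ⟨hQle, hQp, -⟩ := exists_sylow_map_eq_iff.mp d.syl
  have hQ2 : Q ≤ stab2 x y := hQle.trans inf_le_right
  have hJx : ∀ j ∈ J, j • x = x := fun j hj => (mem_stab2.mp (hQ2 (hJQ hj))).1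
  obtain ⟨g, hg, hgy⟩ := d.move
  have hgx : g • x ≠ x := by rw [hgy]; exact d.ne.symm
  have hUfix : ∀ u ∈ U, u • y = y := by
    rw [← hgy]; exact fixes_orbit d.bad.mem hg
  have hU2 : U ≤ stab2 x y := fun u hu => mem_stab2.mpr ⟨d.bad.mem u hu, hUfix u hu⟩
  have hUQ : U ≤ Q := le_of_normal d.syl d.bad.pg (le_inf Subgroup.le_normalizer hU2) inf_le_left
  -- the normalizer of `J`
  set N := Subgroup.normalizer (J : Set G) with hN
  have hN1 : N ≠ ⊤ := normalizer_ne_top hcore hJ1 hJx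
  have htN : t ∈ N := hQJ (mem_normalizer_of_forall htQ)
  have htx : t • x ≠ x := by rw [ht.2]; exact d.ne.symm
  have hG : Good N x := good_of_ih hIH (uniqueFix_quotient hH) hN1 he₁J he₂J he₁ he₂ he hc he₁x htN
    htx
  have hQN : Q ≤ N := Subgroup.le_normalizer.trans hQJ
  have hxo : x ∈ MulAction.orbit N x := MulAction.mem_orbit_self x
  have hyo : y ∈ MulAction.orbit N x := mem_orbit_subgroup.mpr ⟨t, htN, ht.2⟩
  set O := coreOf N with hO
  have hOodd : Odd (Nat.card O) := odd_coreOf N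
  have hOn : ∀ g ∈ N, ∀ o ∈ O, g * o * g⁻¹ ∈ O := fun g hg o ho => coreOf_conj hg ho
  have hO2 : O ≤ stab2 x y := fun o ho =>
    mem_stab2.mpr ⟨hG.core_smul o ho x hxo, hG.core_smul o ho y hyo⟩
  have hON : O ≤ N := coreOf_le
  have hUodd := d.bad.odd hH hs
  -- `[U, e] ≤ O`
  obtain ⟨T, hTN, hT2, -, -, hTconj, hTmem⟩ := hG.exists_T x hxo
  have hcomm : ∀ e : G, e ∈ Subgroup.normalizer (U : Set G) → e ∈ N → orderOf e = 2 →
      e • x = x → ∀ u ∈ U, e * u * e⁻¹ * u⁻¹ ∈ U ⊓ O := by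
    intro e heU heN he2 hex u hu
    have hcU : e * u * e⁻¹ * u⁻¹ ∈ U := mul_mem (forall_of_mem_normalizer heU u hu) (inv_mem hu)
    refine ⟨hcU, mem_coreOf_of_sup hTN hT2 ?_ ?_⟩
    · have huN : u ∈ N := hQN (hUQ hu)
      have e1 : e * u * e⁻¹ * u⁻¹ = e * (u * e⁻¹ * u⁻¹) := by group
      have h3 : ∀ n : G, n ∈ N → n • x = x → orderOf n = 2 → n ∈ T ⊔ coreOf N :=
        fun n hn hnx hn2 => hTmem n hn hnx ⟨1, by rw [hn2, pow_one]⟩
      rw [e1]
      refine mul_mem (h3 e heN hex he2) (h3 _ ?_ ?_ ?_)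
      · exact N.mul_mem (N.mul_mem huN (N.inv_mem heN)) (N.inv_mem huN)
      · have h4 : u⁻¹ • x = x := by rw [inv_smul_eq_iff, d.bad.mem u hu]
        have h5 : e⁻¹ • x = x := by rw [inv_smul_eq_iff, hex]
        rw [mul_smul, mul_smul, h4, h5, d.bad.mem u hu]
      · rw [orderOf_conj, orderOf_inv, he2]
    · exact Odd.of_dvd_nat hUodd (U.orderOf_dvd_natCard hcU)
  -- the four-group `E` and the new `p`-subgroup
  set E : Subgroup G := Subgroup.zpowers e₁ ⊔ Subgroup.zpowers e₂ with hE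
  have hE2 : IsPGroup 2 E := isPGroup_two_sup he₁ he₂ hc
  have hEN : E ≤ N := sup_le (by rw [Subgroup.zpowers_le]; exact he₁J)
    (by rw [Subgroup.zpowers_le]; exact he₂J)
  have hEU : E ≤ Subgroup.normalizer (U : Set G) := sup_le (by rw [Subgroup.zpowers_le]; exact he₁N)
    (by rw [Subgroup.zpowers_le]; exact he₂N)
  obtain ⟨R, hR, hRE, hUR⟩ := Lib.PGroupCoprimeAction.exists_invariant_sylow_ge
    (A := E) (H := O) (R := U ⊓ O) hE2 (not_two_dvd hOodd)
    (fun b hb o ho => hOn b (hEN hb) o ho) (q := p) inf_le_right (d.bad.pg.to_le inf_le_left)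
    (fun b hb u hu => ⟨forall_of_mem_normalizer (hEU hb) u hu.1, hOn b (hEN hb) u hu.2⟩)
  obtain ⟨hRO, hRp, -⟩ := exists_sylow_map_eq_iff.mp hR
  have he₁E : e₁ ∈ E := Subgroup.mem_sup_left (Subgroup.mem_zpowers e₁)
  have he₂E : e₂ ∈ E := Subgroup.mem_sup_right (Subgroup.mem_zpowers e₂)
  have he₁R := hRE e₁ he₁E
  have he₂R := hRE e₂ he₂E
  have hbad : Bad p R e₁ x := by
    refine ⟨hRp, he₁, he₁x, fun r hr => (mem_stab2.mp (hO2 (hRO hr))).1, he₁R, ?_⟩
    by_contra hno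
    push Not at hno
    obtain ⟨u, hu, hune⟩ := d.bad.not_centralize hH hg hgx he₁
    apply hune
    have h3 := hcomm e₁ he₁N he₁J he₁ he₁x u hu
    have h4 := hno _ (hUR h3)
    have hee := mul_self_of_orderOf he₁
    have hei := inv_eq_self_of_orderOf he₁
    have h5 : e₁ * (e₁ * u * e₁⁻¹ * u⁻¹) * e₁⁻¹ = (e₁ * u * e₁⁻¹ * u⁻¹)⁻¹ := by
      calc e₁ * (e₁ * u * e₁⁻¹ * u⁻¹) * e₁⁻¹ = (e₁ * e₁) * u * (e₁⁻¹ * u⁻¹ * e₁⁻¹) := by group
        _ = u * (e₁ * u⁻¹ * e₁⁻¹) := by rw [hee, one_mul, hei]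
        _ = (e₁ * u * e₁⁻¹ * u⁻¹)⁻¹ := by group
    rw [h4] at h5
    have h6 : (e₁ * u * e₁⁻¹ * u⁻¹) * (e₁ * u * e₁⁻¹ * u⁻¹) = 1 := by
      nth_rewrite 2 [h5]; exact mul_inv_cancel _
    have h7 : e₁ * u * e₁⁻¹ * u⁻¹ = 1 := by
      by_contra hne
      exact not_odd_of_mem U _ h3.1 (orderOf_eq_two_of_mul_self h6 hne) hUodd
    exact mul_inv_eq_one.mp h7
  -- a larger `p`-subgroup
  obtain ⟨P, hP, hQP⟩ := exists_sylIn_ge (p := p) hQ2 hQp
  obtain ⟨hPle, hPp, -⟩ := exists_sylow_map_eq_iff.mp hP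
  have hnle : ¬ Subgroup.normalizer (Q : Set G) ⊓ P ≤ Q := by
    intro hle
    apply hnot
    rw [← eq_of_normalizer_inf_le hPp hQP hle]
    exact hP
  have hQR0 : Q ≤ Subgroup.normalizer (Q : Set G) ⊓ P := le_inf Subgroup.le_normalizer hQP
  have hcard : Nat.card Q < Nat.card ↥(Subgroup.normalizer (Q : Set G) ⊓ P) := by
    refine lt_of_le_of_ne (Subgroup.card_le_of_le hQR0) (fun h => hnle ?_)
    exact (Subgroup.eq_of_le_of_card_ge hQR0 h.ge).ge
  obtain ⟨R₂, hR₂, hR₂le, hR₂card⟩ := exists_conj_normalizes (p := p) (K := N ⊓ stab2 x y) (O := O)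
    (R₀ := Subgroup.normalizer (Q : Set G) ⊓ P) (le_inf hON hO2)
    (fun g hg o ho => hOn g hg.1 o ho) (hPp.to_le inf_le_right)
    (le_inf (inf_le_left.trans hQJ) (inf_le_right.trans hPle)) hR
  obtain ⟨Q', hQ', hRQ'⟩ := exists_sylIn_ge (p := p)
    (D := Subgroup.normalizer (R : Set G) ⊓ stab2 x y) (Q := R₂)
    (le_inf (hR₂le.trans inf_le_right) ((hR₂le.trans inf_le_left).trans inf_le_right)) hR₂
  -- an element of `N_G(R)` moving `x` to `y`
  have hmove : ∃ n ∈ Subgroup.normalizer (R : Set G), n • x = y := by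
    have hRt : SylIn p O (R.map (MulAut.conj t).toMonoidHom) := by
      apply exists_sylow_map_eq_of_card
      · rintro _ ⟨r, hr, rfl⟩
        exact hOn t htN r (hRO hr)
      · rw [Subgroup.card_map_of_injective (MulAut.conj t).injective, card_of_sylow_map_eq hR]
    obtain ⟨o, ho, hoR⟩ := exists_conj_of_sylow_map_eq hRt hR
    refine ⟨o * t, mem_normalizer_of_forall (fun r hr => ?_), ?_⟩
    · have : o * t * r * (o * t)⁻¹ ∈ (R.map (MulAut.conj t).toMonoidHom).map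
          (MulAut.conj o).toMonoidHom := by
        refine ⟨t * r * t⁻¹, ⟨r, hr, rfl⟩, ?_⟩
        simp only [MulEquiv.coe_toMonoidHom, MulAut.conj_apply]
        group
      rwa [hoR] at this
    · rw [mul_smul, ht.2]
      exact (mem_stab2.mp (hO2 ho)).2
  refine ⟨R, Q', ⟨hbad, hmove, d.ne, ⟨e₁, mem_normalizer_of_forall he₁R, e₂,
    mem_normalizer_of_forall he₂R, he₁, he₂, he, hc, he₁x, he₂x⟩, hQ'⟩, ?_⟩
  calc Nat.card Q < Nat.card ↥(Subgroup.normalizer (Q : Set G) ⊓ P) := hcard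
    _ ≤ Nat.card R₂ := hR₂card
    _ ≤ Nat.card Q' := Subgroup.card_le_of_le hRQ'

end Cfsg.Agent.StrongEmb.RGoodClimb
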