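import Mathlib
import Cfsg.Agent.StrongEmb.ClaimN
import Cfsg.Agent.Lib.ProductSet

/-!
# The end of R-GOOD

`G` simple, `H` strongly embedded, all pairs big. Suppose that some element `k` of prime order `p`
of `G_{xy}` is inverted by an involution `t` swapping `x` and `y` and centralised by an involution.
Let `N` be a subgroup acting 2-transitively on its invariant set `Δ ∋ x, y`, containing an
involution of `G_x`, with `G_{xy} = O_{p'}(G_{xy}) N_{xy}`. Then `Δ` is the set of all points.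
-/

set_option autoImplicit false

namespace Cfsg.Agent.StrongEmb.RGoodFinal

open Pointwise
open Cfsg Cfsg.Agent.TwoFusion.StronglyEmbeddedBasic
open Cfsg.Agent.SignalizersComponents.BenderCount
open Cfsg.Agent.SignalizersComponents.BenderPerfect
open Cfsg.Agent.TwoFusion.BenderTwoTrans
open Cfsg.Agent.TwoFusion
open Cfsg.Agent.Lib.LocalCore
open Cfsg.Agent.StrongEmb.Basic Cfsg.Agent.StrongEmb.ClaimN

variable {G : Type*} [Group G] [Finite G] {H : Subgroup G}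

/-- `G_{xy}` is transitive by conjugation on the involutions swapping `x` and `y`. -/
theorem exists_conj_swap (hH : IsStronglyEmbedded H) {x y : G ⧸ H} (hxy : x ≠ y) {v w : G}
    (hv : v ∈ invs x y) (hw : w ∈ invs x y) : ∃ d ∈ stab2 x y, d * v * d⁻¹ = w := by
  have hvv := mul_self_of_orderOf hv.1
  have hww := mul_self_of_orderOf hw.1
  have hvi := inv_eq_self_of_orderOf hv.1
  have hwi := inv_eq_self_of_orderOf hw.1
  set c := w * v with hc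
  have hcD : c ∈ stab2 x y := by
    rw [mem_stab2, hc]
    constructor
    · rw [mul_smul, hv.2, smul_of_mem_invs hw]
    · rw [mul_smul, smul_of_mem_invs hv, hw.2]
  have hodd : Odd (orderOf c) := by
    refine Odd.of_dvd_nat (odd_stab2 hH hxy) ?_
    rw [← Subgroup.orderOf_mk c hcD]
    exact orderOf_dvd_natCard _
  obtain ⟨m, hm⟩ := hodd
  have hr : c ^ (m + 1) * c ^ (m + 1) = c := by
    rw [← pow_add]
    have : m + 1 + (m + 1) = orderOf c + 1 := by omega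
    rw [this, pow_succ, pow_orderOf_eq_one, one_mul]
  have hvc : v * c * v⁻¹ = c⁻¹ := by
    rw [hc, mul_inv_rev, hvi, hwi]
    calc v * (w * v) * v = v * w * (v * v) := by group
      _ = v * w := by rw [hvv, mul_one]
  refine ⟨c ^ (m + 1), Subgroup.pow_mem _ hcD _, ?_⟩
  have h1 : v * (c ^ (m + 1))⁻¹ * v⁻¹ = c ^ (m + 1) := by
    rw [← inv_pow, ← conj_pow]
    have : v * c⁻¹ * v⁻¹ = c := by
      have h2 : v * c⁻¹ * v⁻¹ = (v * c * v⁻¹)⁻¹ := by group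
      rw [h2, hvc, inv_inv]
    rw [this]
  have h2 : v * (c ^ (m + 1))⁻¹ = c ^ (m + 1) * v := mul_inv_eq_iff_eq_mul.mp h1
  calc c ^ (m + 1) * v * (c ^ (m + 1))⁻¹ = c ^ (m + 1) * (v * (c ^ (m + 1))⁻¹) := by group
    _ = c ^ (m + 1) * c ^ (m + 1) * v := by rw [h2, mul_assoc]
    _ = c * v := by rw [hr]
    _ = w := by rw [hc, mul_assoc, hvv, mul_one]

/-- The fixed points of the involutions swapping `x` and `y`. -/
def Mid (x y : G ⧸ H) : Set (G ⧸ H) := {z | ∃ t ∈ invs x y, t • z = z}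

omit [Finite G] in
theorem Mid_smul {x y x' y' z : G ⧸ H} {g : G} (hx : g • x = x') (hy : g • y = y')
    (hz : z ∈ Mid x y) : g • z ∈ Mid x' y' := by
  obtain ⟨t, ht, htz⟩ := hz
  refine ⟨g * t * g⁻¹, ⟨by rw [orderOf_conj]; exact ht.1, ?_⟩, ?_⟩
  · rw [← hx, mul_smul, mul_smul, inv_smul_smul, ht.2, hy]
  · rw [mul_smul, mul_smul, inv_smul_smul, htz]

/-- `G_{xy}` is transitive on `Mid x y`. -/
theorem exists_smul_mid (hH : IsStronglyEmbedded H) {x y z z' : G ⧸ H} (hxy : x ≠ y)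
    (hz : z ∈ Mid x y) (hz' : z' ∈ Mid x y) : ∃ d ∈ stab2 x y, d • z = z' := by
  obtain ⟨t, ht, htz⟩ := hz
  obtain ⟨t', ht', htz'⟩ := hz'
  obtain ⟨d, hd, hdt⟩ := exists_conj_swap hH hxy ht ht'
  exact ⟨d, hd, (uniqueFix_quotient hH).smul_eq_of_conj ht'.1 htz htz' hdt⟩

/-- `O_{p'}(G_{xy})` fixes all points of `Mid x y`. -/
theorem core_smul_mid (hH : IsStronglyEmbedded H) (hsolv : ∀ X : Subgroup G, Odd (Nat.card X) →
    Group.IsSolvable X) {p : ℕ} [hp : Fact p.Prime] {x y : G ⧸ H} (hxy : x ≠ y) {t k u : G}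
    (ht : t ∈ invs x y) (hk : orderOf k = p) (hkxy : k ∈ stab2 x y) (htk : t * k * t⁻¹ = k⁻¹)
    (hu : orderOf u = 2) (huk : u * k = k * u) {z : G ⧸ H} (hz : z ∈ Mid x y) :
    ∀ θ ∈ (pPrimeCore p (stab2 x y)).map (stab2 x y).subtype, θ • z = z := by
  have hp2 : p ≠ 2 := prime_ne_two_of_stab2 hH hxy hk hkxy
  obtain ⟨t', ht', htz'⟩ := hz
  obtain ⟨d, hd, hdt⟩ := exists_conj_swap hH hxy ht ht'
  set O := (pPrimeCore p (stab2 x y)).map (stab2 x y).subtype with hO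
  have hOD : O ≤ stab2 x y := Subgroup.map_subtype_le _
  have hOodd : Odd (Nat.card O) :=
    Odd.of_dvd_nat (odd_stab2 hH hxy) (Subgroup.card_dvd_of_le hOD)
  have hOc : (Nat.card O).Coprime p := card_map_pPrimeCore_coprime p _
  have hpO : ¬ p ∣ Nat.card O := fun hdv =>
    hp.out.one_lt.ne' (Nat.eq_one_of_dvd_coprimes hOc hdv dvd_rfl)
  have hdk : d * k * d⁻¹ ∈ stab2 x y := mul_mem (mul_mem hd hkxy) (inv_mem hd)
  have hDO := le_normalizer_map_pPrimeCore p (stab2 x y)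
  refine lemmaS hH hsolv hp2 (k := d * k * d⁻¹) (t := t') (u := d * u * d⁻¹)
    (by rw [orderOf_conj]; exact hk) ht'.1 (by rw [orderOf_conj]; exact hu) ?_ ?_ htz' hOodd hpO
    (forall_of_mem_normalizer (hDO hdk)) ?_
  · calc d * u * d⁻¹ * (d * k * d⁻¹) = d * (u * k) * d⁻¹ := by group
      _ = d * (k * u) * d⁻¹ := by rw [huk]
      _ = d * k * d⁻¹ * (d * u * d⁻¹) := by group
  · rw [← hdt]
    calc d * t * d⁻¹ * (d * k * d⁻¹) * (d * t * d⁻¹)⁻¹ = d * (t * k * t⁻¹) * d⁻¹ := by group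
      _ = (d * k * d⁻¹)⁻¹ := by rw [htk]; group
  · exact conj_pPrimeCore p (swap_normalizes ht') (conj_inv_mem (swap_normalizes ht'))

/-- The main argument: `Δ` is invariant under the involutions fixing a point of `Δ`. -/
theorem smul_mem (hH : IsStronglyEmbedded H) (hsolv : ∀ X : Subgroup G, Odd (Nat.card X) →
    Group.IsSolvable X) {p : ℕ} [hp : Fact p.Prime] {x y : G ⧸ H} (hxy : x ≠ y) {t k u : G}
    (ht : t ∈ invs x y) (hk : orderOf k = p) (hkxy : k ∈ stab2 x y) (htk : t * k * t⁻¹ = k⁻¹)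
    (hu : orderOf u = 2) (huk : u * k = k * u) {N : Subgroup G} {Δ : Set (G ⧸ H)}
    (hΔ : ∀ g ∈ N, ∀ z ∈ Δ, g • z ∈ Δ) (hx : x ∈ Δ) (hy : y ∈ Δ)
    (h2 : ∀ a ∈ Δ, ∀ b ∈ Δ, ∀ c ∈ Δ, ∀ d ∈ Δ, a ≠ b → c ≠ d → ∃ g ∈ N, g • a = c ∧ g • b = d)
    (hs : ∃ s ∈ N, s ∈ invs x x)
    (hfac : ∀ d ∈ stab2 x y, ∃ θ ∈ (pPrimeCore p (stab2 x y)).map (stab2 x y).subtype,
      ∃ n ∈ N, d = θ * n) {z : G ⧸ H} (hz : z ∈ Δ) {r : G} (hr : r ∈ invs z z) {x' : G ⧸ H}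
    (hx' : x' ∈ Δ) : r • x' ∈ Δ := by
  by_cases hzx' : z = x'
  · rw [← hzx', hr.2]; exact hz
  obtain ⟨s₀, hs₀N, hs₀⟩ := hs
  -- `N_{xy}` is transitive on `Mid x y`
  have hNmid : ∀ z₁ ∈ Mid x y, ∀ z₂ ∈ Mid x y, ∃ n ∈ N, n ∈ stab2 x y ∧ n • z₁ = z₂ := by
    intro z₁ hz₁ z₂ hz₂
    obtain ⟨d, hd, hdz⟩ := exists_smul_mid hH hxy hz₁ hz₂
    obtain ⟨θ, hθ, n, hn, hdn⟩ := hfac d hd
    have hθz := core_smul_mid hH hsolv hxy ht hk hkxy htk hu huk hz₂ θ hθ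
    have hθD : θ ∈ stab2 x y := Subgroup.map_subtype_le _ hθ
    have hnd : n = θ⁻¹ * d := by rw [hdn]; group
    refine ⟨n, hn, ?_, ?_⟩
    · rw [hnd]; exact mul_mem (inv_mem hθD) hd
    · rw [hnd, mul_smul, hdz, inv_smul_eq_iff, hθz]
  -- `Mid x y ⊆ Δ`
  have hmidΔ : ∀ z₁ ∈ Mid x y, z₁ ∈ Δ := by
    have hsy : s₀ • y ∈ Δ := hΔ s₀ hs₀N y hy
    have hysy : y ≠ s₀ • y := by
      intro he
      exact hxy (eq_of_smul_eq hH hs₀.1 hs₀.2 he.symm)
    obtain ⟨n, hn, hn1, hn2⟩ := h2 y hy (s₀ • y) hsy x hx y hy hysy hxy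
    have hz₀ : n • x ∈ Mid x y := by
      refine ⟨n * s₀ * n⁻¹, ⟨by rw [orderOf_conj]; exact hs₀.1, ?_⟩, ?_⟩
      · have h3 : n⁻¹ • x = y := by rw [inv_smul_eq_iff, hn1]
        rw [mul_smul, mul_smul, h3, hn2]
      · rw [mul_smul, mul_smul, inv_smul_smul, hs₀.2]
    intro z₁ hz₁
    obtain ⟨n', hn', -, hnz⟩ := hNmid _ hz₀ z₁ hz₁
    rw [← hnz]
    exact hΔ n' hn' _ (hΔ n hn x hx)
  -- an involution of `N` fixing `z`
  obtain ⟨s, hsN, hsz⟩ : ∃ s ∈ N, s ∈ invs z z := by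
    obtain ⟨n, hn, hnx⟩ : ∃ n ∈ N, n • x = z := by
      by_cases hxz : x = z
      · exact ⟨1, one_mem _, by rw [one_smul, hxz]⟩
      · obtain ⟨n, hn, hn1, -⟩ := h2 x hx y hy z hz x hx hxy (Ne.symm hxz)
        exact ⟨n, hn, hn1⟩
    refine ⟨n * s₀ * n⁻¹, mul_mem (mul_mem hn hs₀N) (inv_mem hn),
      by rw [orderOf_conj]; exact hs₀.1, ?_⟩
    rw [← hnx, mul_smul, mul_smul, inv_smul_smul, hs₀.2]
  set y' := s • x' with hy'
  have hy'Δ : y' ∈ Δ := hΔ s hsN x' hx'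
  have hx'y' : x' ≠ y' := by
    intro he
    exact hzx' (eq_of_smul_eq hH hsz.1 hsz.2 he.symm)
  have hzmid : z ∈ Mid x' y' := ⟨s, ⟨hsz.1, rfl⟩, hsz.2⟩
  -- transitivity of `N_{x'y'}` on `Mid x' y'`
  obtain ⟨g, hg, hgx, hgy⟩ := h2 x hx y hy x' hx' y' hy'Δ hxy hx'y'
  have hNmid' : ∀ z₁ ∈ Mid x' y', ∀ z₂ ∈ Mid x' y', ∃ n ∈ N, n ∈ stab2 x' y' ∧ n • z₁ = z₂ := by
    intro z₁ hz₁ z₂ hz₂
    have h3 : g⁻¹ • x' = x := by rw [inv_smul_eq_iff, hgx]
    have h4 : g⁻¹ • y' = y := by rw [inv_smul_eq_iff, hgy]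
    obtain ⟨n, hn, hnD, hnz⟩ := hNmid _ (Mid_smul h3 h4 hz₁) _ (Mid_smul h3 h4 hz₂)
    refine ⟨g * n * g⁻¹, mul_mem (mul_mem hg hn) (inv_mem hg),
      stab2_conj_mem hgx hgy n hnD, ?_⟩
    rw [mul_smul, mul_smul, hnz, smul_inv_smul]
  -- counting
  set T := stab2 z x' ⊓ stab2 x' y' with hT
  have hTm : T ≤ stab2 x' y' := inf_le_right
  have hTx : T ≤ stab2 z x' := inf_le_left
  have hprod : Nat.card (stab2 x' y') * Nat.card ↥(N ⊓ stab2 x' y' ⊓ T : Subgroup G) =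
      Nat.card ↥(N ⊓ stab2 x' y' : Subgroup G) * Nat.card T := by
    have h3 : (stab2 x' y' : Set G) =
        ((N ⊓ stab2 x' y' : Subgroup G) : Set G) * (T : Set G) := by
      apply Set.Subset.antisymm
      · intro d hd
        have hdz : d • z ∈ Mid x' y' := by
          have hd' := mem_stab2.mp hd
          exact Mid_smul hd'.1 hd'.2 hzmid
        obtain ⟨n, hn, hnD, hnz⟩ := hNmid' z hzmid (d • z) hdz
        refine ⟨n, ⟨hn, hnD⟩, n⁻¹ * d, ?_, by group⟩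
        have h4 : n⁻¹ * d ∈ stab2 x' y' := mul_mem (inv_mem hnD) hd
        refine ⟨mem_stab2.mpr ⟨?_, (mem_stab2.mp h4).1⟩, h4⟩
        rw [mul_smul, ← hnz, inv_smul_smul]
      · rintro _ ⟨a, ha, b, hb, rfl⟩
        exact mul_mem ha.2 hb.2
    rw [← Lib.ProductSet.card_mul_card_inf (N ⊓ stab2 x' y') T, ← h3]
    rfl
  have hGc : Nat.card (stab2 z x') = Nat.card (stab2 x' y') := by
    obtain ⟨c, hc, hcz, hcx⟩ := h2 z hz x' hx' x' hx' y' hy'Δ hzx' hx'y'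
    rw [← stab2_conj_card c z x', hcz, hcx]
  have hNc : Nat.card ↥(N ⊓ stab2 x' y' : Subgroup G) ≤
      Nat.card ↥(N ⊓ stab2 z x' : Subgroup G) := by
    obtain ⟨c, hc, hcz, hcx⟩ := h2 z hz x' hx' x' hx' y' hy'Δ hzx' hx'y'
    have h3 : (N ⊓ stab2 x' y' : Subgroup G).map (MulAut.conj c⁻¹).toMonoidHom ≤
        N ⊓ stab2 z x' := by
      rintro _ ⟨w, hw, rfl⟩
      have h4 := stab2_conj_mem' hcz hcx w hw.2
      have e : (MulAut.conj c⁻¹).toMonoidHom w = c⁻¹ * w * c := by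
        simp only [MulEquiv.coe_toMonoidHom, MulAut.conj_apply, inv_inv]
      have h5 : w ∈ N := hw.1
      rw [e]
      exact Subgroup.mem_inf.mpr ⟨mul_mem (mul_mem (inv_mem hc) h5) hc, h4⟩
    calc Nat.card ↥(N ⊓ stab2 x' y' : Subgroup G)
        = Nat.card ((N ⊓ stab2 x' y' : Subgroup G).map (MulAut.conj c⁻¹).toMonoidHom) :=
          Nat.card_congr ((N ⊓ stab2 x' y' : Subgroup G).equivMapOfInjective _
            (MulAut.conj c⁻¹).injective).toEquiv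
      _ ≤ _ := Subgroup.card_le_of_le h3
  have hset : (stab2 z x' : Set G) = ((N ⊓ stab2 z x' : Subgroup G) : Set G) * (T : Set G) := by
    refine Lib.ProductSet.coe_eq_mul_of_card_le inf_le_right hTx ?_
    have h3 : (N ⊓ stab2 z x' ⊓ T : Subgroup G) = N ⊓ stab2 x' y' ⊓ T := by
      apply le_antisymm
      · exact le_inf (le_inf (inf_le_left.trans inf_le_left) (inf_le_right.trans hTm)) inf_le_right
      · exact le_inf (le_inf (inf_le_left.trans inf_le_left) (inf_le_right.trans hTx)) inf_le_right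
    rw [h3, hGc, hprod]
    exact Nat.mul_le_mul_right _ hNc
  -- conclusion
  obtain ⟨d, hd1, hd2, hd⟩ := exists_conj_of_fixes hH hzx' hsz hr
  have hdD : d ∈ (stab2 z x' : Set G) := mem_stab2.mpr ⟨hd1, hd2⟩
  rw [hset] at hdD
  obtain ⟨n, hn, τ, hτ, hnτ⟩ := hdD
  have hτy : τ • y' = y' := (mem_stab2.mp hτ.2).2
  have hdx : d⁻¹ • x' = x' := by rw [inv_smul_eq_iff, hd2]
  have h5 : r • x' = n • y' := by
    have h6 : d = n * τ := hnτ.symm
    rw [← hd, mul_smul, mul_smul, hdx, ← hy', h6, mul_smul, hτy]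
  rw [h5]
  exact hΔ n hn.1 y' hy'Δ

/-- **The end of R-GOOD.** -/
theorem false_of_data (hH : IsStronglyEmbedded H) (hcore : H.normalCore = ⊥)
    (hsolv : ∀ X : Subgroup G, Odd (Nat.card X) → Group.IsSolvable X)
    (big : ∀ x y : G ⧸ H, x ≠ y → Subgroup.closure (invs x x ∪ invs y y) = ⊤)
    {p : ℕ} [hp : Fact p.Prime] {x y : G ⧸ H} (hxy : x ≠ y) {t k u : G}
    (ht : t ∈ invs x y) (hk : orderOf k = p) (hkxy : k ∈ stab2 x y) (htk : t * k * t⁻¹ = k⁻¹)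
    (hu : orderOf u = 2) (huk : u * k = k * u) {N J : Subgroup G} {Δ : Set (G ⧸ H)}
    (hΔ : ∀ g ∈ N, ∀ z ∈ Δ, g • z ∈ Δ) (hx : x ∈ Δ) (hy : y ∈ Δ)
    (h2 : ∀ a ∈ Δ, ∀ b ∈ Δ, ∀ c ∈ Δ, ∀ d ∈ Δ, a ≠ b → c ≠ d → ∃ g ∈ N, g • a = c ∧ g • b = d)
    (hs : ∃ s ∈ N, s ∈ invs x x)
    (hfac : ∀ d ∈ stab2 x y, ∃ θ ∈ (pPrimeCore p (stab2 x y)).map (stab2 x y).subtype,
      ∃ n ∈ N, d = θ * n)
    (hJ : J ≠ ⊥) (hJΔ : ∀ j ∈ J, ∀ z ∈ Δ, j • z = z) : False := by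
  have hinv : ∀ z ∈ Δ, ∀ r ∈ invs z z, ∀ x' : G ⧸ H, x' ∈ Δ ↔ r • x' ∈ Δ := by
    intro z hz r hr x'
    constructor
    · exact fun hx' => smul_mem hH hsolv hxy ht hk hkxy htk hu huk hΔ hx hy h2 hs hfac hz hr hx'
    · intro hrx'
      have h3 := smul_mem hH hsolv hxy ht hk hkxy htk hu huk hΔ hx hy h2 hs hfac hz hr hrx'
      rwa [← mul_smul, mul_self_of_orderOf hr.1, one_smul] at h3
  have hall : ∀ g : G, ∀ x' : G ⧸ H, x' ∈ Δ ↔ g • x' ∈ Δ := by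
    intro g
    have hg : g ∈ Subgroup.closure (invs x x ∪ invs y y) := by rw [big x y hxy]; trivial
    induction hg using Subgroup.closure_induction with
    | mem r hr =>
      rcases hr with hr | hr
      · exact hinv x hx r hr
      · exact hinv y hy r hr
    | one => intro x'; rw [one_smul]
    | mul a b _ _ iha ihb =>
      intro x'
      rw [mul_smul, ← iha (b • x'), ← ihb x']
    | inv a _ iha =>
      intro x'
      rw [iha (a⁻¹ • x'), smul_inv_smul]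
  have hΔuniv : ∀ z : G ⧸ H, z ∈ Δ := by
    intro z
    obtain ⟨g, hg⟩ := MulAction.exists_smul_eq G x z
    rw [← hg]
    exact (hall g x).mp hx
  -- `J` acts trivially
  let K : Subgroup G :=
    { carrier := {g | ∀ z : G ⧸ H, g • z = z}
      one_mem' := fun z => one_smul G z
      mul_mem' := fun {a b} ha hb z => by rw [mul_smul, hb z, ha z]
      inv_mem' := fun {a} ha z => by rw [inv_smul_eq_iff, ha z] }
  have hKn : K.Normal := by
    refine ⟨fun n hn g z => ?_⟩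
    rw [mul_smul, mul_smul, hn (g⁻¹ • z), smul_inv_smul]
  have hJK : J ≤ K := fun j hj z => hJΔ j hj z (hΔuniv z)
  have hKH : K ≤ H := by
    intro k hk
    have h3 : k • ((1 : G) : G ⧸ H) = ((1 : G) : G ⧸ H) := hk _
    have h4 : ((k * 1 : G) : G ⧸ H) = ((1 : G) : G ⧸ H) := h3
    rw [mul_one, QuotientGroup.eq, mul_one] at h4
    exact inv_mem_iff.mp h4
  have hK1 : K ≤ H.normalCore := Subgroup.normal_le_normalCore.mpr hKH
  rw [hcore] at hK1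
  exact hJ (le_bot_iff.mp (hJK.trans hK1))

end Cfsg.Agent.StrongEmb.RGoodFinal
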