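import Cfsg.Agent.StrongEmb.RGoodTools
import Cfsg.Agent.SignalizersComponents.CoprimeBasic
import Cfsg.Agent.TwoFusion.BenderTwoTrans

/-!
# Involutions normalising `ZJ(Q)`

`M` is a finite group whose involutions commute with the `2`-elements modulo a normal subgroup `O` of
odd order, `D ≥ O` has odd order, `Q` is a Sylow `p`-subgroup of `D` and `U ≤ D` a normal `p`-subgroup
of `M` centralised by no involution. If `M` has two commuting involutions, so has `N_M(ZJ(Q))`.
-/

set_option autoImplicit false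

universe u

open scoped Pointwise commutatorElement

namespace Cfsg.Agent.StrongEmb.RGoodLayer

open Cfsg

section Core

variable {M : Type u} [Group M] [Finite M]

/-- The images of the involutions generate an elementary abelian `2`-group. -/
theorem closure_elem {X : Type u} [Group X] (I : Set X) (hI : ∀ x ∈ I, x * x = 1)
    (hc : ∀ x ∈ I, ∀ y ∈ I, x * y = y * x) :
    (∀ x ∈ Subgroup.closure I, ∀ y ∈ Subgroup.closure I, x * y = y * x) ∧
      ∀ x ∈ Subgroup.closure I, x * x = 1 := by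
  have h1 : ∀ x ∈ Subgroup.closure I, ∀ y ∈ Subgroup.closure I, x * y = y * x := by
    have h2 : I ⊆ Subgroup.centralizer I := by
      intro x hx
      rw [SetLike.mem_coe, Subgroup.mem_centralizer_iff]
      intro y hy
      exact hc y hy x hx
    have h3 : Subgroup.closure I ≤ Subgroup.centralizer I := (Subgroup.closure_le _).mpr h2
    have h4 : Subgroup.closure I ≤ Subgroup.centralizer (Subgroup.closure I : Set X) := by
      rw [Subgroup.closure_le]
      intro x hx
      rw [SetLike.mem_coe, Subgroup.mem_centralizer_iff]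
      intro y hy
      exact (Subgroup.mem_centralizer_iff.mp (h3 hy) x hx).symm
    intro x hx y hy
    exact (Subgroup.mem_centralizer_iff.mp (h4 hx) y hy).symm
  refine ⟨h1, ?_⟩
  intro x hx
  refine Subgroup.closure_induction (p := fun x _ => x * x = 1) hI (by simp) ?_ ?_ hx
  · intro x y hx hy hx2 hy2
    have h5 := h1 x hx y hy
    calc x * y * (x * y) = x * (y * x) * y := by group
      _ = x * (x * y) * y := by rw [h5]
      _ = (x * x) * (y * y) := by group
      _ = 1 := by rw [hx2, hy2, one_mul]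
  · intro x hx hx2
    rw [← mul_inv_rev, hx2, inv_one]

theorem core_result (hFT : ∀ (K : Type u) [Group K] [Finite K], Odd (Nat.card K) → Group.IsSolvable K)
    {p : ℕ} [hp : Fact p.Prime] (hp2 : p ≠ 2) {O D Q U : Subgroup M} [hO : O.Normal] [hUn : U.Normal]
    (hOD : O ≤ D) (hDodd : Odd (Nat.card D))
    (hcomm : ∀ s h : M, orderOf s = 2 → (∃ n : ℕ, orderOf h = 2 ^ n) → s * h * s⁻¹ * h⁻¹ ∈ O)
    (hQD : Q ≤ D) (hQ : IsPGroup p Q) (hidx : ¬ p ∣ Q.relIndex D) (hU : IsPGroup p U) (hUD : U ≤ D)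
    (hcent : ∀ v : M, orderOf v = 2 → ∃ u ∈ U, v * u * v⁻¹ ≠ u)
    {a b : M} (ha2 : orderOf a = 2) (hb2 : orderOf b = 2) (hab : a ≠ b) (hc : Commute a b) :
    ∃ e₁ e₂ : M, e₁ ∈ Subgroup.normalizer (centerThompsonAOf Q : Set M) ∧
      e₂ ∈ Subgroup.normalizer (centerThompsonAOf Q : Set M) ∧ orderOf e₁ = 2 ∧ orderOf e₂ = 2 ∧
      e₁ ≠ e₂ ∧ Commute e₁ e₂ := by
  classical
  have hOodd : Odd (Nat.card O) := hDodd.of_dvd_nat (Subgroup.card_dvd_of_le hOD)
  let π : M →* M ⧸ O := QuotientGroup.mk' O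
  have hπ1 : ∀ x : M, π x = 1 ↔ x ∈ O := fun x => QuotientGroup.eq_one_iff x
  have hπs : Function.Surjective π := QuotientGroup.mk'_surjective O
  let J : Set M := {s | orderOf s = 2}
  let L : Subgroup M := Subgroup.closure J
  have hLn : L.Normal := by
    constructor
    intro x hx g
    have h1 : L.map (MulAut.conj g).toMonoidHom ≤ L := by
      rw [MonoidHom.map_closure, Subgroup.closure_le]
      rintro _ ⟨s, hs, rfl⟩
      apply Subgroup.subset_closure
      change orderOf (MulAut.conj g s) = 2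
      rw [MulEquiv.orderOf_eq]
      exact hs
    exact h1 ⟨x, hx, rfl⟩
  have hE := closure_elem (π '' J) (by
      rintro _ ⟨s, hs, rfl⟩
      rw [← map_mul, hπ1]
      have h1 : s ^ 2 = 1 := by rw [← (hs : orderOf s = 2)]; exact pow_orderOf_eq_one s
      rw [← pow_two, h1]; exact one_mem O) (by
      rintro _ ⟨s, hs, rfl⟩ _ ⟨t, ht, rfl⟩
      have h1 := (hπ1 _).mpr (hcomm s t hs ⟨1, by rw [pow_one]; exact ht⟩)
      rw [map_mul, map_mul, map_mul, map_inv, map_inv] at h1
      have h2 : π s * π t * (π s)⁻¹ * (π t)⁻¹ * (π t * π s) = π s * π t := by group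
      rw [h1, one_mul] at h2
      exact h2.symm)
  rw [← MonoidHom.map_closure] at hE
  obtain ⟨hEc, hE2⟩ := hE
  set E : Subgroup (M ⧸ O) := L.map π with hEdef
  have hEn : E.Normal := hLn.map π hπs
  have hEp : IsPGroup 2 E := by
    rintro ⟨x, hx⟩
    refine ⟨1, Subtype.ext ?_⟩
    change x ^ 2 ^ 1 = 1
    rw [pow_one, pow_two]; exact hE2 x hx
  -- solvability
  have hDsol : Group.IsSolvable D := hFT D hDodd
  have hOsol : Group.IsSolvable O := hFT O hOodd
  have hEsol : Group.IsSolvable E := by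
    have := hEp.isNilpotent
    infer_instance
  have hLsol : Group.IsSolvable L := by
    have h1 : Group.IsSolvable (O.subgroupOf L) :=
      hFT _ (hOodd.of_dvd_nat (Subgroup.card_comap_dvd_of_injective O L.subtype L.subtype_injective))
    refine Group.isSolvable_of_ker_le_range (O.subgroupOf L).subtype (π.subgroupMap L) ?_
    rintro x hx
    rw [Subgroup.range_subtype]
    have h2 : π x = 1 := congrArg Subtype.val ((MonoidHom.mem_ker).mp hx)
    exact (hπ1 _).mp h2
  let Y : Subgroup M := L ⊔ D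
  have hYsol : Group.IsSolvable Y :=
    SignalizersComponents.CoprimeBasic.isSolvable_sup
      (by rw [Subgroup.normalizer_eq_top]; exact le_top) hLsol hDsol
  -- `2`-subgroups of `Y`
  have h2E : ∀ x ∈ Y, (∃ n : ℕ, orderOf x = 2 ^ n) → π x ∈ E := by
    rintro x hx ⟨n, hn⟩
    let ρ : (M ⧸ O) →* (M ⧸ O) ⧸ E := QuotientGroup.mk' E
    have h1 : ρ (π x) ∈ (D.map π).map ρ := by
      have h2 : (L ⊔ D).map (ρ.comp π) ≤ (D.map π).map ρ := by
        rw [Subgroup.map_sup, Subgroup.map_map]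
        refine sup_le ?_ le_rfl
        rw [← Subgroup.map_map]
        have h3 : (L.map π).map ρ = ⊥ := by
          rw [Subgroup.map_eq_bot_iff, QuotientGroup.ker_mk']
        rw [h3]; exact bot_le
      exact h2 ⟨x, hx, rfl⟩
    have h4 : Odd (Nat.card ((D.map π).map ρ)) := by
      refine hDodd.of_dvd_nat ?_
      exact (Subgroup.card_map_dvd _ _).trans (Subgroup.card_map_dvd _ _)
    have h5 : orderOf (ρ (π x)) ∣ 2 ^ n := by
      rw [← hn]
      exact (orderOf_map_dvd ρ (π x)).trans (orderOf_map_dvd π x)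
    have h6 : orderOf (ρ (π x)) ∣ Nat.card ((D.map π).map ρ) := Subgroup.orderOf_dvd_natCard _ h1
    have h7 : orderOf (ρ (π x)) = 1 := by
      refine Nat.eq_one_of_dvd_coprimes ?_ h5 h6
      exact Nat.Coprime.pow_left n (Nat.coprime_two_left.mpr h4)
    rw [orderOf_eq_one_iff] at h7
    exact (QuotientGroup.eq_one_iff _).mp h7
  have hordO : ∀ x ∈ O, (∃ n : ℕ, orderOf x = 2 ^ n) → x = 1 := by
    rintro x hx ⟨n, hn⟩
    have h1 := Subgroup.orderOf_dvd_natCard O hx
    rw [← orderOf_eq_one_iff]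
    refine Nat.eq_one_of_dvd_coprimes ?_ (dvd_of_eq hn) h1
    exact Nat.Coprime.pow_left n (Nat.coprime_two_left.mpr hOodd)
  have hTord : ∀ T : Subgroup M, IsPGroup 2 T → ∀ x ∈ T, ∃ n : ℕ, orderOf x = 2 ^ n := by
    intro T hT x hx
    obtain ⟨n, hn⟩ := IsPGroup.iff_orderOf.mp hT ⟨x, hx⟩
    exact ⟨n, by rwa [Subgroup.orderOf_mk] at hn⟩
  have hTcomm : ∀ T : Subgroup M, T ≤ Y → IsPGroup 2 T →
      (∀ x ∈ T, ∀ y ∈ T, x * y = y * x) ∧ ∀ x ∈ T, x * x = 1 := by
    intro T hTY hT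
    have h1 : ∀ x ∈ T, π x ∈ E := fun x hx => h2E x (hTY hx) (hTord T hT x hx)
    constructor
    · intro x hx y hy
      have h2 := hEc _ (h1 x hx) _ (h1 y hy)
      have h3 : π (x * y * x⁻¹ * y⁻¹) = 1 := by
        rw [map_mul, map_mul, map_mul, map_inv, map_inv, h2]; group
      have h4 : x * y * x⁻¹ * y⁻¹ ∈ T := mul_mem (mul_mem (mul_mem hx hy) (inv_mem hx)) (inv_mem hy)
      have h5 := hordO _ ((hπ1 _).mp h3) (hTord T hT _ h4)
      have h6 : x * y = (x * y * x⁻¹ * y⁻¹) * (y * x) := by group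
      rw [h6, h5, one_mul]
    · intro x hx
      have h3 : π (x * x) = 1 := by rw [map_mul]; exact hE2 _ (h1 x hx)
      exact hordO _ ((hπ1 _).mp h3) (hTord T hT _ (mul_mem hx hx))
  have hYab : ∀ T : Sylow 2 Y, IsMulCommutative (T : Subgroup Y) := by
    intro T
    have h1 := (hTcomm ((T : Subgroup Y).map Y.subtype) (Subgroup.map_subtype_le _)
      (T.isPGroup'.map _)).1
    refine ⟨⟨?_⟩⟩
    rintro ⟨x, hx⟩ ⟨y, hy⟩
    exact Subtype.ext (Subtype.ext (h1 _ ⟨x, hx, rfl⟩ _ ⟨y, hy, rfl⟩))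
  -- `Q` is a Sylow `p`-subgroup of `Y`
  have hDY : D ≤ Y := le_sup_right
  have hcardrel : ∀ A B : Subgroup M, A ≤ B → Nat.card A * A.relIndex B = Nat.card B := by
    intro A B h
    have h1 := Subgroup.relIndex_mul_relIndex ⊥ A B bot_le h
    rwa [Subgroup.relIndex_bot_left, Subgroup.relIndex_bot_left] at h1
  have hcardmap : ∀ A : Subgroup M, O ≤ A → Nat.card O * Nat.card (A.map π) = Nat.card A := by
    intro A hA
    rw [← hcardrel O A hA, ← Subgroup.relIndex_ker, QuotientGroup.ker_mk']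
  have hcardY : Nat.card Y ∣ Nat.card E * Nat.card D := by
    rw [← hcardmap Y (hOD.trans hDY), ← hcardmap D hOD, mul_left_comm]
    apply mul_dvd_mul_left
    have h1 : Y.map π = E ⊔ D.map π := Subgroup.map_sup L D π
    rw [h1]
    exact SignalizersComponents.CoprimeBasic.card_sup_dvd
      (by rw [Subgroup.normalizer_eq_top]; exact le_top)
  have hidxY : ¬ p ∣ Q.relIndex Y := by
    intro h
    have h1 : Nat.card Q * Q.relIndex Y ∣ Nat.card Q * (Nat.card E * Q.relIndex D) := by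
      rw [hcardrel Q Y (hQD.trans hDY), mul_left_comm, hcardrel Q D hQD]
      exact hcardY
    have h2 : Q.relIndex Y ∣ Nat.card E * Q.relIndex D :=
      Nat.dvd_of_mul_dvd_mul_left Nat.card_pos h1
    rcases (hp.out.dvd_mul).mp (h.trans h2) with h3 | h3
    · obtain ⟨n, hn⟩ := IsPGroup.iff_card.mp hEp
      rw [hn] at h3
      exact hp2 ((Nat.prime_dvd_prime_iff_eq hp.out Nat.prime_two).mp (hp.out.dvd_of_dvd_pow h3))
    · exact hidx h3
  have hfac := RGoodTools.zj_factor_sub hYsol hp2 hYab (hQD.trans hDY) hQ hidxY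
  set K : Subgroup M := (pPrimeCore p Y).map Y.subtype with hKdef
  set N : Subgroup M := Y ⊓ Subgroup.normalizer (centerThompsonAOf Q : Set M) with hNdef
  have hKn : Y ≤ Subgroup.normalizer (K : Set M) := by
    have h1 := Subgroup.le_normalizer_map (H := pPrimeCore p Y) Y.subtype
    have h2 : (pPrimeCore p Y).Normal := pPrimeCore_normal p Y
    rw [Subgroup.normalizer_eq_top, ← MonoidHom.range_eq_map, Subgroup.range_subtype] at h1
    exact h1
  have hKcop : (Nat.card K).Coprime p := by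
    rw [hKdef, Subgroup.card_map_of_injective Y.subtype_injective]
    exact Lib.Cores.pPrimeCore_coprime p
  have hKU : ∀ x ∈ K, ∀ u ∈ U, x * u * x⁻¹ = u := by
    intro x hx u hu
    have h1 : K ⊓ U = ⊥ := PLocal.ZJReduction.inf_eq_bot hKcop hU
    have h2 : x * u * x⁻¹ * u⁻¹ ∈ K ⊓ U := by
      refine Subgroup.mem_inf.mpr ⟨?_, mul_mem (hUn.conj_mem u hu x) (inv_mem hu)⟩
      have h3 : u * x⁻¹ * u⁻¹ ∈ K :=
        (Subgroup.mem_normalizer_iff.mp (hKn (hDY (hUD hu))) _).mp (inv_mem hx)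
      have h4 : x * u * x⁻¹ * u⁻¹ = x * (u * x⁻¹ * u⁻¹) := by group
      rw [h4]
      exact mul_mem hx h3
    rw [h1, Subgroup.mem_bot] at h2
    exact mul_inv_eq_one.mp h2
  have hKodd : Odd (Nat.card K) := by
    rw [← Nat.not_even_iff_odd, even_iff_two_dvd]
    intro h2
    obtain ⟨v, hv⟩ := exists_prime_orderOf_dvd_card' (G := K) 2 h2
    obtain ⟨u, hu, hne⟩ := hcent v (by rw [Subgroup.orderOf_coe]; exact hv)
    exact hne (hKU v v.2 u hu)
  have hcardN : Nat.card Y ∣ Nat.card K * Nat.card N := by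
    have h1 : Nat.card Y = Nat.card ↥(K ⊔ N) := by rw [← hfac]
    rw [h1]
    exact SignalizersComponents.CoprimeBasic.card_sup_dvd (inf_le_left.trans hKn)
  -- the order of `Y` is divisible by `4`
  have ha1 : a * a = 1 := by rw [← pow_two, ← ha2]; exact pow_orderOf_eq_one a
  have hb1 : b * b = 1 := by rw [← pow_two, ← hb2]; exact pow_orderOf_eq_one b
  have ha0 : a ≠ 1 := by rintro rfl; rw [orderOf_one] at ha2; exact absurd ha2 (by norm_num)
  have hb0 : b ≠ 1 := by rintro rfl; rw [orderOf_one] at hb2; exact absurd hb2 (by norm_num)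
  have h4Y : 2 ^ 2 ∣ Nat.card Y := by
    have hF := closure_elem ({a, b} : Set M) (by
        rintro x (rfl | rfl)
        · exact ha1
        · exact hb1) (by
        rintro x (rfl | rfl) y (rfl | rfl)
        · rfl
        · exact hc.eq
        · exact hc.eq.symm
        · rfl)
    set F : Subgroup M := Subgroup.closure ({a, b} : Set M) with hFdef
    have haF : a ∈ F := Subgroup.subset_closure (Set.mem_insert _ _)
    have hbF : b ∈ F := Subgroup.subset_closure (Set.mem_insert_of_mem _ rfl)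
    have hFp : IsPGroup 2 F := by
      rintro ⟨x, hx⟩
      refine ⟨1, Subtype.ext ?_⟩
      change x ^ 2 ^ 1 = 1
      rw [pow_one, pow_two]; exact hF.2 x hx
    have hFY : F ≤ Y := by
      rw [hFdef, Subgroup.closure_le]
      rintro x (rfl | rfl)
      · exact Subgroup.mem_sup_left (Subgroup.subset_closure ha2)
      · exact Subgroup.mem_sup_left (Subgroup.subset_closure hb2)
    obtain ⟨n, hn⟩ := IsPGroup.iff_card.mp hFp
    have h3 : 2 < Nat.card F := by
      have h5 : ({1, a, b} : Set M) ⊆ (F : Set M) := by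
        rintro x (rfl | rfl | rfl)
        · exact one_mem F
        · exact haF
        · exact hbF
      have h6 : ({1, a, b} : Set M).ncard = 3 := by
        rw [Set.ncard_eq_three]
        exact ⟨1, a, b, ha0.symm, hb0.symm, hab, rfl⟩
      have h7 := Set.ncard_le_ncard h5 (Set.toFinite _)
      rw [h6] at h7
      have h8 : (F : Set M).ncard = Nat.card F := rfl
      omega
    have h4 : 2 ≤ n := by
      by_contra h
      have h5 : n = 0 ∨ n = 1 := by omega
      rcases h5 with h5 | h5 <;> rw [hn, h5] at h3 <;> norm_num at h3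
    exact (pow_dvd_pow 2 h4).trans (hn ▸ Subgroup.card_dvd_of_le hFY)
  have h4N : 2 ^ 2 ∣ Nat.card N := by
    have h1 : Nat.Coprime (2 ^ 2) (Nat.card K) :=
      Nat.Coprime.pow_left 2 (Nat.coprime_two_left.mpr hKodd)
    exact h1.dvd_of_dvd_mul_left (h4Y.trans hcardN)
  obtain ⟨T₀, hT₀⟩ := Sylow.exists_subgroup_card_pow_prime 2 h4N
  set T : Subgroup M := T₀.map N.subtype with hTdef
  have hTcard : Nat.card T = 4 := by
    rw [hTdef, Subgroup.card_map_of_injective N.subtype_injective, hT₀]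
    norm_num
  have hTN : T ≤ N := Subgroup.map_subtype_le _
  have hTp : IsPGroup 2 T := IsPGroup.of_card (n := 2) (by rw [hTcard]; norm_num)
  obtain ⟨hTc, hT2⟩ := hTcomm T (hTN.trans inf_le_left) hTp
  obtain ⟨e₁, he₁, he₁1⟩ : ∃ e ∈ T, e ≠ 1 := by
    by_contra h
    push Not at h
    have h1 : T = ⊥ := by rw [Subgroup.eq_bot_iff_forall]; exact h
    rw [h1, Subgroup.card_bot] at hTcard
    exact absurd hTcard (by norm_num)
  obtain ⟨e₂, he₂, he₂1, he₂2⟩ : ∃ e ∈ T, e ≠ 1 ∧ e ≠ e₁ := by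
    by_contra h
    push Not at h
    have h1 : (T : Set M) ⊆ {1, e₁} := by
      intro x hx
      by_cases h2 : x = 1
      · exact Or.inl h2
      · exact Or.inr (h x hx h2)
    have h3 := Set.ncard_le_ncard h1 (Set.toFinite _)
    have h4 : (T : Set M).ncard = 4 := hTcard
    have h5 : ({1, e₁} : Set M).ncard ≤ 2 := Set.ncard_insert_le _ _ |>.trans (by simp)
    omega
  have hord : ∀ x ∈ T, x ≠ 1 → orderOf x = 2 := by
    intro x hx hx1
    exact orderOf_eq_prime (by rw [pow_two]; exact hT2 x hx) hx1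
  exact ⟨e₁, e₂, (hTN he₁).2, (hTN he₂).2, hord e₁ he₁ he₁1, hord e₂ he₂ he₂1, he₂2.symm,
    hTc e₁ he₁ e₂ he₂⟩

end Core

open Cfsg.Agent.TwoFusion.BenderTwoTrans (SylIn)

theorem normal_subgroupOf {G : Type u} [Group G] {O M : Subgroup G}
    (hOn : ∀ g ∈ M, ∀ o ∈ O, g * o * g⁻¹ ∈ O) : (O.subgroupOf M).Normal :=
  ⟨fun o ho g => hOn g g.2 o ho⟩

/-- If `M` has two commuting involutions, so has `N_M(ZJ(Q))`; subgroup form. -/
theorem exists_comm_normalizing {G : Type u} [Group G] [Finite G] {p : ℕ} [Fact p.Prime]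
    (hFT : ∀ (K : Type u) [Group K] [Finite K], Odd (Nat.card K) → Group.IsSolvable K)
    (hp2 : p ≠ 2) {M O D Q U : Subgroup G} (hOD : O ≤ D) (hDM : D ≤ M)
    (hOn : ∀ g ∈ M, ∀ o ∈ O, g * o * g⁻¹ ∈ O) (hDodd : Odd (Nat.card D))
    (hcomm : ∀ s ∈ M, ∀ h ∈ M, orderOf s = 2 → (∃ n : ℕ, orderOf h = 2 ^ n) →
      s * h * s⁻¹ * h⁻¹ ∈ O)
    (hQ : SylIn p D Q) (hU : IsPGroup p U) (hUD : U ≤ D) (hUM : ∀ g ∈ M, ∀ u ∈ U, g * u * g⁻¹ ∈ U)
    (hcent : ∀ v : G, orderOf v = 2 → ∃ u ∈ U, v * u * v⁻¹ ≠ u) {a b : G} (ha : a ∈ M) (hb : b ∈ M)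
    (ha2 : orderOf a = 2) (hb2 : orderOf b = 2) (hab : a ≠ b) (hc : Commute a b) :
    ∃ e₁ e₂ : G, e₁ ∈ M ∧ e₂ ∈ M ∧ e₁ ∈ Subgroup.normalizer (centerThompsonAOf Q : Set G) ∧
      e₂ ∈ Subgroup.normalizer (centerThompsonAOf Q : Set G) ∧ orderOf e₁ = 2 ∧ orderOf e₂ = 2 ∧
      e₁ ≠ e₂ ∧ Commute e₁ e₂ := by
  obtain ⟨S, hS⟩ := hQ
  have hQD : Q ≤ D := by rw [← hS]; exact Subgroup.map_subtype_le _
  have hQp : IsPGroup p Q := by rw [← hS]; exact S.isPGroup'.map _
  have hQsub : Q.subgroupOf D = (S : Subgroup D) := by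
    rw [← hS]; exact Subgroup.comap_map_eq_self_of_injective D.subtype_injective _
  have hidx : ¬ p ∣ Q.relIndex D := by
    rw [Subgroup.relIndex, hQsub]; exact S.not_dvd_index
  have hcardsub : ∀ A : Subgroup G, A ≤ M → Nat.card (A.subgroupOf M) = Nat.card A := fun A hA =>
    Nat.card_congr (Subgroup.subgroupOfEquivOfLe hA).toEquiv
  have hOn' : (O.subgroupOf M).Normal := normal_subgroupOf hOn
  have hUn' : (U.subgroupOf M).Normal := normal_subgroupOf hUM
  have hQM : Q ≤ M := hQD.trans hDM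
  obtain ⟨e₁, e₂, h1, h2, h3, h4, h5, h6⟩ := core_result (M := M) hFT hp2 (O := O.subgroupOf M)
    (D := D.subgroupOf M) (Q := Q.subgroupOf M) (U := U.subgroupOf M)
    (Subgroup.comap_mono hOD) (by rw [hcardsub D hDM]; exact hDodd)
    (fun s h hs hh => hcomm s s.2 h h.2 (by rwa [Subgroup.orderOf_coe])
      (by rwa [Subgroup.orderOf_coe]))
    (Subgroup.comap_mono hQD) (hQp.comap_of_injective M.subtype M.subtype_injective)
    (by
      have h1 : (Q.subgroupOf M).relIndex (D.subgroupOf M) = Q.relIndex D := by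
        rw [Subgroup.relIndex_subgroupOf hDM]
      rw [h1]; exact hidx)
    (hU.comap_of_injective M.subtype M.subtype_injective) (Subgroup.comap_mono hUD)
    (fun v hv => by
      obtain ⟨u, hu, hne⟩ := hcent v (by rwa [Subgroup.orderOf_coe])
      refine ⟨⟨u, hDM (hUD hu)⟩, hu, fun h => hne ?_⟩
      exact congrArg Subtype.val h)
    (a := ⟨a, ha⟩) (b := ⟨b, hb⟩) (by rw [Subgroup.orderOf_mk]; exact ha2)
    (by rw [Subgroup.orderOf_mk]; exact hb2) (fun h => hab (congrArg Subtype.val h))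
    (Subtype.ext hc.eq)
  have hmap : (centerThompsonAOf (Q.subgroupOf M)).map M.subtype = centerThompsonAOf Q := by
    rw [PLocal.ThompsonJA.map_centerThompsonAOf M.subtype M.subtype_injective,
      Subgroup.subgroupOf_map_subtype, inf_of_le_left hQM]
  have hnorm : ∀ e : M, e ∈ Subgroup.normalizer (centerThompsonAOf (Q.subgroupOf M) : Set M) →
      (e : G) ∈ Subgroup.normalizer (centerThompsonAOf Q : Set G) := by
    intro e he
    rw [← hmap]
    exact Subgroup.le_normalizer_map M.subtype ⟨e, he, rfl⟩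
  exact ⟨e₁, e₂, e₁.2, e₂.2, hnorm e₁ h1, hnorm e₂ h2, by rwa [Subgroup.orderOf_coe],
    by rwa [Subgroup.orderOf_coe], fun h => h5 (Subtype.ext h), congrArg Subtype.val h6.eq⟩

end Cfsg.Agent.StrongEmb.RGoodLayer
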