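import Mathlib
import Cfsg.Agent.StrongEmb.RGood
import Cfsg.Agent.StrongEmb.ClP
import Cfsg.Agent.StrongEmb.TheoremZ

/-!
# Bender's theorem: the involutions of a point stabilizer commute

Claim N (`ClaimN.Hyp`) and Theorem Z (`TheoremZ.theoremZ`) imply: in a minimal counterexample to
Bender's theorem in which all pairs of points are big, the involutions fixing a point commute.
-/

set_option autoImplicit false

universe u

namespace Cfsg.Agent.StrongEmb.BigComm

open Cfsg Cfsg.Agent.TwoFusion.StronglyEmbeddedBasic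
open Cfsg.Agent.SignalizersComponents.BenderCount
open Cfsg.Agent.SignalizersComponents.BenderPerfect
open Cfsg.Agent.Blocks.SylowIn
open Cfsg.Agent.TwoFusion.BenderTwoTrans
open Cfsg.Agent.StrongEmb.Basic Cfsg.Agent.StrongEmb.TwoRank Cfsg.Agent.StrongEmb.Split
open Cfsg.Agent.StrongEmb.Frame Cfsg.Agent.StrongEmb.ClP

variable {G : Type u} [Group G] [Finite G] {H : Subgroup G}

/-! ### Elements inverted by an involution -/

theorem kap_pos (U : Subgroup G) (v : G) : 0 < kap U v := by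
  unfold kap
  have : Nonempty {x : G // x ∈ U ∧ v * x * v⁻¹ = x⁻¹} := ⟨⟨1, one_mem U, by simp⟩⟩
  exact Nat.card_pos

/-- The number of elements inverted by `v` in a `v`-invariant Sylow subgroup. -/
theorem kap_of_sylIn {U : Subgroup G} (hU : Odd (Nat.card U)) {v : G} (hv : orderOf v = 2)
    (hvU : ∀ u ∈ U, v * u * v⁻¹ ∈ U) {l : ℕ} [hl : Fact l.Prime] {L : Subgroup G}
    (hL : SylIn l U L) (hvL : ∀ u ∈ L, v * u * v⁻¹ ∈ L) :
    kap L v = l ^ (kap U v).factorization l := by
  have : Fact (Nat.Prime 2) := ⟨Nat.prime_two⟩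
  have hLU := (exists_sylow_map_eq_iff.mp hL).1
  have hLodd : Odd (Nat.card L) := Odd.of_dvd_nat hU (Subgroup.card_dvd_of_le hLU)
  have h1 := kap_mul hLodd hv hvL
  have h2 := S1287.card_fixed_sylow (B := Subgroup.zpowers v) (isPGroup_two_zpowers hv)
    (not_two_dvd hU) (zpowers_forall hvU) hL (zpowers_forall hvL)
  rw [S1287.centralizer_zpowers] at h2
  have h3 := kap_mul hU hv hvU
  rw [h2, card_of_sylow_map_eq hL, ← h3, Nat.factorization_mul (kap_pos U v).ne'
    Nat.card_pos.ne', Finsupp.coe_add, Pi.add_apply, pow_add] at h1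
  exact Nat.eq_of_mul_eq_mul_right (pow_pos hl.out.pos _) h1

omit [Finite G] in
/-- A nontrivial element of an `l`-group inverted by `v` has a power of order `l`. -/
theorem exists_pow_prime {l : ℕ} [hl : Fact l.Prime] {L : Subgroup G} (hL : IsPGroup l L)
    {a v : G} (ha : a ∈ L) (ha1 : a ≠ 1) (hinv : v * a * v⁻¹ = a⁻¹) :
    ∃ m : ℕ, orderOf (a ^ m) = l ∧ v * a ^ m * v⁻¹ = (a ^ m)⁻¹ := by
  obtain ⟨n, hn⟩ := IsPGroup.iff_orderOf.mp hL ⟨a, ha⟩
  rw [Subgroup.orderOf_mk] at hn
  have hn0 : n ≠ 0 := by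
    rintro rfl
    rw [pow_zero, orderOf_eq_one_iff] at hn
    exact ha1 hn
  obtain ⟨m, rfl⟩ := Nat.exists_eq_succ_of_ne_zero hn0
  refine ⟨l ^ m, ?_, ?_⟩
  · rw [orderOf_pow' a (pow_ne_zero m hl.out.ne_zero), hn,
      Nat.gcd_eq_right (pow_dvd_pow l (Nat.le_succ m)), Nat.succ_eq_add_one, pow_succ,
      Nat.mul_div_cancel_left _ (pow_pos hl.out.pos m)]
  · have h2 : v * a ^ l ^ m * v⁻¹ = (v * a * v⁻¹) ^ l ^ m := by rw [conj_pow]
    rw [h2, hinv, inv_pow]

omit [Finite G] in
theorem isPGroup_zpowers {l : ℕ} {a : G} (ha : orderOf a = l) :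
    IsPGroup l (Subgroup.zpowers a) := by
  apply IsPGroup.of_card (n := 1)
  rw [Nat.card_zpowers, ha, pow_one]

omit [Finite G] in
theorem conj_zpowers {a v : G} (hinv : v * a * v⁻¹ = a⁻¹) :
    ∀ u ∈ Subgroup.zpowers a, v * u * v⁻¹ ∈ Subgroup.zpowers a := by
  rintro _ ⟨n, rfl⟩
  simp only
  rw [← conj_zpow, hinv]
  exact ⟨-n, by simp⟩

/-- `l` divides the number of elements of `U` inverted by `v` iff `v` inverts an element of order
`l`. -/
theorem dvd_kap_iff {U : Subgroup G} (hU : Odd (Nat.card U)) {v : G} (hv : orderOf v = 2)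
    (hvU : ∀ u ∈ U, v * u * v⁻¹ ∈ U) {l : ℕ} [hl : Fact l.Prime] :
    l ∣ kap U v ↔ ∃ a ∈ U, orderOf a = l ∧ v * a * v⁻¹ = a⁻¹ := by
  have h2 : Fact (Nat.Prime 2) := ⟨Nat.prime_two⟩
  constructor
  · intro hdvd
    obtain ⟨L, hL, hLv⟩ := Lib.PGroupCoprimeAction.exists_invariant_sylow
      (A := Subgroup.zpowers v) (H := U) (isPGroup_two_zpowers hv) (not_two_dvd hU)
      (zpowers_forall hvU) l
    obtain ⟨hLU, hLl, -⟩ := exists_sylow_map_eq_iff.mp hL
    have h1 := kap_of_sylIn hU hv hvU hL (hLv v (Subgroup.mem_zpowers v))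
    have h3 : 1 < kap L v := by
      rw [h1]
      refine Nat.one_lt_pow ?_ hl.out.one_lt
      exact (hl.out.factorization_pos_of_dvd (kap_pos U v).ne' hdvd).ne'
    unfold kap at h3
    rw [Finite.one_lt_card_iff_nontrivial] at h3
    obtain ⟨⟨a, ha⟩, hane⟩ := exists_ne
      (⟨1, one_mem L, by simp⟩ : {x : G // x ∈ L ∧ v * x * v⁻¹ = x⁻¹})
    have ha1 : a ≠ 1 := fun h => hane (Subtype.ext h)
    obtain ⟨m, hm, hm2⟩ := exists_pow_prime hLl ha.1 ha1 ha.2
    exact ⟨a ^ m, pow_mem (hLU ha.1) m, hm, hm2⟩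
  · rintro ⟨a, ha, hal, hinv⟩
    obtain ⟨L, hL, hLv, haL⟩ := Lib.PGroupCoprimeAction.exists_invariant_sylow_ge
      (A := Subgroup.zpowers v) (H := U) (R := Subgroup.zpowers a) (isPGroup_two_zpowers hv)
      (not_two_dvd hU) (zpowers_forall hvU) (by rw [Subgroup.zpowers_le]; exact ha)
      (isPGroup_zpowers hal) (zpowers_forall (conj_zpowers hinv))
    have h1 := kap_of_sylIn hU hv hvU hL (hLv v (Subgroup.mem_zpowers v))
    have h3 : 1 < kap L v := by
      unfold kap
      rw [Finite.one_lt_card_iff_nontrivial]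
      refine ⟨⟨1, one_mem L, by simp⟩, ⟨a, haL (Subgroup.mem_zpowers a), hinv⟩, fun h => ?_⟩
      have h4 : (1 : G) = a := congrArg Subtype.val h
      rw [← h4, orderOf_one] at hal
      exact hl.out.one_lt.ne hal
    by_contra hnd
    rw [h1, Nat.factorization_eq_zero_of_not_dvd hnd, pow_zero] at h3
    exact lt_irrefl _ h3

/-! ### Counting involutions in subgroups -/

/-- Bender's counting theorem in a subgroup `C`: the number of involutions of `C` fixing `x` is the
number of elements of `C ∩ G_{xy}` inverted by an involution of `C` swapping `x` and `y`. -/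
theorem card_inv_eq_kap (hH : IsStronglyEmbedded H) {C : Subgroup G} {x y : G ⧸ H} (hxy : x ≠ y)
    {s u : G} (hsC : s ∈ C) (hs : s ∈ invs x x) (huC : u ∈ C) (hu : u ∈ invs x y) :
    Nat.card {v : G // v ∈ C ∧ orderOf v = 2 ∧ v • x = x} = kap (C ⊓ stab2 x y) u := by
  set K : Subgroup C := (MulAction.stabilizer G x).subgroupOf C with hK
  have hmemK : ∀ v : C, v ∈ K ↔ (v : G) • x = x := fun v => Iff.rfl
  have hux : u • x ≠ x := by rw [hu.2]; exact hxy.symm
  have hSE : IsStronglyEmbedded K :=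
    (uniqueFix_quotient hH).stronglyEmbedded_subgroup hsC hs.1 hs.2 huC hux
  have h1 := ncard_invs_eq hSE ((1 : C) : C ⧸ K) (((⟨u, huC⟩ : C)) : C ⧸ K)
  have hord : ∀ v : C, orderOf v = 2 ↔ orderOf (v : G) = 2 := fun v => by
    rw [Subgroup.orderOf_coe]
  have e1 : Nat.card {v : G // v ∈ C ∧ orderOf v = 2 ∧ v • x = x} =
      (invs ((1 : C) : C ⧸ K) ((1 : C) : C ⧸ K)).ncard := by
    rw [← Nat.card_coe_set_eq]
    refine Nat.card_congr ⟨fun v => ⟨⟨v.1, v.2.1⟩, (hord _).mpr v.2.2.1, ?_⟩,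
      fun v => ⟨v.1, v.1.2, (hord _).mp v.2.1, ?_⟩, fun v => rfl, fun v => rfl⟩
    · rw [smul_one_eq_iff, hmemK]; exact v.2.2.2
    · have h3 := v.2.2
      rw [smul_one_eq_iff, hmemK] at h3
      exact h3
  have e2 : (invs ((1 : C) : C ⧸ K) (((⟨u, huC⟩ : C)) : C ⧸ K)).ncard =
      kap (C ⊓ stab2 x y) u := by
    have hmem : ∀ v : C, v • ((1 : C) : C ⧸ K) = (((⟨u, huC⟩ : C)) : C ⧸ K) ↔
        (v : G) • x = y := by
      intro v
      have h3 : v • ((1 : C) : C ⧸ K) = ((v * 1 : C) : C ⧸ K) := rfl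
      rw [h3, mul_one, QuotientGroup.eq, hmemK]
      have h4 : ((v⁻¹ * ⟨u, huC⟩ : C) : G) = (v : G)⁻¹ * u := rfl
      rw [h4, mul_smul, inv_smul_eq_iff, hu.2, eq_comm]
    rw [← Nat.card_coe_set_eq]
    unfold kap
    have hui := inv_eq_self_of_orderOf hu.1
    have huu := mul_self_of_orderOf hu.1
    refine Nat.card_congr ⟨fun v => ⟨u * v.1, ?_, ?_⟩, fun d => ⟨⟨u * d.1, ?_⟩, ?_, ?_⟩, ?_, ?_⟩
    · have hv2 := (hord _).mp v.2.1
      have hvy := (hmem _).mp v.2.2
      have hvy' : (v.1 : G) • y = x := smul_of_involution hv2 hvy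
      refine ⟨mul_mem huC v.1.2, mem_stab2.mpr ⟨?_, ?_⟩⟩
      · rw [mul_smul, hvy, smul_of_mem_invs hu]
      · rw [mul_smul, hvy', hu.2]
    · have hv2 := (hord _).mp v.2.1
      have hvi := inv_eq_self_of_orderOf hv2
      rw [mul_inv_rev, hvi, hui, ← mul_assoc, huu, one_mul]
    · exact mul_mem huC d.2.1.1
    · rw [hord]
      show orderOf (u * d.1) = 2
      apply orderOf_eq_two_of_mul_self
      · have h1 := d.2.2
        calc u * d.1 * (u * d.1) = (u * d.1 * u⁻¹) * (u * u) * d.1 := by group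
          _ = 1 := by rw [h1, huu]; group
      · intro h
        have h1 : (u * d.1) • x = y := by rw [mul_smul, (mem_stab2.mp d.2.1.2).1, hu.2]
        rw [h, one_smul] at h1
        exact hxy h1
    · rw [hmem]
      show (u * d.1) • x = y
      rw [mul_smul, (mem_stab2.mp d.2.1.2).1, hu.2]
    · intro v
      apply Subtype.ext
      apply Subtype.ext
      show u * (u * (v.1 : G)) = v.1
      rw [← mul_assoc, huu, one_mul]
    · intro d
      apply Subtype.ext
      show u * (u * d.1) = d.1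
      rw [← mul_assoc, huu, one_mul]
  rw [e1, ← h1, e2]

/-- The number of involutions of a group `M` of 2-rank one. -/
theorem card_inv_eq_kap_core {M O : Subgroup G} (hO : Core M O) {s : G} (hsM : s ∈ M)
    (hs : orderOf s = 2) : Nat.card {v : G // v ∈ M ∧ orderOf v = 2} = kap O s := by
  unfold kap
  have hsi := inv_eq_self_of_orderOf hs
  have hss := mul_self_of_orderOf hs
  refine Nat.card_congr ⟨fun v => ⟨s * v.1, hO.prod s hsM v.1 v.2.1 hs v.2.2, ?_⟩,
    fun d => ⟨s * d.1, mul_mem hsM (hO.le d.2.1), ?_⟩, ?_, ?_⟩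
  · have hvi := inv_eq_self_of_orderOf v.2.2
    rw [mul_inv_rev, hvi, hsi, ← mul_assoc, hss, one_mul]
  · apply orderOf_eq_two_of_mul_self
    · have h1 := d.2.2
      calc s * d.1 * (s * d.1) = (s * d.1 * s⁻¹) * (s * s) * d.1 := by group
        _ = 1 := by rw [h1, hss]; group
    · intro h
      have h1 : d.1 = s := (eq_inv_of_mul_eq_one_right h).trans hsi
      exact not_odd_of_mem O s (h1 ▸ d.2.1) hs hO.odd
  · intro v
    apply Subtype.ext
    show s * (s * v.1) = v.1
    rw [← mul_assoc, hss, one_mul]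
  · intro d
    apply Subtype.ext
    show s * (s * d.1) = d.1
    rw [← mul_assoc, hss, one_mul]

/-! ### `Star` and `Cl` -/

/-- If `p` divides the number of involutions of a point stabilizer, `Star H p` holds. -/
theorem star_of_dvd_mm [IsSimpleGroup G] (h : ClaimN.Hyp H) {p : ℕ} [Fact p.Prime]
    (hp : p ∣ mm H) : Star H p := by
  have hH := h.se
  obtain ⟨s₀, t₀, h1, h2, h3, h4⟩ := h.comm
  obtain ⟨y, hy⟩ := exists_isMaxPair hH ((1 : G) : G ⧸ H)
  set x : G ⧸ H := ((1 : G) : G ⧸ H) with hx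
  have hxy : x ≠ y := hy.1
  obtain ⟨r, hr⟩ := exists_mem_invs_self hH x
  refine TwoFusion.BenderStar.star_of_dvd hH h1 h2 h3 h4 hxy hr ?_
  have e : stab2 x y ⊓ stab2 x (r • y) = stab2 x y ⊓ Subgroup.centralizer ({r} : Set G) := by
    ext d
    rw [Subgroup.mem_inf, Subgroup.mem_inf, mem_stab2, mem_stab2,
      Subgroup.mem_centralizer_singleton_iff]
    constructor
    · rintro ⟨⟨h5, h6⟩, -, h7⟩
      exact ⟨⟨h5, h6⟩, ClaimN.claimN h hxy hr h5 h6 h7⟩
    · rintro ⟨⟨h5, h6⟩, h7⟩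
      refine ⟨⟨h5, h6⟩, h5, ?_⟩
      rw [← mul_smul, h7, mul_smul, h6]
  rw [e]
  have h5 := card_stab2_swap hH hxy (exists_mem_invs hH x y).choose_spec
  have h6 := relIndex_mul_card (inf_le_left : stab2 x y ⊓ Subgroup.centralizer ({r} : Set G) ≤
    stab2 x y)
  have h7 : (stab2 x y ⊓ Subgroup.centralizer ({r} : Set G)).relIndex (stab2 x y) = mm H := by
    have h8 := ncard_invs hH x x
    have h9 := CoreCentral.ncard_mul_card (M := stab2 x y) (I := invs x x) (t := r)
      (fun d hd s hs => by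
        have hdx := (mem_stab2.mp hd).1
        refine ⟨by rw [orderOf_conj, hs.1], ?_⟩
        have h3 : d⁻¹ • x = x := by rw [inv_smul_eq_iff, hdx]
        rw [mul_smul, mul_smul, h3, hs.2, hdx])
      (fun s hs t ht => by
        obtain ⟨d, hd1, hd2, hd⟩ := exists_conj_of_fixes hH hxy hs ht
        exact ⟨d, mem_stab2.mpr ⟨hd1, hd2⟩, hd⟩) hr
    rw [h8, ← h6] at h9
    exact (Nat.eq_of_mul_eq_mul_right Nat.card_pos h9).symm
  rw [h7]; exact hp

/-- `Cl H P` holds for all `p`-subgroups `P`, for all primes `p`. -/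
theorem cl [IsSimpleGroup G] (h : ClaimN.Hyp H) {p : ℕ} [hp : Fact p.Prime] {P : Subgroup G}
    (hP : IsPGroup p P) : Cl H P := by
  by_cases hd : p ∣ mm H
  · have hs := star_of_dvd_mm h hd
    refine cl_of_good h.se hs ?_ hP
    intro U hU _ t ht htU w hw htw
    rw [Subgroup.mem_centralizer_iff]
    intro u hu
    exact (h.good p hp.out hs U hU t ht w htw (fun u hu => hw u hu)
      (forall_of_mem_normalizer htU) u hu).symm
  · exact cl_of_not_dvd h.se hd hP

/-! ### Involutions centralizing an element of prime order -/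

/-- Involutions fixing `x` and centralizing an element of prime order fixing `x` and another point
commute. -/
theorem commute_of_centralize [IsSimpleGroup G] (h : ClaimN.Hyp H)
    (hIH : ∀ (K : Type u) [Group K] [Finite K], Nat.card K < Nat.card G → BenderHolds K)
    {x y : G ⧸ H} (hxy : x ≠ y) {k : G} (hk : k ∈ stab2 x y) (hkp : (orderOf k).Prime) {s t : G}
    (hs : s ∈ invs x x) (ht : t ∈ invs x x) (hks : Commute k s) (hkt : Commute k t) :
    Commute s t := by
  have hH := h.se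
  have hUF := uniqueFix_quotient hH
  have hp : Fact (orderOf k).Prime := ⟨hkp⟩
  set P := Subgroup.zpowers k with hPdef
  have hP : IsPGroup (orderOf k) P := isPGroup_zpowers rfl
  have hfixP : ∀ z : G ⧸ H, k • z = z → z ∈ fixp H P := by
    intro z hz
    have : P ≤ MulAction.stabilizer G z := by rw [hPdef, Subgroup.zpowers_le]; exact hz
    exact fun d hd => this hd
  have hmemC : ∀ v : G, v ∈ Subgroup.centralizer (P : Set G) ↔ Commute k v := by
    intro v
    rw [Subgroup.mem_centralizer_iff]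
    constructor
    · exact fun hv => hv k (Subgroup.mem_zpowers k)
    · rintro hv _ ⟨n, rfl⟩
      exact (hv.zpow_left n).eq
  have hkx := (mem_stab2.mp hk).1
  have hky := (mem_stab2.mp hk).2
  have hsy : s • y ≠ y := fun e => hxy (hUF.eq hs.1 hs.2 e)
  have hsy' : k • s • y = s • y := by rw [← mul_smul, hks.eq, mul_smul, hky]
  have hsyx : s • y ≠ x := by
    intro e
    apply hxy
    have h1 : s • s • y = s • x := by rw [e]
    rw [← mul_smul, mul_self_of_orderOf hs.1, one_smul, hs.2] at h1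
    exact h1.symm
  have h3 : Three H P := ⟨x, hfixP x hkx, y, hfixP y hky, s • y, hfixP _ hsy', hxy, hsy.symm,
    hsyx.symm⟩
  obtain ⟨u, huC, hu2, hux⟩ := cl h hP h3 x (hfixP x hkx) y (hfixP y hky) hxy
  have hu : u ∈ invs x y := ⟨hu2, hux⟩
  set C := Subgroup.centralizer (P : Set G) with hC
  have hsC : s ∈ C := (hmemC s).mpr hks
  have htC : t ∈ C := (hmemC t).mpr hkt
  have hk1 : k ≠ 1 := by
    rintro rfl
    rw [orderOf_one] at hkp
    exact Nat.not_prime_one hkp
  by_cases hcomm : ∃ a ∈ C, ∃ b ∈ C, orderOf a = 2 ∧ orderOf b = 2 ∧ a ≠ b ∧ Commute a b ∧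
      a • x = x ∧ b • x = x
  · -- two commuting involutions: induction
    obtain ⟨a, haC, b, hbC, ha, hb, hab, hc, hax, hbx⟩ := hcomm
    have hcore : H.normalCore = ⊥ := normalCore_eq_bot_of_simple hH.1
    have hCtop : C ≠ ⊤ := by
      intro htop
      refine RGoodClimb.normalizer_ne_top hcore (J := P) ?_ (x := x) (hfixP x hkx) ?_
      · rw [hPdef, Ne, Subgroup.zpowers_eq_bot]; exact hk1
      · rw [eq_top_iff, ← htop]
        exact centralizer_le_normalizer P
    have hux' : u • x ≠ x := by rw [hux]; exact hxy.symm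
    have hG : Good C x := good_of_ih hIH hUF hCtop haC hbC ha hb hab hc hax huC hux'
    have hxo : x ∈ MulAction.orbit C x := MulAction.mem_orbit_self x
    have hyo : y ∈ MulAction.orbit C x := mem_orbit_subgroup.mpr ⟨u, huC, hux⟩
    have hsyo : s • y ∈ MulAction.orbit C x := smul_mem_orbit hsC hyo
    have htyo : t • y ∈ MulAction.orbit C x := smul_mem_orbit htC hyo
    have hc' := hG.inv_comm x hxo s hsC t htC hs.1 hs.2 ht.2 ⟨1, by rw [ht.1, pow_one]⟩
    set c := s * t * s⁻¹ * t⁻¹ with hcdef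
    have hcs : c * s = s * c := ClaimN.claimN h hxy hs (hG.core_smul c hc' x hxo)
      (hG.core_smul c hc' y hyo) (hG.core_smul c hc' _ hsyo)
    have hsi := inv_eq_self_of_orderOf hs.1
    have hti := inv_eq_self_of_orderOf ht.1
    have hss := mul_self_of_orderOf hs.1
    have hcinv : s * c * s⁻¹ = c⁻¹ := by
      rw [hcdef]
      calc s * (s * t * s⁻¹ * t⁻¹) * s⁻¹ = (s * s) * t * (s⁻¹ * t⁻¹ * s⁻¹) := by group
        _ = t * (s * t⁻¹ * s⁻¹) := by rw [hss, one_mul, hsi]
        _ = (s * t * s⁻¹ * t⁻¹)⁻¹ := by group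
    have hcc : c = c⁻¹ := by
      rw [← hcinv, ← hcs]; group
    have hcc1 : c * c = 1 := by
      nth_rewrite 2 [hcc]; exact mul_inv_cancel c
    have hc1 : c = 1 := by
      by_contra hne
      exact not_odd_of_mem _ c hc' (orderOf_eq_two_of_mul_self hcc1 hne) (odd_coreOf C)
    rw [hcdef] at hc1
    exact mul_inv_eq_iff_eq_mul.mp (mul_inv_eq_one.mp hc1)
  · -- 2-rank one
    push Not at hcomm
    by_contra hst
    have hne : s ≠ t := fun e => hst (by rw [e])
    set M := C ⊓ MulAction.stabilizer G x with hM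
    have hsM : s ∈ M := ⟨hsC, hs.2⟩
    have htM : t ∈ M := ⟨htC, ht.2⟩
    obtain ⟨O, hO⟩ := TwoFusion.BenderStar.coreHyp G M ⟨s, hsM, hs.1⟩ (by
      intro a ha b hb ha2 hb2 hab
      by_contra hab'
      exact hcomm a ha.1 b hb.1 ha2 hb2 hab' hab ha.2 hb.2)
    have hwO : s * t ∈ O := hO.prod s hsM t htM hs.1 ht.1
    have hw1 : s * t ≠ 1 := by
      intro e
      apply hne
      have := eq_inv_of_mul_eq_one_left e
      rw [this, inv_eq_self_of_orderOf ht.1]
    have hsi := inv_eq_self_of_orderOf hs.1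
    have hti := inv_eq_self_of_orderOf ht.1
    have hss := mul_self_of_orderOf hs.1
    have hwinv : s * (s * t) * s⁻¹ = (s * t)⁻¹ := by
      rw [mul_inv_rev, hti, hsi, ← mul_assoc, hss, one_mul]
    -- a power of prime order
    obtain ⟨l, hl, hdvd⟩ := Nat.exists_prime_and_dvd (n := orderOf (s * t))
      (fun e => hw1 (orderOf_eq_one_iff.mp e))
    have hlF : Fact l.Prime := ⟨hl⟩
    obtain ⟨j, hj⟩ := hdvd
    have hj0 : j ≠ 0 := by
      rintro rfl
      rw [mul_zero] at hj
      exact (orderOf_pos (s * t)).ne' hj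
    set a := (s * t) ^ j with ha
    have hal : orderOf a = l := by
      rw [ha, orderOf_pow' _ hj0, hj, Nat.gcd_eq_right (Dvd.intro_left l rfl),
        Nat.mul_div_cancel _ (Nat.pos_of_ne_zero hj0)]
    have haO : a ∈ O := pow_mem hwO j
    have hainv : s * a * s⁻¹ = a⁻¹ := by
      rw [ha]
      have h2 : s * (s * t) ^ j * s⁻¹ = (s * (s * t) * s⁻¹) ^ j := by rw [conj_pow]
      rw [h2, hwinv, inv_pow]
    have hsO : ∀ o ∈ O, s * o * s⁻¹ ∈ O := hO.conj s hsM
    -- count
    have hd1 : l ∣ kap O s := (dvd_kap_iff hO.odd hs.1 hsO).mpr ⟨a, haO, hal, hainv⟩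
    have e1 := card_inv_eq_kap_core hO hsM hs.1
    have e2 := card_inv_eq_kap hH hxy hsC hs huC hu
    have e3 : Nat.card {v : G // v ∈ M ∧ orderOf v = 2} =
        Nat.card {v : G // v ∈ C ∧ orderOf v = 2 ∧ v • x = x} := by
      refine Nat.card_congr (Equiv.subtypeEquivRight fun v => ?_)
      constructor
      · rintro ⟨⟨h1, h2⟩, h4⟩
        exact ⟨h1, h4, h2⟩
      · rintro ⟨h1, h2, h4⟩
        exact ⟨⟨h1, h4⟩, h2⟩
    rw [← e1, e3, e2] at hd1
    have hCodd : Odd (Nat.card ↥(C ⊓ stab2 x y)) :=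
      Odd.of_dvd_nat (odd_stab2 hH hxy) (Subgroup.card_dvd_of_le inf_le_right)
    have huCs : ∀ d ∈ C ⊓ stab2 x y, u * d * u⁻¹ ∈ C ⊓ stab2 x y := fun d hd =>
      ⟨C.mul_mem (C.mul_mem huC hd.1) (C.inv_mem huC), swap_normalizes hu d hd.2⟩
    obtain ⟨b, hb, hbl, hbinv⟩ := (dvd_kap_iff hCodd hu2 huCs).mp hd1
    have hd2 : l ∣ mm H := by
      rw [← kap_stab2 hH hxy hu]
      exact (dvd_kap_iff (odd_stab2 hH hxy) hu2 (swap_normalizes hu)).mpr ⟨b, hb.2, hbl, hbinv⟩
    have hstar := star_of_dvd_mm h hd2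
    obtain ⟨c, hxc, hc⟩ := RGoodBasic.exists_other_fixed hH hstar (isPGroup_zpowers hal) x
    have hac : a • c = c := hc a (Subgroup.mem_zpowers a)
    have hax : a • x = x := (hO.le haO).2
    have ha1 := ClaimN.eq_one_of_inverted_fix h (a := c) (g := x) hxc.symm hs hax hac hainv
    rw [ha1, orderOf_one] at hal
    exact hl.one_lt.ne hal

/-! ### The main result -/

/-- **Big case of Bender's theorem**: all involutions fixing a point commute. -/
theorem commute_of_hyp [IsSimpleGroup G] (h : ClaimN.Hyp H)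
    (hIH : ∀ (K : Type u) [Group K] [Finite K], Nat.card K < Nat.card G → BenderHolds K)
    (x : G ⧸ H) (s t : G) (hs : orderOf s = 2) (ht : orderOf t = 2) (hsx : s • x = x)
    (htx : t • x = x) : Commute s t := by
  have hH := h.se
  have hUF := uniqueFix_quotient hH
  obtain ⟨s₀, t₀, h1, h2, h3, h4⟩ := h.comm
  -- another point
  obtain ⟨y, hxy⟩ : ∃ y : G ⧸ H, x ≠ y := by
    obtain ⟨y, hy⟩ := exists_isMaxPair hH x
    exact ⟨y, hy.1⟩
  obtain ⟨v, hv⟩ := exists_mem_invs hH x y
  have hvv := mul_self_of_orderOf hv.1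
  have hvi := inv_eq_self_of_orderOf hv.1
  set X := MulAction.stabilizer G x with hX
  set D : Subgroup X := (stab2 x y).subgroupOf X with hD
  have hmemD : ∀ d : X, d ∈ D ↔ (d : G) ∈ stab2 x y := fun d => Iff.rfl
  have hDle : stab2 x y ≤ X := inf_le_left
  have hDcard : Nat.card D = Nat.card (stab2 x y) :=
    Nat.card_congr (Subgroup.subgroupOfEquivOfLe hDle).toEquiv
  have hDodd : Odd (Nat.card D) := by rw [hDcard]; exact odd_stab2 hH hxy
  have hord : ∀ v : X, orderOf v = 2 ↔ orderOf (v : G) = 2 := fun v => by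
    rw [Subgroup.orderOf_coe]
  have hsol : Group.IsSolvable D := by
    have h5 := h.solv (stab2 x y) (odd_stab2 hH hxy)
    exact Group.isSolvable_of_isSolvable_injective
      (f := (Subgroup.subgroupOfEquivOfLe hDle).toMonoidHom)
      (Subgroup.subgroupOfEquivOfLe hDle).injective
  -- conjugation by `v`
  have hvD : ∀ d ∈ stab2 x y, v * d * v⁻¹ ∈ stab2 x y := swap_normalizes hv
  let w : D ≃* D :=
    { toFun := fun d => ⟨⟨v * (d : X) * v⁻¹, hDle (hvD _ d.2)⟩, hvD _ d.2⟩
      invFun := fun d => ⟨⟨v * (d : X) * v⁻¹, hDle (hvD _ d.2)⟩, hvD _ d.2⟩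
      left_inv := fun d => by
        apply Subtype.ext; apply Subtype.ext
        show v * (v * ((d : X) : G) * v⁻¹) * v⁻¹ = ((d : X) : G)
        calc v * (v * ((d : X) : G) * v⁻¹) * v⁻¹ = (v * v) * ((d : X) : G) * (v * v)⁻¹ := by group
          _ = ((d : X) : G) := by rw [hvv]; group
      right_inv := fun d => by
        apply Subtype.ext; apply Subtype.ext
        show v * (v * ((d : X) : G) * v⁻¹) * v⁻¹ = ((d : X) : G)
        calc v * (v * ((d : X) : G) * v⁻¹) * v⁻¹ = (v * v) * ((d : X) : G) * (v * v)⁻¹ := by group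
          _ = ((d : X) : G) := by rw [hvv]; group
      map_mul' := fun a b => by
        apply Subtype.ext; apply Subtype.ext
        show v * (((a : X) : G) * ((b : X) : G)) * v⁻¹ =
          (v * ((a : X) : G) * v⁻¹) * (v * ((b : X) : G) * v⁻¹)
        group }
  have hwcoe : ∀ d : D, (((w d : D) : X) : G) = v * ((d : X) : G) * v⁻¹ := fun d => rfl
  have hwinv : ∀ d : D, w d = d⁻¹ ↔ v * ((d : X) : G) * v⁻¹ = ((d : X) : G)⁻¹ := by
    intro d
    constructor
    · intro e
      rw [← hwcoe, e]; rfl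
    · intro e
      apply Subtype.ext; apply Subtype.ext
      rw [hwcoe, e]; rfl
  -- the two sets of the counting theorem
  have hsurj : ∀ a ∈ invs x x, (fun w => (v * w) * a * (v * w)⁻¹) '' invs x y = invs x x := by
    intro a ha
    refine Set.eq_of_subset_of_ncard_le ?_ ?_ (invs_finite x x)
    · rintro _ ⟨w, hw, rfl⟩
      exact conj_mem_invs hv hw ha
    · rw [Set.ncard_image_of_injOn (conj_injOn hH hxy hv ha), ncard_invs_eq hH x y]
  have key := TheoremZ.theoremZ (H := X) D hDodd hsol ?_ ?_ ?_ w ?_ ?_ ?_ ?_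
    ⟨s, hsx⟩ ⟨t, htx⟩ ((hord _).mpr hs) ((hord _).mpr ht)
  · exact congrArg Subtype.val key
  · -- transitivity of `D` on the involutions
    intro a b ha hb
    obtain ⟨d, hd1, hd2, hd⟩ := exists_conj_of_fixes hH hxy (s := (a : G)) (s' := (b : G))
      ⟨(hord _).mp ha, a.2⟩ ⟨(hord _).mp hb, b.2⟩
    have hdD : d ∈ stab2 x y := mem_stab2.mpr ⟨hd1, hd2⟩
    exact ⟨⟨d, hd1⟩, hdD, Subtype.ext hd⟩
  · -- a commuting pair
    obtain ⟨r, hr⟩ := exists_mem_invs_self hH x
    obtain ⟨a, b, ha, hb, hab, hc, hax, hbx⟩ :=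
      exists_commuting_of_fix hUF ⟨s₀, t₀, h1, h2, h4, h3⟩ hr.1 hr.2
    exact commPair_subgroup hax hbx ha hb hab hc
  · -- involutions centralizing elements of prime order
    intro k hk hkp a b ha hb hka hkb
    have hkp' : (orderOf ((k : X) : G)).Prime := by rw [Subgroup.orderOf_coe]; exact hkp
    have h5 := commute_of_centralize h hIH hxy (k := (k : G)) hk hkp' (s := (a : G)) (t := (b : G))
      ⟨(hord _).mp ha, a.2⟩ ⟨(hord _).mp hb, b.2⟩ (congrArg Subtype.val hka)
      (congrArg Subtype.val hkb)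
    exact Subtype.ext h5
  · intro d
    exact w.left_inv d
  · -- the count
    have e1 : Nat.card {k : D // w k = k⁻¹} = kap (stab2 x y) v := by
      unfold kap
      refine Nat.card_congr ⟨fun k => ⟨((k.1 : X) : G), k.1.2, (hwinv _).mp k.2⟩,
        fun k => ⟨⟨⟨k.1, hDle k.2.1⟩, k.2.1⟩, (hwinv _).mpr k.2.2⟩, fun k => rfl, fun k => rfl⟩
    have e2 : Nat.card {s : X // orderOf s = 2} = (invs x x).ncard := by
      rw [← Nat.card_coe_set_eq]
      exact Nat.card_congr ⟨fun a => ⟨(a.1 : G), (hord _).mp a.2, a.1.2⟩,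
        fun a => ⟨⟨a.1, a.2.2⟩, (hord _).mpr a.2.1⟩, fun a => rfl, fun a => rfl⟩
    rw [e1, e2, kap_stab2 hH hxy hv, ncard_invs hH]
  · -- transitivity of the inverted elements
    intro a b ha hb
    have hb' : (b : G) ∈ invs x x := ⟨(hord _).mp hb, b.2⟩
    rw [← hsurj (a : G) ⟨(hord _).mp ha, a.2⟩] at hb'
    obtain ⟨r, hr, hrb⟩ := hb'
    have hvr : v * r ∈ stab2 x y := by
      rw [mem_stab2]
      constructor
      · rw [mul_smul, hr.2, smul_of_mem_invs hv]
      · rw [mul_smul, smul_of_mem_invs hr, hv.2]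
    refine ⟨⟨⟨v * r, hDle hvr⟩, hvr⟩, ?_, Subtype.ext hrb⟩
    rw [hwinv]
    show v * (v * r) * v⁻¹ = (v * r)⁻¹
    have hri := inv_eq_self_of_orderOf hr.1
    rw [mul_inv_rev, hri, hvi, ← mul_assoc, hvv, one_mul]
  · -- elements fixed by `w`
    intro k hkp hwk
    have hkp' : (orderOf (((k : D) : X) : G)).Prime := by
      rw [Subgroup.orderOf_coe, Subgroup.orderOf_coe]; exact hkp
    set k' : G := ((k : X) : G) with hk'
    have hkD : k' ∈ stab2 x y := k.2
    have hvk : v * k' * v⁻¹ = k' := by rw [← hwcoe, hwk]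
    have hvk' : Commute k' v := (mul_inv_eq_iff_eq_mul.mp hvk).symm
    have hpF : Fact (orderOf k').Prime := ⟨hkp'⟩
    obtain ⟨g, hg⟩ := exists_smul_eq hH hv.1
    have hkg : k' • g = g := hUF.fix_of_commute hv.1 hg hvk'
    have hgx : g ≠ x := by
      rintro rfl
      rw [hv.2] at hg
      exact hxy hg.symm
    have hgy : g ≠ y := by
      rintro rfl
      have h5 := smul_of_mem_invs hv
      rw [hg] at h5
      exact hxy h5.symm
    set P := Subgroup.zpowers k' with hP
    have hfixP : ∀ z : G ⧸ H, k' • z = z → z ∈ fixp H P := by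
      intro z hz
      have : P ≤ MulAction.stabilizer G z := by rw [hP, Subgroup.zpowers_le]; exact hz
      exact fun d hd => this hd
    have hxP := hfixP x (mem_stab2.mp hkD).1
    have hyP := hfixP y (mem_stab2.mp hkD).2
    have h3' : Three H P := ⟨x, hxP, y, hyP, g, hfixP g hkg, hxy, hgy.symm, hgx.symm⟩
    have hPp : IsPGroup (orderOf k') P := isPGroup_zpowers rfl
    have hPodd : Odd (Nat.card P) := by
      have : P ≤ stab2 x y := by rw [hP, Subgroup.zpowers_le]; exact hkD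
      exact Odd.of_dvd_nat (odd_stab2 hH hxy) (Subgroup.card_dvd_of_le this)
    obtain ⟨z, hz, hz2, hzx⟩ := exists_fix_of_cl hH hPodd (cl h hPp) h3' hxP
    refine ⟨⟨z, hzx⟩, (hord _).mpr hz2, ?_⟩
    exact Subtype.ext (Subgroup.mem_centralizer_iff.mp hz k' (Subgroup.mem_zpowers k'))

/-- **Big case of Bender's theorem**, from the hypotheses of the induction. -/
theorem commute_of_big [IsSimpleGroup G]
    (hFT : ∀ (K : Type u) [Group K] [Finite K], Odd (Nat.card K) → Group.IsSolvable K)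
    (hIH : ∀ (K : Type u) [Group K] [Finite K], Nat.card K < Nat.card G → BenderHolds K)
    (hH : IsStronglyEmbedded H) (hr : CommPair G)
    (hbig : ∀ x y : G ⧸ H, x ≠ y → Subgroup.closure (invs x x ∪ invs y y) = ⊤) :
    ∀ (x : G ⧸ H) (s t : G), orderOf s = 2 → orderOf t = 2 → s • x = x → t • x = x →
      Commute s t := fun x s t hs ht hsx htx =>
  commute_of_hyp (RGood.hyp_of_big hFT hIH hH hr hbig) hIH x s t hs ht hsx htx

/-- In the induction step of Bender's theorem all involutions fixing a point commute. -/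
theorem commute_step [IsSimpleGroup G]
    (hFT : ∀ (K : Type u) [Group K] [Finite K], Odd (Nat.card K) → Group.IsSolvable K)
    (hIH : ∀ (K : Type u) [Group K] [Finite K], Nat.card K < Nat.card G → BenderHolds K)
    (hH : IsStronglyEmbedded H) (hr : CommPair G) :
    ∀ (x : G ⧸ H) (s t : G), orderOf s = 2 → orderOf t = 2 → s • x = x → t • x = x →
      Commute s t := by
  rcases CaseSplit.big_or_comm hH hr (CaseSplit.twoTrans hH hr)
    (normalCore_eq_bot_of_simple hH.1) hIH hFT with hbig | hcomm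
  · exact commute_of_big hFT hIH hH hr hbig
  · exact hcomm

end Cfsg.Agent.StrongEmb.BigComm
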