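import Mathlib
import Cfsg.Agent.TwoFusion.BenderStar
import Cfsg.Agent.StrongEmb.ClP
import Cfsg.Agent.StrongEmb.CoreCentral
import Cfsg.Agent.StrongEmb.Frame
import Cfsg.Agent.StrongEmb.TheoremZ
import Cfsg.Agent.Lib.PGroupCoprimeAction

/-!
# Bender's theorem: Claim N implies that the involutions fixing a point commute

`ClaimN H`: an involution `s` fixing the point `a` centralises every element fixing `a`, `b` and
`s • b`, for `b ≠ a` (points = cosets of the strongly embedded subgroup `H`).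
`comm_of_claimN`: Claim N, Bender's theorem for smaller groups and the solvability of groups of odd
order imply that any two involutions fixing the same point commute.
-/

set_option autoImplicit false

universe u

namespace Cfsg.Agent.StrongEmb.CaseOneEnd

open Cfsg MulAction Cfsg.Agent.TwoFusion.StronglyEmbeddedBasic
open Cfsg.Agent.SignalizersComponents.BenderCount
open Cfsg.Agent.SignalizersComponents.BenderPerfect
open Cfsg.Agent.Blocks.SylowIn
open Cfsg.Agent.TwoFusion.BenderTwoTrans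
open Cfsg.Agent.TwoFusion.BenderStar
open Cfsg.Agent.StrongEmb.Basic Cfsg.Agent.StrongEmb.TwoRank Cfsg.Agent.StrongEmb.Split
open Cfsg.Agent.StrongEmb.Frame Cfsg.Agent.StrongEmb.CoreCentral
open Cfsg.Agent.StrongEmb.ClP

/-- **Claim N** (helper99). -/
def ClaimN {G : Type*} [Group G] (H : Subgroup G) : Prop :=
  ∀ s : G, orderOf s = 2 → ∀ a b : G ⧸ H, s • a = a → b ≠ a → ∀ d : G, d • a = a → d • b = b →
    d • (s • b) = s • b → Commute d s

section Main

variable {G : Type*} [Group G] [Finite G] {H : Subgroup G}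

/-- Under Claim N the property `Star` holds for all primes dividing the number of involutions
fixing a point. -/
theorem star_of_claimN (hH : IsStronglyEmbedded H) (hr : CommPair G) (hN : ClaimN H) {p : ℕ}
    [Fact p.Prime] (hdvd : p ∣ mm H) : Star H p := by
  obtain ⟨s, t, hs, ht, hne, hst⟩ := hr
  obtain ⟨y, hy⟩ := exists_isMaxPair hH ((1 : G) : G ⧸ H)
  obtain ⟨r, hr⟩ := exists_mem_invs_self hH ((1 : G) : G ⧸ H)
  refine star_of_dvd hH hs ht hst hne hy.1 hr ?_
  set x := ((1 : G) : G ⧸ H) with hx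
  have h1 : stab2 x y ⊓ stab2 x (r • y) = stab2 x y ⊓ Subgroup.centralizer ({r} : Set G) := by
    ext g
    rw [Subgroup.mem_inf, Subgroup.mem_inf, mem_stab2, mem_stab2,
      Subgroup.mem_centralizer_singleton_iff]
    constructor
    · rintro ⟨⟨h1, h2⟩, -, h3⟩
      exact ⟨⟨h1, h2⟩, hN r hr.1 x y hr.2 hy.1.symm g h1 h2 h3⟩
    · rintro ⟨⟨h1, h2⟩, h3⟩
      refine ⟨⟨h1, h2⟩, h1, ?_⟩
      rw [← mul_smul, h3, mul_smul, h2]
  rw [h1]
  have h2 := relIndex_mul_card (K := stab2 x y ⊓ Subgroup.centralizer ({r} : Set G))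
    (D := stab2 x y) inf_le_left
  have h3 := card_stab2_fix hH (x := y) (z := x) hy.1.symm hr
  rw [stab2_comm] at h3
  rw [← h2] at h3
  rw [← Nat.eq_of_mul_eq_mul_right Nat.card_pos h3]
  exact hdvd

/-- Under Claim N any two of at least three fixed points of a `p`-group are interchanged by an
involution centralising it. -/
theorem cl_of_claimN (hH : IsStronglyEmbedded H) (hr : CommPair G) (hN : ClaimN H) {p : ℕ}
    [Fact p.Prime] {P : Subgroup G} (hP : IsPGroup p P) : Cl H P := by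
  by_cases hdvd : p ∣ mm H
  · refine cl_of_good hH (star_of_claimN hH hr hN hdvd) ?_ hP
    intro U hU h3 t ht htU w hw htw
    obtain ⟨b, hb, -, -, hbw, -⟩ := h3.exists_two w
    rw [Subgroup.mem_centralizer_iff]
    intro u hu
    exact (hN t ht w b htw hbw u (hw u hu) (hb u hu) (le_stab2 hb htU u hu)).eq
  · exact cl_of_not_dvd hH hdvd hP

omit [Finite G] in
theorem isPGroup_zpowers {p : ℕ} {y : G} (hy : orderOf y = p) :
    IsPGroup p (Subgroup.zpowers y) := by
  apply IsPGroup.of_card (n := 1)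
  rw [Nat.card_zpowers, hy, pow_one]

omit [Finite G] in
theorem fixp_zpowers {y : G} {c : G ⧸ H} : c ∈ fixp H (Subgroup.zpowers y) ↔ y • c = c := by
  constructor
  · intro h
    exact h y (Subgroup.mem_zpowers y)
  · intro h d hd
    have h1 : Subgroup.zpowers y ≤ stabilizer G c := by
      rw [Subgroup.zpowers_le]; exact h
    exact h1 hd

omit [Finite G] in
theorem mem_centralizer_zpowers {y g : G} :
    g ∈ Subgroup.centralizer ((Subgroup.zpowers y : Subgroup G) : Set G) ↔ Commute g y := by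
  rw [S1287.centralizer_zpowers, Subgroup.mem_centralizer_singleton_iff]
  rfl

/-- Property (b): an element of prime order fixing `a` and `b` and commuting with an involution
interchanging them commutes with an involution fixing `a`. -/
theorem exists_commute_fix (hH : IsStronglyEmbedded H) (hr : CommPair G) (hN : ClaimN H)
    {a b : G ⧸ H} (hab : a ≠ b) {v : G} (hv : v ∈ invs a b) {y : G} (hy : (orderOf y).Prime)
    (hya : y • a = a) (hyb : y • b = b) (hyv : Commute y v) :
    ∃ s, s ∈ invs a a ∧ Commute y s := by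
  have hpF : Fact (orderOf y).Prime := ⟨hy⟩
  have hP : IsPGroup (orderOf y) (Subgroup.zpowers y) := isPGroup_zpowers rfl
  obtain ⟨z, hz⟩ := exists_smul_eq hH hv.1
  have hyz : y • z = z := by
    refine eq_of_smul_eq hH hv.1 ?_ hz
    rw [← mul_smul, ← hyv.eq, mul_smul, hz]
  have haz : a ≠ z := by
    rintro rfl
    exact hab (hz.symm.trans hv.2)
  have hbz : b ≠ z := by
    rintro rfl
    have := smul_of_mem_invs hv
    exact hab (this.symm.trans hz)
  have h3 : Three H (Subgroup.zpowers y) := ⟨a, fixp_zpowers.mpr hya, b, fixp_zpowers.mpr hyb, z,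
    fixp_zpowers.mpr hyz, hab, hbz, haz⟩
  have hodd : Odd (Nat.card (Subgroup.zpowers y)) := by
    refine odd_of_fixes_two hH hab _ fun d hd => ⟨fixp_zpowers.mpr hya d hd, fixp_zpowers.mpr hyb d hd⟩
  obtain ⟨s, hs, hs2, hsa⟩ := exists_fix_of_cl hH hodd (cl_of_claimN hH hr hN hP) h3
    (fixp_zpowers.mpr hya)
  exact ⟨s, ⟨hs2, hsa⟩, (mem_centralizer_zpowers.mp hs).symm⟩

/-- In a subgroup containing an involution `v` interchanging `a` and `b`, two involutions fixing
`a` are conjugate by an element fixing `a` and `b` and inverted by `v`. -/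
theorem exists_conj_inverted (hH : IsStronglyEmbedded H) {a b : G ⧸ H} (hab : a ≠ b)
    {C : Subgroup G} {v : G} (hv : v ∈ invs a b) (hvC : v ∈ C) {s t : G} (hs : s ∈ invs a a)
    (hsC : s ∈ C) (ht : t ∈ invs a a) (htC : t ∈ C) :
    ∃ d ∈ C, d • a = a ∧ d • b = b ∧ v * d * v⁻¹ = d⁻¹ ∧ d * s * d⁻¹ = t := by
  have hvb := smul_of_mem_invs hv
  have hs' : orderOf (v * s * v⁻¹) = 2 := by rw [orderOf_conj]; exact hs.1
  have hvi := inv_eq_self_of_orderOf hv.1
  have hsb : (v * s * v⁻¹) • b = b := by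
    rw [hvi, mul_smul, mul_smul, hvb, hs.2, hv.2]
  obtain ⟨j, hj, hj2, h1, -, hjb, hja⟩ := (uniqueFix_quotient hH).exists_swap hs' ht.1 hab.symm hsb
    ht.2
  have hjC : j ∈ C := by
    have h2 : Subgroup.closure ({v * s * v⁻¹, t} : Set G) ≤ C := by
      rw [Subgroup.closure_le]
      rintro g (rfl | hg)
      · exact C.mul_mem (C.mul_mem hvC hsC) (C.inv_mem hvC)
      · rw [Set.mem_singleton_iff] at hg
        rw [hg]; exact htC
    exact h2 hj
  have hji := inv_eq_self_of_orderOf hj2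
  refine ⟨j * v, C.mul_mem hjC hvC, by rw [mul_smul, hv.2, hjb], by rw [mul_smul, hvb, hja], ?_, ?_⟩
  · rw [mul_inv_rev, hvi, hji]
    calc v * (j * v) * v = v * j * (v * v) := by group
      _ = v * j := by rw [mul_self_of_orderOf hv.1, mul_one]
  · rw [← h1]; group

/-- The numbers of involutions of `C` fixing `a` and of those mapping `a` to `b` are equal, if there
are any of both kinds. -/
theorem ncard_inf_eq (hH : IsStronglyEmbedded H) {a b : G ⧸ H} (hab : a ≠ b)
    {C : Subgroup G} {v : G} (hv : v ∈ invs a b) (hvC : v ∈ C) {s : G} (hs : s ∈ invs a a)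
    (hsC : s ∈ C) : (invs a b ∩ (C : Set G)).ncard = (invs a a ∩ (C : Set G)).ncard := by
  have himg : (fun w => (v * w) * s * (v * w)⁻¹) '' (invs a b ∩ (C : Set G)) =
      invs a a ∩ (C : Set G) := by
    ext t
    constructor
    · rintro ⟨w, ⟨hw, hwC⟩, rfl⟩
      exact ⟨conj_mem_invs hv hw hs, C.mul_mem (C.mul_mem (C.mul_mem hvC hwC) hsC)
        (C.inv_mem (C.mul_mem hvC hwC))⟩
    · rintro ⟨ht, htC⟩
      obtain ⟨d, hdC, hda, hdb, hvd, hd⟩ := exists_conj_inverted hH hab hv hvC hs hsC ht htC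
      have hvv := mul_self_of_orderOf hv.1
      have hvi := inv_eq_self_of_orderOf hv.1
      refine ⟨v * d, ⟨⟨?_, by rw [mul_smul, hda, hv.2]⟩, C.mul_mem hvC hdC⟩, ?_⟩
      · apply orderOf_eq_two_of_mul_self
        · calc v * d * (v * d) = (v * d * v⁻¹) * (v * v) * d := by group
            _ = 1 := by rw [hvd, hvv]; group
        · intro h1
          have h2 : (v * d) • a = b := by rw [mul_smul, hda, hv.2]
          rw [h1, one_smul] at h2
          exact hab h2
      · have e : v * (v * d) = d := by rw [← mul_assoc, hvv, one_mul]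
        simp only [e]
        exact hd
  rw [← himg, Set.InjOn.ncard_image]
  exact (conj_injOn hH hab hv hs).mono Set.inter_subset_left

/-- `C ∩ G_a ∩ G_b` is transitive on the involutions of `C` interchanging `a` and `b`. -/
theorem exists_conj_swap (hH : IsStronglyEmbedded H) {a b : G ⧸ H} (hab : a ≠ b)
    {C : Subgroup G} {u v : G} (hu : u ∈ invs a b) (huC : u ∈ C) (hv : v ∈ invs a b)
    (hvC : v ∈ C) : ∃ d ∈ C ⊓ stab2 a b, d * u * d⁻¹ = v := by
  have hub := smul_of_mem_invs hu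
  have hvb := smul_of_mem_invs hv
  have hodd : Odd (orderOf (u * v)) := by
    have h1 : u * v ∈ stab2 a b := mem_stab2.mpr ⟨by rw [mul_smul, hv.2, hub], by
      rw [mul_smul, hvb, hu.2]⟩
    exact (odd_stab2 hH hab).of_dvd_nat ((stab2 a b).orderOf_dvd_natCard h1)
  obtain ⟨j, hj, hj2, h1, -⟩ := exists_swap u v hu.1 hv.1 hodd
  have hjC : j ∈ C := by
    have h2 : Subgroup.closure ({u, v} : Set G) ≤ C := by
      rw [Subgroup.closure_le]
      rintro g (rfl | hg)
      · exact huC
      · rw [Set.mem_singleton_iff] at hg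
        rw [hg]; exact hvC
    exact h2 hj
  have hperm : ∀ g ∈ Subgroup.closure ({u, v} : Set G),
      (g • a = a ∧ g • b = b) ∨ (g • a = b ∧ g • b = a) := by
    intro g hg
    induction hg using Subgroup.closure_induction with
    | mem x hx =>
      rcases hx with rfl | hx
      · exact Or.inr ⟨hu.2, hub⟩
      · rw [Set.mem_singleton_iff] at hx
        rw [hx]; exact Or.inr ⟨hv.2, hvb⟩
    | one => exact Or.inl ⟨one_smul _ _, one_smul _ _⟩
    | mul x y _ _ hx hy =>
      rcases hx with ⟨h1, h2⟩ | ⟨h1, h2⟩ <;> rcases hy with ⟨h3, h4⟩ | ⟨h3, h4⟩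
      · exact Or.inl ⟨by rw [mul_smul, h3, h1], by rw [mul_smul, h4, h2]⟩
      · exact Or.inr ⟨by rw [mul_smul, h3, h2], by rw [mul_smul, h4, h1]⟩
      · exact Or.inr ⟨by rw [mul_smul, h3, h1], by rw [mul_smul, h4, h2]⟩
      · exact Or.inl ⟨by rw [mul_smul, h3, h2], by rw [mul_smul, h4, h1]⟩
    | inv x _ hx =>
      rcases hx with ⟨h1, h2⟩ | ⟨h1, h2⟩
      · exact Or.inl ⟨by rw [inv_smul_eq_iff, h1], by rw [inv_smul_eq_iff, h2]⟩
      · exact Or.inr ⟨by rw [inv_smul_eq_iff, h2], by rw [inv_smul_eq_iff, h1]⟩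
  rcases hperm j hj with ⟨h2, h3⟩ | ⟨h2, h3⟩
  · exact absurd (eq_of_smul_eq hH hj2 h2 h3) hab
  · refine ⟨j * u, ⟨C.mul_mem hjC huC, mem_stab2.mpr ⟨by rw [mul_smul, hu.2, h3], by
      rw [mul_smul, hub, h2]⟩⟩, ?_⟩
    rw [← h1]; group

/-- A prime factor of the order. -/
theorem exists_prime_pow {w : G} (hw : w ≠ 1) :
    ∃ (l m : ℕ), l.Prime ∧ l ∣ orderOf w ∧ orderOf (w ^ m) = l := by
  obtain ⟨q, hq, hqd⟩ := Nat.exists_prime_and_dvd (n := orderOf w)
    (fun h => hw (orderOf_eq_one_iff.mp h))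
  obtain ⟨m, hm⟩ := hqd
  have hm0 : m ≠ 0 := by
    rintro rfl
    rw [mul_zero] at hm
    exact (orderOf_pos w).ne' hm
  refine ⟨q, m, hq, ⟨m, hm⟩, ?_⟩
  rw [orderOf_pow_of_dvd hm0 (Dvd.intro_left q hm.symm), hm,
    Nat.mul_div_cancel _ (Nat.pos_of_ne_zero hm0)]

omit [Finite G] in
/-- An element of odd order commuting with and inverted by an involution is trivial. -/
theorem eq_one_of_commute_inverted {c s : G} (hc : Odd (orderOf c)) (hcs : Commute c s)
    (hinv : s * c * s⁻¹ = c⁻¹) : c = 1 := by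
  have h1 : c = c⁻¹ := by
    rw [← hinv]
    calc c = c * s * s⁻¹ := by group
      _ = s * c * s⁻¹ := by rw [hcs.eq]
  by_contra hne
  have h2 : orderOf c = 2 := orderOf_eq_two_of_mul_self (by
    nth_rewrite 2 [h1]; exact mul_inv_cancel c) hne
  rw [h2] at hc
  exact absurd hc (by decide)

/-- The 2-rank one case: a subgroup `C` with only one class of involutions modulo its core. -/
theorem eq_of_not_commPair (hH : IsStronglyEmbedded H) (hr : CommPair G) (hN : ClaimN H)
    {a b : G ⧸ H} (hab : a ≠ b) {C : Subgroup G} (hC : ¬ CommPair C) {v s t : G}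
    (hv : v ∈ invs a b) (hvC : v ∈ C) (hs : s ∈ invs a a) (hsC : s ∈ C) (ht : t ∈ invs a a)
    (htC : t ∈ C) : s = t := by
  have h2F : Fact (Nat.Prime 2) := ⟨Nat.prime_two⟩
  by_contra hne
  have hss := mul_self_of_orderOf hs.1
  have hsi := inv_eq_self_of_orderOf hs.1
  have hti := inv_eq_self_of_orderOf ht.1
  have hw1 : s * t ≠ 1 := by
    intro h
    apply hne
    rw [← hti]
    exact eq_inv_of_mul_eq_one_left h
  -- the product lies in the core
  have hwcore : s * t ∈ coreOf C := by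
    rw [mem_coreOf]
    refine ⟨C.mul_mem hsC htC, ?_⟩
    exact mul_mem_oddCore_of_not_commPair (z := ⟨s, hsC⟩) (w := ⟨t, htC⟩) hC
      (by rw [Subgroup.orderOf_mk, hs.1]) (by rw [Subgroup.orderOf_mk, ht.1])
  obtain ⟨l, m, hl, hldvd, hlm⟩ := exists_prime_pow hw1
  have hlF : Fact l.Prime := ⟨hl⟩
  set w := (s * t) ^ m with hwdef
  have hwodd : Odd (orderOf w) := by
    rw [hlm]
    exact (odd_coreOf C).of_dvd_nat (hldvd.trans ((coreOf C).orderOf_dvd_natCard hwcore))
  have hl2 : l ≠ 2 := by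
    rintro rfl
    rw [hlm] at hwodd
    exact absurd hwodd (by decide)
  have hwC : w ∈ coreOf C := (coreOf C).pow_mem hwcore m
  have hwne : w ≠ 1 := by
    intro h
    rw [h, orderOf_one] at hlm
    exact hl.one_lt.ne hlm
  have hwa : w • a = a := by
    have h1 : (s * t) • a = a := by rw [mul_smul, ht.2, hs.2]
    have h2 : s * t ∈ stabilizer G a := h1
    exact (stabilizer G a).pow_mem h2 m
  have hinv : s * w * s⁻¹ = w⁻¹ := by
    have h1 : s * (s * t) * s⁻¹ = (s * t)⁻¹ := by
      rw [mul_inv_rev, hsi, hti]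
      calc s * (s * t) * s = (s * s) * t * s := by group
        _ = t * s := by rw [hss, one_mul]
    rw [hwdef, ← conj_pow, h1, inv_pow]
  -- `w` fixes only `a`
  have hfix : fixp H (Subgroup.zpowers w) = {a} := by
    ext c
    rw [fixp_zpowers, Set.mem_singleton_iff]
    refine ⟨fun hc => ?_, fun hc => by rw [hc]; exact hwa⟩
    by_contra hca
    have h1 : w • (s • c) = s • c := by
      have h2 : w * s = s * w⁻¹ := by
        rw [← hinv, hsi]
        calc w * s = (s * s) * w * s := by rw [hss, one_mul]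
          _ = s * (s * w * s) := by group
      rw [← mul_smul, h2, mul_smul]
      congr 1
      rw [inv_smul_eq_iff, hc]
    exact hwne (eq_one_of_commute_inverted hwodd (hN s hs.1 a c hs.2 hca w hwa hc h1) hinv)
  -- the prime divides the number of involutions of `C` fixing `a`
  have hdvd1 : l ∣ (invs a a ∩ (C : Set G)).ncard := by
    set M : Subgroup G := coreOf C ⊓ stabilizer G a with hM
    have hModd : Odd (Nat.card M) :=
      (odd_coreOf C).of_dvd_nat (Subgroup.card_dvd_of_le inf_le_left)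
    have hconj : ∀ d ∈ M, ∀ u ∈ invs a a ∩ (C : Set G), d * u * d⁻¹ ∈ invs a a ∩ (C : Set G) := by
      rintro d ⟨hd, hda⟩ u ⟨hu, huC⟩
      have hda' : d • a = a := hda
      have hda'' : d⁻¹ • a = a := by rw [inv_smul_eq_iff, hda']
      have hdC := coreOf_le hd
      exact ⟨⟨by rw [orderOf_conj, hu.1], by rw [mul_smul, mul_smul, hda'', hu.2, hda']⟩,
        C.mul_mem (C.mul_mem hdC huC) (C.inv_mem hdC)⟩
    have htr : ∀ u ∈ invs a a ∩ (C : Set G), ∀ u' ∈ invs a a ∩ (C : Set G),
        ∃ d ∈ M, d * u * d⁻¹ = u' := by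
      rintro u ⟨hu, huC⟩ u' ⟨hu', huC'⟩
      obtain ⟨n, hn, hnu⟩ := exists_conj_of_not_commPair (z := ⟨u, huC⟩) (w := ⟨u', huC'⟩) hC
        (by rw [Subgroup.orderOf_mk, hu.1]) (by rw [Subgroup.orderOf_mk, hu'.1])
      have hnu' : (n : G) * u * (n : G)⁻¹ = u' := congrArg Subtype.val hnu
      refine ⟨n, ⟨mem_coreOf.mpr ⟨n.2, hn⟩, ?_⟩, hnu'⟩
      show (n : G) • a = a
      refine eq_of_smul_eq hH hu'.1 ?_ hu'.2
      rw [← hnu', mul_smul, mul_smul, inv_smul_smul, hu.2]
    have hsM : ∀ u ∈ M, s * u * s⁻¹ ∈ M := by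
      rintro u ⟨hu, hua⟩
      refine ⟨coreOf_conj hsC hu, ?_⟩
      have hua' : u • a = a := hua
      show (s * u * s⁻¹) • a = a
      rw [hsi, mul_smul, mul_smul, hs.2, hua', hs.2]
    have hwM : Subgroup.zpowers w ≤ M := by
      rw [Subgroup.zpowers_le]; exact ⟨hwC, hwa⟩
    have hsw : ∀ u ∈ Subgroup.zpowers w, s * u * s⁻¹ ∈ Subgroup.zpowers w := by
      intro u hu
      obtain ⟨k, rfl⟩ := Subgroup.mem_zpowers_iff.mp hu
      rw [← conj_zpow, hinv]
      exact Subgroup.zpow_mem _ (Subgroup.inv_mem _ (Subgroup.mem_zpowers w)) k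
    obtain ⟨B, hB, hsB, hwB⟩ := Lib.PGroupCoprimeAction.exists_invariant_sylow_ge
      (A := Subgroup.zpowers s) (H := M) (isPGroup_two_zpowers hs.1) (not_two_dvd hModd)
      (zpowers_forall hsM) hwM (isPGroup_zpowers hlm) (zpowers_forall hsw)
    have h1 := kap_of_sylow hl2 hModd hconj htr ⟨hs, hsC⟩ hs.1 hB
      (hsB s (Subgroup.mem_zpowers s))
    by_contra hnd
    rw [Nat.factorization_eq_zero_of_not_dvd hnd, pow_zero, kap] at h1
    have h2 := (Nat.card_eq_one_iff_unique.mp h1).1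
    have h3 := h2.elim ⟨w, hwB (Subgroup.mem_zpowers w), hinv⟩ ⟨1, B.one_mem, by simp⟩
    exact hwne (congrArg Subtype.val h3)
  -- so it divides the number of involutions interchanging `a` and `b`
  rw [← ncard_inf_eq hH hab hv hvC hs hsC] at hdvd1
  have hdvd2 : l ∣ mm H := by
    set M : Subgroup G := C ⊓ stab2 a b with hM
    have hModd : Odd (Nat.card M) :=
      (odd_stab2 hH hab).of_dvd_nat (Subgroup.card_dvd_of_le inf_le_right)
    have hconj : ∀ d ∈ M, ∀ u ∈ invs a b ∩ (C : Set G), d * u * d⁻¹ ∈ invs a b ∩ (C : Set G) := by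
      rintro d ⟨hdC, hd⟩ u ⟨hu, huC⟩
      obtain ⟨hda, hdb⟩ := mem_stab2.mp hd
      have hda'' : d⁻¹ • a = a := by rw [inv_smul_eq_iff, hda]
      exact ⟨⟨by rw [orderOf_conj, hu.1], by rw [mul_smul, mul_smul, hda'', hu.2, hdb]⟩,
        C.mul_mem (C.mul_mem hdC huC) (C.inv_mem hdC)⟩
    have htr : ∀ u ∈ invs a b ∩ (C : Set G), ∀ u' ∈ invs a b ∩ (C : Set G),
        ∃ d ∈ M, d * u * d⁻¹ = u' := by
      rintro u ⟨hu, huC⟩ u' ⟨hu', huC'⟩
      exact exists_conj_swap hH hab hu huC hu' huC'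
    have hvM : ∀ u ∈ M, v * u * v⁻¹ ∈ M := by
      rintro u ⟨huC, hu⟩
      exact ⟨C.mul_mem (C.mul_mem hvC huC) (C.inv_mem hvC), swap_normalizes hv u hu⟩
    obtain ⟨B, hB, hvB⟩ := Lib.PGroupCoprimeAction.exists_invariant_sylow
      (A := Subgroup.zpowers v) (H := M) (isPGroup_two_zpowers hv.1) (not_two_dvd hModd)
      (zpowers_forall hvM) l
    have hvB' := hvB v (Subgroup.mem_zpowers v)
    have h1 := kap_of_sylow hl2 hModd hconj htr ⟨hv, hvC⟩ hv.1 hB hvB'
    obtain ⟨hBM, hBp, -⟩ := exists_sylow_map_eq_iff.mp hB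
    have h3 := kap_le hH hl2 hBp hv.1 hvB' (c := a)
      (fun d hd => (mem_stab2.mp (hBM hd).2).1) (by rw [hv.2]; exact hab.symm)
    rw [h1, Nat.pow_le_pow_iff_right hl.one_lt] at h3
    have hpos : 0 < (invs a b ∩ (C : Set G)).ncard := by
      rw [Set.ncard_pos (Set.toFinite _)]
      exact ⟨v, hv, hvC⟩
    have hne0 := hpos.ne'
    have h4 := hl.factorization_pos_of_dvd hne0 hdvd1
    by_contra hnd
    rw [Nat.factorization_eq_zero_of_not_dvd hnd] at h3
    omega
  have h5 := fixp_ncard_modEq hH (star_of_claimN hH hr hN hdvd2) (isPGroup_zpowers hlm)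
  rw [hfix, Set.ncard_singleton] at h5
  have h6 := (Nat.modEq_iff_dvd' (by norm_num : 1 ≤ 2)).mp h5
  have h7 : l ∣ 1 := h6
  exact hl.one_lt.ne' (Nat.dvd_one.mp h7)

end Main

section Final

variable {G : Type u} [Group G] [Finite G] {H : Subgroup G}

/-- Property (a): involutions fixing `a` and commuting with an element of prime order fixing `a`
and `b` commute. -/
theorem commute_of_commute (hH : IsStronglyEmbedded H) (hr : CommPair G)
    (hcore : H.normalCore = ⊥) (hN : ClaimN H)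
    (hIH : ∀ (K : Type u) [Group K] [Finite K], Nat.card K < Nat.card G → BenderHolds K)
    {a b : G ⧸ H} (hab : a ≠ b) {y : G} (hy : (orderOf y).Prime) (hya : y • a = a)
    (hyb : y • b = b) {s t : G} (hs : s ∈ invs a a) (ht : t ∈ invs a a) (hys : Commute y s)
    (hyt : Commute y t) : Commute s t := by
  have hU := uniqueFix_quotient hH
  have hpF : Fact (orderOf y).Prime := ⟨hy⟩
  have hP : IsPGroup (orderOf y) (Subgroup.zpowers y) := isPGroup_zpowers rfl
  have hsb : s • b ≠ b := fun h => hab (eq_of_smul_eq hH hs.1 hs.2 h)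
  have hsba : s • b ≠ a := by
    intro h
    apply hab
    apply smul_left_cancel s
    rw [h, hs.2]
  have h3 : Three H (Subgroup.zpowers y) := by
    refine ⟨a, fixp_zpowers.mpr hya, b, fixp_zpowers.mpr hyb, s • b, ?_, hab, hsb.symm, hsba.symm⟩
    rw [fixp_zpowers, ← mul_smul, hys.eq, mul_smul, hyb]
  have hcl := cl_of_claimN hH hr hN hP h3
  obtain ⟨v, hvC, hv2, hvab⟩ := hcl a (fixp_zpowers.mpr hya) b (fixp_zpowers.mpr hyb) hab
  have hv : v ∈ invs a b := ⟨hv2, hvab⟩
  set C := Subgroup.centralizer ((Subgroup.zpowers y : Subgroup G) : Set G) with hCdef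
  have hmem : ∀ g : G, Commute g y → g ∈ C := fun g hg => mem_centralizer_zpowers.mpr hg
  have hsC : s ∈ C := hmem s hys.symm
  have htC : t ∈ C := hmem t hyt.symm
  by_cases hC : CommPair C
  · -- `C` is proper
    have hCtop : C ≠ ⊤ := by
      intro htop
      have hyN : y ∈ H.normalCore := by
        apply mem_normalCore_of_smul
        intro c
        obtain ⟨g, hg⟩ := MulAction.exists_smul_eq G a c
        have hgC : g ∈ C := by rw [htop]; trivial
        have hgy : Commute g y := mem_centralizer_zpowers.mp hgC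
        rw [← hg, ← mul_smul, ← hgy.eq, mul_smul, hya]
      rw [hcore, Subgroup.mem_bot] at hyN
      rw [hyN, orderOf_one] at hy
      exact Nat.not_prime_one hy
    -- a commuting pair fixing `a`
    obtain ⟨⟨x1, hx1C⟩, ⟨x2, hx2C⟩, hx1, hx2, hx12, hxc⟩ := hC
    rw [Subgroup.orderOf_mk] at hx1 hx2
    have hx12' : x1 ≠ x2 := fun h => hx12 (Subtype.ext h)
    have hxc' : Commute x1 x2 := congrArg Subtype.val hxc
    obtain ⟨c, hc⟩ := hU.exists hx1
    have hyc : y • c = c := by
      have h1 : Commute x1 y := mem_centralizer_zpowers.mp hx1C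
      refine eq_of_smul_eq hH hx1 ?_ hc
      rw [← mul_smul, h1.eq, mul_smul, hc]
    obtain ⟨g, hgC, hgc⟩ : ∃ g ∈ C, g • c = a := by
      by_cases hca : c = a
      · exact ⟨1, C.one_mem, by rw [one_smul, hca]⟩
      · obtain ⟨g, hgC, -, hg⟩ := hcl c (fixp_zpowers.mpr hyc) a (fixp_zpowers.mpr hya) hca
        exact ⟨g, hgC, hg⟩
    have hga : g⁻¹ • a = c := by rw [inv_smul_eq_iff, hgc]
    have hgood : Good C a := good_of_ih hIH hU hCtop
      (s := g * x1 * g⁻¹) (t := g * x2 * g⁻¹)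
      (C.mul_mem (C.mul_mem hgC hx1C) (C.inv_mem hgC))
      (C.mul_mem (C.mul_mem hgC hx2C) (C.inv_mem hgC))
      (by rw [orderOf_conj, hx1]) (by rw [orderOf_conj, hx2])
      (fun h => hx12' (mul_left_cancel (mul_right_cancel h)))
      (by
        show g * x1 * g⁻¹ * (g * x2 * g⁻¹) = g * x2 * g⁻¹ * (g * x1 * g⁻¹)
        calc g * x1 * g⁻¹ * (g * x2 * g⁻¹) = g * (x1 * x2) * g⁻¹ := by group
          _ = g * (x2 * x1) * g⁻¹ := by rw [hxc'.eq]
          _ = _ := by group)
      (by rw [mul_smul, mul_smul, hga, hc, hgc]) (g := v) hvC (by rw [hvab]; exact hab.symm)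
    set c0 := s * t * s⁻¹ * t⁻¹ with hc0
    have haC : a ∈ orbit C a := mem_orbit_self a
    have hc0C : c0 ∈ coreOf C := hgood.inv_comm a haC s hsC t htC hs.1 hs.2 ht.2
      ⟨1, by rw [ht.1, pow_one]⟩
    have hbC : b ∈ orbit C a := mem_orbit_subgroup.mpr ⟨v, hvC, hvab⟩
    have hsbC : s • b ∈ orbit C a := Cfsg.Agent.StrongEmb.Frame.smul_mem_orbit hsC hbC
    have h1 : Commute c0 s := hN s hs.1 a b hs.2 hab.symm c0 (hgood.core_smul c0 hc0C a haC)
      (hgood.core_smul c0 hc0C b hbC) (hgood.core_smul c0 hc0C _ hsbC)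
    have hss := mul_self_of_orderOf hs.1
    have hsi := inv_eq_self_of_orderOf hs.1
    have h6 : s * c0 * s⁻¹ = c0⁻¹ := by
      calc s * c0 * s⁻¹ = (s * s) * t * s⁻¹ * t⁻¹ * s⁻¹ := by rw [hc0]; group
        _ = t * s * t⁻¹ * s⁻¹ := by rw [hss, one_mul, hsi]
        _ = c0⁻¹ := by rw [hc0]; group
    have h9 : c0 = 1 := eq_one_of_commute_inverted
      ((odd_coreOf C).of_dvd_nat ((coreOf C).orderOf_dvd_natCard hc0C)) h1 h6
    show s * t = t * s
    exact mul_inv_eq_iff_eq_mul.mp (mul_inv_eq_one.mp h9)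
  · rw [eq_of_not_commPair hH hr hN hab hC hv hvC hs hsC ht htC]

/-- **Claim N implies that the involutions fixing a point commute.** -/
theorem comm_of_claimN (hH : IsStronglyEmbedded H) (hr : CommPair G)
    (hcore : H.normalCore = ⊥) (hN : ClaimN H)
    (hIH : ∀ (K : Type u) [Group K] [Finite K], Nat.card K < Nat.card G → BenderHolds K)
    (hFT : ∀ (K : Type u) [Group K] [Finite K], Odd (Nat.card K) → Group.IsSolvable K)
    (a : G ⧸ H) (s t : G) (hs : orderOf s = 2) (ht : orderOf t = 2) (hsa : s • a = a)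
    (hta : t • a = a) : Commute s t := by
  have hU := uniqueFix_quotient hH
  obtain ⟨b, hb⟩ := exists_isMaxPair hH a
  have hab : a ≠ b := hb.1
  obtain ⟨v, hv⟩ := exists_mem_invs hH a b
  have hvv := mul_self_of_orderOf hv.1
  have hvi := inv_eq_self_of_orderOf hv.1
  have hvD : ∀ d ∈ stab2 a b, v * d * v⁻¹ ∈ stab2 a b := swap_normalizes hv
  -- the group `H = G_a` and its subgroup `D`
  let S : Subgroup G := stabilizer G a
  let D : Subgroup S := (stab2 a b).subgroupOf S
  have hDmem : ∀ d : S, d ∈ D ↔ (d : G) ∈ stab2 a b := fun d => Iff.rfl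
  have hle : stab2 a b ≤ S := inf_le_left
  have hDodd : Odd (Nat.card D) := by
    have h1 : Nat.card D = Nat.card (stab2 a b) :=
      Nat.card_congr (Subgroup.subgroupOfEquivOfLe hle).toEquiv
    rw [h1]; exact odd_stab2 hH hab
  have hordS : ∀ (g : G) (hg : g ∈ S), orderOf g = 2 → orderOf (⟨g, hg⟩ : S) = 2 := by
    intro g hg h
    rw [Subgroup.orderOf_mk]; exact h
  have hinvS : ∀ s : S, orderOf s = 2 → (s : G) ∈ invs a a := fun s hs =>
    ⟨by rw [Subgroup.orderOf_coe]; exact hs, s.2⟩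
  let wf : D → D := fun d => ⟨⟨v * ((d : S) : G) * v⁻¹, hle (hvD _ d.2)⟩, hvD _ d.2⟩
  have hwf : ∀ d, wf (wf d) = d := by
    intro d
    apply Subtype.ext
    apply Subtype.ext
    show v * (v * ((d : S) : G) * v⁻¹) * v⁻¹ = ((d : S) : G)
    calc v * (v * ((d : S) : G) * v⁻¹) * v⁻¹ = (v * v) * ((d : S) : G) * (v * v)⁻¹ := by group
      _ = ((d : S) : G) := by rw [hvv]; group
  let w : D ≃* D :=
    { toFun := wf
      invFun := wf
      left_inv := hwf
      right_inv := hwf
      map_mul' := fun c d => Subtype.ext (Subtype.ext (by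
        show v * (((c : S) : G) * ((d : S) : G)) * v⁻¹
          = (v * ((c : S) : G) * v⁻¹) * (v * ((d : S) : G) * v⁻¹)
        group)) }
  have hwapp : ∀ d : D, (((w d : D) : S) : G) = v * ((d : S) : G) * v⁻¹ := fun d => rfl
  have hwinv : ∀ d : D, w d = d⁻¹ ↔ v * ((d : S) : G) * v⁻¹ = ((d : S) : G)⁻¹ := by
    intro d
    constructor
    · intro h
      rw [← hwapp, h]; rfl
    · intro h
      exact Subtype.ext (Subtype.ext h)
  have key : ∀ s t : S, orderOf s = 2 → orderOf t = 2 → Commute s t := by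
    refine TheoremZ.theoremZ D hDodd (hFT D hDodd) ?_ ?_ ?_ w hwf ?_ ?_ ?_
    · intro s t hs ht
      obtain ⟨d, hda, hdb, hd⟩ := exists_conj_of_fixes hH hab (hinvS s hs) (hinvS t ht)
      exact ⟨⟨d, hda⟩, mem_stab2.mpr ⟨hda, hdb⟩, Subtype.ext hd⟩
    · obtain ⟨x1, x2, h1, h2, h3, h4, h5, h6⟩ := exists_commuting_of_fix hU hr hs hsa
      exact commPair_subgroup h5 h6 h1 h2 h3 h4
    · intro y hy hyp s t hs ht hys hyt
      have hy' := mem_stab2.mp ((hDmem y).mp hy)
      have hyp' : (orderOf (y : G)).Prime := by rw [Subgroup.orderOf_coe]; exact hyp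
      have h1 := commute_of_commute hH hr hcore hN hIH hab hyp' hy'.1 hy'.2 (hinvS s hs)
        (hinvS t ht) (congrArg Subtype.val hys) (congrArg Subtype.val hyt)
      exact Subtype.ext h1
    · -- the numbers
      have h1 := kap_stab2 hH hab hv
      have h2 : Nat.card {k : D // w k = k⁻¹} = kap (stab2 a b) v := by
        refine Nat.card_congr
          { toFun := fun k => ⟨((k.1 : S) : G), k.1.2, (hwinv k.1).mp k.2⟩
            invFun := fun k => ⟨⟨⟨k.1, hle k.2.1⟩, k.2.1⟩, (hwinv _).mpr k.2.2⟩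
            left_inv := fun k => rfl
            right_inv := fun k => rfl }
      have h3 : Nat.card {s : S // orderOf s = 2} = (invs a a).ncard := by
        rw [← Nat.card_coe_set_eq]
        refine Nat.card_congr
          { toFun := fun s => ⟨(s.1 : G), hinvS s.1 s.2⟩
            invFun := fun s => ⟨⟨s.1, s.2.2⟩, hordS _ _ s.2.1⟩
            left_inv := fun s => rfl
            right_inv := fun s => rfl }
      rw [h2, h1, h3, ncard_invs hH]
    · intro s t hs ht
      obtain ⟨d, -, hda, hdb, hvd, hd⟩ := exists_conj_inverted hH hab (C := ⊤) hv trivial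
        (hinvS s hs) trivial (hinvS t ht) trivial
      exact ⟨⟨⟨d, hda⟩, mem_stab2.mpr ⟨hda, hdb⟩⟩, (hwinv _).mpr hvd, Subtype.ext hd⟩
    · intro y hyp hwy
      have hy' := mem_stab2.mp ((hDmem y).mp y.2)
      have hyp' : (orderOf ((y : S) : G)).Prime := by
        rw [Subgroup.orderOf_coe, Subgroup.orderOf_coe]; exact hyp
      have hyv : Commute ((y : S) : G) v := by
        have h1 : v * ((y : S) : G) * v⁻¹ = ((y : S) : G) := by rw [← hwapp, hwy]
        show ((y : S) : G) * v = v * ((y : S) : G)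
        calc ((y : S) : G) * v = (v * ((y : S) : G) * v⁻¹) * v := by rw [h1]
          _ = v * ((y : S) : G) := by group
      obtain ⟨s, hs, hys⟩ := exists_commute_fix hH hr hN hab hv hyp' hy'.1 hy'.2 hyv
      exact ⟨⟨s, hs.2⟩, hordS _ _ hs.1, Subtype.ext hys⟩
  have h1 := key ⟨s, hsa⟩ ⟨t, hta⟩ (hordS _ _ hs) (hordS _ _ ht)
  exact congrArg Subtype.val h1

end Final

end Cfsg.Agent.StrongEmb.CaseOneEnd
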