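import Mathlib

/-!
# Lemma Phi

Let `H` be a finite group, `I` a conjugation invariant set of involutions of `H` containing the
three involutions of some four-group, and `M i` subgroups of odd order of `H`, each of them
transitive on `I` by conjugation.  Let `e i` be the number of cosets `s M i`, `s ∈ I`.  Then some
prime divides all the numbers `e i`.

The proof is an averaging argument in the integral group algebra.
-/

set_option autoImplicit false

namespace Cfsg.Agent.StrongEmb.LemmaPhi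

open scoped Classical
open Finset

/-- arithmetic: if no prime divides all the `e i` and `a ∣ (e i)^N * x` for all `i`
then `a ∣ x`. -/
theorem dvd_of_forall_dvd_pow_mul {ι : Type*} (e : ι → ℕ) (N a : ℕ) (x : ℤ) (ha : a ≠ 0)
    (hno : ∀ p : ℕ, p.Prime → ∃ i, ¬ p ∣ e i)
    (h : ∀ i, (a : ℤ) ∣ ((e i : ℤ)) ^ N * x) : (a : ℤ) ∣ x := by
  -- D = a / gcd(a, x)
  obtain ⟨g, hg⟩ : ∃ g, g = Nat.gcd a x.natAbs := ⟨_, rfl⟩
  have hgpos : 0 < g := by
    rw [hg]; exact Nat.gcd_pos_of_pos_left _ (Nat.pos_of_ne_zero ha)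
  have hga : g ∣ a := hg ▸ Nat.gcd_dvd_left _ _
  have hgx : g ∣ x.natAbs := hg ▸ Nat.gcd_dvd_right _ _
  obtain ⟨D, hD⟩ := hga
  obtain ⟨y, hy⟩ := hgx
  have hcop : Nat.Coprime D y := by
    have h1 : Nat.gcd (g * D) (g * y) = g := by rw [← hD, ← hy, hg]
    rw [Nat.gcd_mul_left] at h1
    exact Nat.eq_of_mul_eq_mul_left hgpos (by rw [h1, mul_one])
  have hDe : ∀ i, D ∣ e i ^ N := by
    intro i
    have h2 : a ∣ e i ^ N * x.natAbs := by
      have := Int.natAbs_dvd_natAbs.mpr (h i)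
      simpa [Int.natAbs_mul, Int.natAbs_pow] using this
    rw [hD, hy] at h2
    have h3 : g * D ∣ g * (e i ^ N * y) := by
      have : e i ^ N * (g * y) = g * (e i ^ N * y) := by ring
      rwa [this] at h2
    have h4 : D ∣ e i ^ N * y := Nat.dvd_of_mul_dvd_mul_left hgpos h3
    exact hcop.dvd_of_dvd_mul_right h4
  have hD1 : D = 1 := by
    by_contra hne
    obtain ⟨p, hp, hpD⟩ := Nat.exists_prime_and_dvd hne
    obtain ⟨i, hi⟩ := hno p hp
    exact hi (hp.dvd_of_dvd_pow (hpD.trans (hDe i)))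
  rw [hD1, mul_one] at hD
  have h5 : a ∣ x.natAbs := by rw [hD, hy]; exact dvd_mul_right _ _
  exact Int.natCast_dvd.mpr h5

/-- equality case of the averaging inequality -/
theorem eq_of_sum_sq {σ τ : Type*} [Fintype σ] [Fintype τ] (v : σ → τ → ℤ) (q : ℤ)
    (hq : ∀ s, ∑ h, v s h ^ 2 = q)
    (hle : (Fintype.card σ : ℤ) ^ 2 * q ≤ ∑ h, (∑ s, v s h) ^ 2) (s s' : σ) : v s = v s' := by
  have key : ∑ s, ∑ s', ∑ h, (v s h - v s' h) ^ 2
      = 2 * ((Fintype.card σ : ℤ) ^ 2 * q) - 2 * ∑ h, (∑ s, v s h) ^ 2 := by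
    have h1 : ∀ s s', ∑ h, (v s h - v s' h) ^ 2
        = q + q - 2 * ∑ h, v s h * v s' h := by
      intro s s'
      have : ∀ h, (v s h - v s' h) ^ 2 = v s h ^ 2 + v s' h ^ 2 - 2 * (v s h * v s' h) := by
        intro h; ring
      simp_rw [this, Finset.sum_sub_distrib, Finset.sum_add_distrib, ← Finset.mul_sum, hq]
    simp_rw [h1, Finset.sum_sub_distrib, ← Finset.mul_sum]
    simp only [Finset.sum_const, Finset.card_univ, nsmul_eq_mul]
    have h2 : ∑ s, ∑ s', ∑ h, v s h * v s' h = ∑ h, (∑ s, v s h) ^ 2 := by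
      calc ∑ s, ∑ s', ∑ h, v s h * v s' h = ∑ s, ∑ h, ∑ s', v s h * v s' h := by
            refine Finset.sum_congr rfl fun s _ => Finset.sum_comm
        _ = ∑ h, ∑ s, ∑ s', v s h * v s' h := Finset.sum_comm
        _ = ∑ h, (∑ s, v s h) ^ 2 := by
            refine Finset.sum_congr rfl fun h _ => ?_
            rw [sq, Finset.sum_mul_sum]
    rw [h2]
    ring
  have hnn : ∀ s s', 0 ≤ ∑ h, (v s h - v s' h) ^ 2 := fun s s' =>
    Finset.sum_nonneg fun h _ => sq_nonneg _
  have hnn2 : ∀ s, 0 ≤ ∑ s', ∑ h, (v s h - v s' h) ^ 2 := fun s =>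
    Finset.sum_nonneg fun s' _ => hnn s s'
  have hzero : ∑ s, ∑ s', ∑ h, (v s h - v s' h) ^ 2 = 0 := by
    apply le_antisymm
    · rw [key]; linarith
    · exact Finset.sum_nonneg fun s _ => hnn2 s
  have h3 : ∑ s', ∑ h, (v s h - v s' h) ^ 2 = 0 :=
    (Finset.sum_eq_zero_iff_of_nonneg (fun s _ => hnn2 s)).mp hzero s (Finset.mem_univ _)
  have h4 : ∑ h, (v s h - v s' h) ^ 2 = 0 :=
    (Finset.sum_eq_zero_iff_of_nonneg (fun s' _ => hnn s s')).mp h3 s' (Finset.mem_univ _)
  funext h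
  have h5 := (Finset.sum_eq_zero_iff_of_nonneg (fun h _ => sq_nonneg _)).mp h4 h
    (Finset.mem_univ _)
  have h6 : v s h - v s' h = 0 := by simpa using h5
  linarith

section Algebra

variable {H : Type*} [Group H] [Fintype H]

/-- the group element `g` in `ℤ[H]` -/
noncomputable abbrev δ (g : H) : MonoidAlgebra ℤ H := MonoidAlgebra.of ℤ H g

/-- sum of a set of group elements -/
noncomputable def bar (I : Set H) : MonoidAlgebra ℤ H := ∑ s : I, δ (s : H)

omit [Fintype H] in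
theorem δ_mul (a b : H) : δ (a * b) = δ a * δ b := map_mul _ _ _

theorem bar_comm (I : Set H) (hIc : ∀ h : H, ∀ s ∈ I, h * s * h⁻¹ ∈ I)
    (f : MonoidAlgebra ℤ H) : bar I * f = f * bar I := by
  have hg : ∀ g : H, δ g * bar I = bar I * δ g := by
    intro g
    unfold bar
    rw [Finset.mul_sum, Finset.sum_mul]
    refine Finset.sum_bij' (fun s _ => (⟨g * s * g⁻¹, hIc g s s.2⟩ : I))
      (fun s _ => (⟨g⁻¹ * s * g, by simpa using hIc g⁻¹ s s.2⟩ : I)) ?_ ?_ ?_ ?_ ?_
    · intros; exact Finset.mem_univ _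
    · intros; exact Finset.mem_univ _
    · intro s _; ext; simp [mul_assoc]
    · intro s _; ext; simp [mul_assoc]
    · intro s _
      rw [← δ_mul, ← δ_mul]; congr 1; simp [mul_assoc]
  induction f using MonoidAlgebra.induction_on with
  | of g => exact (hg g).symm
  | add a b ha hb => rw [mul_add, add_mul, ha, hb]
  | smul r a ha => rw [mul_smul_comm, smul_mul_assoc, ha]

theorem δ_mul_bar (M : Subgroup H) {x : H} (hx : x ∈ M) :
    δ x * bar (M : Set H) = bar (M : Set H) := by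
  unfold bar
  rw [Finset.mul_sum]
  refine Finset.sum_bij' (fun s _ => (⟨x * s, M.mul_mem hx s.2⟩ : (M : Set H)))
      (fun s _ => (⟨x⁻¹ * s, M.mul_mem (M.inv_mem hx) s.2⟩ : (M : Set H))) ?_ ?_ ?_ ?_ ?_
  · intros; exact Finset.mem_univ _
  · intros; exact Finset.mem_univ _
  · intro s _; ext; simp
  · intro s _; ext; simp
  · intro s _
    rw [← δ_mul]

/-- the number of cosets `s M`, `s ∈ I` -/
noncomputable def e (I : Set H) (M : Subgroup H) : ℕ :=
  Nat.card {c : H ⧸ M // ∃ s ∈ I, c = (s : H ⧸ M)}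

theorem bar_mul_bar (I : Set H) (hIc : ∀ h : H, ∀ s ∈ I, h * s * h⁻¹ ∈ I) (M : Subgroup H)
    (htr : ∀ x ∈ I, ∀ y ∈ I, ∃ g ∈ M, g * x * g⁻¹ = y) :
    ∃ (k : ℕ) (Y : MonoidAlgebra ℤ H), Fintype.card I = e I M * k ∧
      bar I * bar (M : Set H) = (k : ℤ) • (Y * bar (M : Set H)) := by
  classical
  rcases isEmpty_or_nonempty I with hI | ⟨⟨a0⟩⟩
  · refine ⟨0, 0, ?_, ?_⟩
    · simp
    · simp [bar]
  set g : I → H ⧸ M := fun s => ((s : H) : H ⧸ M) with hgdef
  set F : H ⧸ M → MonoidAlgebra ℤ H := fun c => δ c.out * bar (M : Set H) with hF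
  have hsF : ∀ s : I, δ (s : H) * bar (M : Set H) = F (g s) := by
    intro s
    have h1 : ((g s).out : H)⁻¹ * (s : H) ∈ M := by
      rw [← QuotientGroup.eq]; exact (QuotientGroup.out_eq' _)
    have h2 : (s : H) = (g s).out * (((g s).out : H)⁻¹ * (s : H)) := by group
    show δ (s : H) * bar (M : Set H) = δ (g s).out * bar (M : Set H)
    conv_lhs => rw [h2]
    rw [δ_mul, mul_assoc, δ_mul_bar M h1]
  set k := (Finset.univ.filter fun a : I => g a = g a0).card with hk
  have hfib : ∀ c ∈ Finset.univ.image g, (Finset.univ.filter fun a : I => g a = c).card = k := by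
    intro c hc
    obtain ⟨b, -, rfl⟩ := Finset.mem_image.mp hc
    obtain ⟨x, hxM, hx⟩ := htr b b.2 a0 a0.2
    have key : ∀ a : I, g a = g b ↔ ((x * (a : H) * x⁻¹ : H) : H ⧸ M) = g a0 := by
      intro a
      have h0 : g a0 = ((x * (b : H) * x⁻¹ : H) : H ⧸ M) := by rw [hx]
      rw [h0]
      show ((a : H) : H ⧸ M) = ((b : H) : H ⧸ M) ↔ _
      rw [QuotientGroup.eq, QuotientGroup.eq]
      have h1 : (x * (a : H) * x⁻¹)⁻¹ * (x * (b : H) * x⁻¹) = x * ((a : H)⁻¹ * b) * x⁻¹ := by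
        group
      rw [h1]
      constructor
      · intro h; exact M.mul_mem (M.mul_mem hxM h) (M.inv_mem hxM)
      · intro h
        have := M.mul_mem (M.mul_mem (M.inv_mem hxM) h) hxM
        simpa [mul_assoc] using this
    refine Finset.card_bij' (fun a _ => (⟨x * a * x⁻¹, hIc x a a.2⟩ : I))
      (fun a _ => (⟨x⁻¹ * a * x, by simpa using hIc x⁻¹ a a.2⟩ : I)) ?_ ?_ ?_ ?_
    · intro a ha
      have := (Finset.mem_filter.mp ha).2
      exact Finset.mem_filter.mpr ⟨Finset.mem_univ _, (key a).mp this⟩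
    · intro a ha
      have := (Finset.mem_filter.mp ha).2
      refine Finset.mem_filter.mpr ⟨Finset.mem_univ _, (key _).mpr ?_⟩
      have h3 : x * (x⁻¹ * (a : H) * x) * x⁻¹ = a := by group
      simp only [h3]; exact this
    · intro a _; ext; simp [mul_assoc]
    · intro a _; ext; simp [mul_assoc]
  have hcard : e I M = (Finset.univ.image g).card := by
    unfold e
    rw [Nat.card_eq_fintype_card, Fintype.card_subtype]
    congr 1
    ext c
    simp only [Finset.mem_filter, Finset.mem_univ, true_and, Finset.mem_image, hgdef]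
    constructor
    · rintro ⟨s, hs, rfl⟩; exact ⟨⟨s, hs⟩, rfl⟩
    · rintro ⟨s, rfl⟩; exact ⟨s, s.2, rfl⟩
  refine ⟨k, ∑ c ∈ Finset.univ.image g, δ c.out, ?_, ?_⟩
  · rw [hcard, ← Finset.card_univ, Finset.card_eq_sum_card_image g, Finset.sum_congr rfl hfib]
    simp
  · unfold bar at *
    rw [Finset.sum_mul, Finset.sum_congr rfl (fun s _ => hsF s), Finset.sum_comp F g,
      Finset.sum_congr rfl (fun c hc => by rw [hfib c hc]), ← Finset.smul_sum, hF,
      ← Finset.sum_mul]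
    simp

/-- the sum of the elements of a subgroup -/
noncomputable def barS (M : Subgroup H) : MonoidAlgebra ℤ H := bar (M : Set H)

/-- product of the sums of the subgroups in a list -/
noncomputable def theta (L : List (Subgroup H)) : MonoidAlgebra ℤ H := (L.map barS).prod

theorem bar_pow_mul_bar (I : Set H) (hIc : ∀ h : H, ∀ s ∈ I, h * s * h⁻¹ ∈ I) (M : Subgroup H)
    (k : ℕ) (Y : MonoidAlgebra ℤ H)
    (h : bar I * barS M = (k : ℤ) • (Y * barS M)) (N : ℕ) :
    bar I ^ N * barS M = ((k : ℤ) ^ N) • (Y ^ N * barS M) := by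
  induction N with
  | zero => simp
  | succ N ih =>
    rw [pow_succ', mul_assoc, ih, mul_smul_comm, ← mul_assoc, bar_comm I hIc (Y ^ N), mul_assoc,
      h, mul_smul_comm, smul_smul, ← mul_assoc, ← pow_succ, ← pow_succ]

theorem bar_pow_comm (I : Set H) (hIc : ∀ h : H, ∀ s ∈ I, h * s * h⁻¹ ∈ I) (N : ℕ)
    (f : MonoidAlgebra ℤ H) : bar I ^ N * f = f * bar I ^ N := by
  have : Commute (bar I) f := bar_comm I hIc f
  exact (this.pow_left N).eq

theorem exists_smul (I : Set H) (hIc : ∀ h : H, ∀ s ∈ I, h * s * h⁻¹ ∈ I) (M : Subgroup H)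
    (L : List (Subgroup H)) (hM : M ∈ L) (k : ℕ) (Y : MonoidAlgebra ℤ H)
    (h : bar I * barS M = (k : ℤ) • (Y * barS M)) (N : ℕ) :
    ∃ w, bar I ^ N * theta L = ((k : ℤ) ^ N) • w := by
  obtain ⟨L1, L2, rfl⟩ := List.append_of_mem hM
  refine ⟨(L1.map barS).prod * ((Y ^ N * barS M) * (L2.map barS).prod), ?_⟩
  unfold theta
  rw [List.map_append, List.prod_append, List.map_cons, List.prod_cons, ← mul_assoc,
    bar_pow_comm I hIc, mul_assoc, ← mul_assoc (bar I ^ N), bar_pow_mul_bar I hIc M k Y h,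
    smul_mul_assoc, mul_smul_comm]

/-- augmentation -/
noncomputable def aug (f : MonoidAlgebra ℤ H) : ℤ := ∑ h, f.coeff h

omit [Fintype H] in
theorem δ_mul_apply (s : H) (f : MonoidAlgebra ℤ H) (h : H) :
    (δ s * f).coeff h = f.coeff (s⁻¹ * h) := by
  have := MonoidAlgebra.coeff_single_mul_apply f (1 : ℤ) s h
  simpa using this

theorem bar_mul_apply (I : Set H) (f : MonoidAlgebra ℤ H) (h : H) :
    (bar I * f).coeff h = ∑ s : I, f.coeff ((s : H)⁻¹ * h) := by
  unfold bar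
  rw [Finset.sum_mul, MonoidAlgebra.coeff_sum, Finsupp.finsetSum_apply]
  exact Finset.sum_congr rfl fun s _ => δ_mul_apply _ _ _

theorem aug_bar_mul (I : Set H) (f : MonoidAlgebra ℤ H) :
    aug (bar I * f) = Fintype.card I * aug f := by
  unfold aug
  simp_rw [bar_mul_apply]
  rw [Finset.sum_comm]
  have : ∀ s : I, ∑ h, f.coeff ((s : H)⁻¹ * h) = ∑ h, f.coeff h := fun s =>
    Equiv.sum_comp (Equiv.mulLeft (s : H)⁻¹) f.coeff
  simp [this]

theorem aug_one : aug (1 : MonoidAlgebra ℤ H) = 1 := by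
  unfold aug
  rw [MonoidAlgebra.one_def]
  simp [MonoidAlgebra.coeff_single, Finsupp.single_apply]

theorem aug_theta (L : List (Subgroup H)) (hL : ∀ M ∈ L, Odd (Nat.card M)) :
    Odd (aug (theta L)) := by
  induction L with
  | nil => unfold theta; simp [aug_one]
  | cons M L ih =>
    have h1 : theta (M :: L) = bar (M : Set H) * theta L := by
      unfold theta; rw [List.map_cons, List.prod_cons]; rfl
    rw [h1, aug_bar_mul]
    have h2 : Odd (Nat.card M) := hL M (by simp)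
    have h3 : Odd ((Fintype.card (M : Set H) : ℕ) : ℤ) := by
      have : Fintype.card (M : Set H) = Nat.card M := (Nat.card_eq_fintype_card).symm
      rw [this]; exact_mod_cast h2
    exact h3.mul (ih fun M' hM' => hL M' (by simp [hM']))

theorem aug_pow (I : Set H) (N : ℕ) (f : MonoidAlgebra ℤ H) :
    aug (bar I ^ N * f) = (Fintype.card I : ℤ) ^ N * aug f := by
  induction N with
  | zero => simp
  | succ N ih => rw [pow_succ', mul_assoc, aug_bar_mul, ih]; ring

theorem even_sum_of_invariant (w : H → ℤ) (s : H) (hs : s * s = 1) (hs1 : s ≠ 1)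
    (h : ∀ x, w (s * x) = w x) : Even (∑ x, w x) := by
  have h0 : ((∑ x, w x : ℤ) : ZMod 2) = 0 := by
    rw [Int.cast_sum]
    refine Finset.sum_involution (fun x _ => s * x) ?_ ?_ ?_ ?_
    · intro x _
      rw [h x]
      exact CharTwo.add_self_eq_zero _
    · intro x _ _ hx
      exact hs1 (by simpa using hx)
    · intros; exact Finset.mem_univ _
    · intro x _; rw [← mul_assoc, hs, one_mul]
  rw [even_iff_two_dvd]
  exact (ZMod.intCast_zmod_eq_zero_iff_dvd _ 2).mp h0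

/-- **Lemma Phi.** -/
theorem exists_prime (I : Set H) (hIc : ∀ h : H, ∀ s ∈ I, h * s * h⁻¹ ∈ I)
    (hI2 : ∀ s ∈ I, s * s = 1) (a b : H) (ha : a ∈ I) (hb : b ∈ I) (hab : a * b ∈ I)
    (ha1 : a ≠ 1) :
    ∃ p : ℕ, p.Prime ∧ ∀ M : Subgroup H, Odd (Nat.card M) →
      (∀ x ∈ I, ∀ y ∈ I, ∃ g ∈ M, g * x * g⁻¹ = y) → p ∣ e I M := by
  classical
  by_contra hcon
  push Not at hcon
  -- the list of all odd transitive subgroups
  set T : Finset (Subgroup H) := Finset.univ.filter fun M : Subgroup H => Odd (Nat.card M) ∧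
      (∀ x ∈ I, ∀ y ∈ I, ∃ g ∈ M, g * x * g⁻¹ = y) with hT
  set L := T.toList with hLdef
  have hL : ∀ M, M ∈ L ↔ Odd (Nat.card M) ∧
      (∀ x ∈ I, ∀ y ∈ I, ∃ g ∈ M, g * x * g⁻¹ = y) := by
    intro M; simp [hLdef, hT]
  have hno : ∀ p : ℕ, p.Prime → ∃ i : {M // M ∈ L}, ¬ p ∣ e I i.1 := by
    intro p hp
    obtain ⟨M, h1, h2, h3⟩ := hcon p hp
    exact ⟨⟨M, (hL M).mpr ⟨h1, h2⟩⟩, h3⟩
  set m := Fintype.card I with hm
  have hmpos : 0 < m := Fintype.card_pos_iff.mpr ⟨⟨a, ha⟩⟩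
  have hm0 : (m : ℤ) ≠ 0 := by exact_mod_cast hmpos.ne'
  set A : ℕ → H → ℤ := fun N h => (bar I ^ N * theta L).coeff h with hA
  have hdiv : ∀ N h, ((m : ℤ) ^ N) ∣ A N h := by
    intro N h
    have := dvd_of_forall_dvd_pow_mul (fun i : {M // M ∈ L} => e I i.1) N (m ^ N) (A N h)
      (pow_ne_zero _ hmpos.ne') hno (by
        rintro ⟨M, hM⟩
        obtain ⟨k, Y, hk, hY⟩ := bar_mul_bar I hIc M ((hL M).mp hM).2
        obtain ⟨w, hw⟩ := exists_smul I hIc M L hM k Y hY N
        have h1 : A N h = (k : ℤ) ^ N * w.coeff h := by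
          show (bar I ^ N * theta L).coeff h = _
          rw [hw, MonoidAlgebra.coeff_smul_apply]; rfl
        have h2 : (m : ℤ) = (e I M : ℤ) * k := by exact_mod_cast hk
        rw [h1]
        show ((m ^ N : ℕ) : ℤ) ∣ (e I M : ℤ) ^ N * _
        push_cast
        rw [h2, mul_pow, ← mul_assoc]
        exact dvd_mul_right _ _)
    exact_mod_cast this
  choose W hW using hdiv
  have hstep : ∀ N h, (m : ℤ) * W (N + 1) h = ∑ s : I, W N ((s : H)⁻¹ * h) := by
    intro N h
    have h1 : A (N + 1) h = ∑ s : I, A N ((s : H)⁻¹ * h) := by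
      show (bar I ^ (N + 1) * theta L).coeff h = _
      rw [pow_succ', mul_assoc, bar_mul_apply]
    rw [hW (N + 1) h] at h1
    simp_rw [hW N] at h1
    rw [← Finset.mul_sum, pow_succ, mul_assoc] at h1
    exact mul_left_cancel₀ (pow_ne_zero N hm0) h1
  -- minimal norm
  set Q : ℕ → ℕ := fun N => (∑ h, W N h ^ 2).toNat with hQ
  obtain ⟨N, hN⟩ : ∃ N, ∀ N', Q N ≤ Q N' :=
    ⟨Function.argmin Q, fun N' => Function.argmin_le Q N'⟩
  have hQnn : ∀ N, 0 ≤ ∑ h, W N h ^ 2 := fun N => Finset.sum_nonneg fun h _ => sq_nonneg _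
  have hN' : ∑ h, W N h ^ 2 ≤ ∑ h, W (N + 1) h ^ 2 := by
    have h1 := hN (N + 1)
    have h2 : ((Q N : ℕ) : ℤ) ≤ Q (N + 1) := by exact_mod_cast h1
    simpa [hQ, Int.toNat_of_nonneg, hQnn] using h2
  have heq : ∀ s s' : I, (fun h => W N ((s : H)⁻¹ * h)) = fun h => W N ((s' : H)⁻¹ * h) := by
    refine eq_of_sum_sq (fun (s : I) h => W N ((s : H)⁻¹ * h)) (∑ h, W N h ^ 2) ?_ ?_
    · intro s
      exact Equiv.sum_comp (Equiv.mulLeft (s : H)⁻¹) (fun h => W N h ^ 2)
    · have h1 : ∑ h, (∑ s : I, W N ((s : H)⁻¹ * h)) ^ 2 = (m : ℤ) ^ 2 * ∑ h, W (N + 1) h ^ 2 := by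
        rw [Finset.mul_sum]
        refine Finset.sum_congr rfl fun h _ => ?_
        rw [← hstep]; ring
      rw [h1]
      exact mul_le_mul_of_nonneg_left hN' (sq_nonneg _)
  have hinv : ∀ s ∈ I, s⁻¹ = s := fun s hs => inv_eq_of_mul_eq_one_right (hI2 s hs)
  have h1 : ∀ h, W N (a * h) = W N (b * h) := by
    intro h
    have := congrFun (heq ⟨a, ha⟩ ⟨b, hb⟩) h
    simpa [hinv a ha, hinv b hb] using this
  have h2 : ∀ h, W N (a * h) = W N (a * b * h) := by
    intro h
    have := congrFun (heq ⟨a, ha⟩ ⟨a * b, hab⟩) h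
    simp only [hinv a ha, hinv _ hab] at this
    exact this
  have h3 : ∀ h, W N (a * h) = W N h := by
    intro h
    have e1 := h1 (b * h)
    rw [← mul_assoc, ← mul_assoc, hI2 b hb, one_mul] at e1
    rw [h2, e1]
  have heven := even_sum_of_invariant (W N) a (hI2 a ha) ha1 h3
  have hodd : Odd (∑ h, W N h) := by
    have h4 := aug_pow I N (theta L)
    have h5 : aug (bar I ^ N * theta L) = (m : ℤ) ^ N * ∑ h, W N h := by
      unfold aug
      rw [Finset.mul_sum]
      exact Finset.sum_congr rfl fun h _ => hW N h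
    rw [h5] at h4
    have h6 := mul_left_cancel₀ (pow_ne_zero N hm0) h4
    rw [h6]
    exact aug_theta L fun M hM => ((hL M).mp hM).1
  exact (Int.not_even_iff_odd.mpr hodd) heven

end Algebra

end Cfsg.Agent.StrongEmb.LemmaPhi
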