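import Mathlib
import Cfsg.Agent.StrongEmb.Basic

/-!
# Sets closed under midpoints

`G` acts 2-transitively on `Ω`, every involution fixing exactly one point. A midpoint of `x ≠ y` is
the fixed point of an involution interchanging `x` and `y`. If a subset `Δ` contains all midpoints
of pairs of its points, the involutions fixing a point of `Δ` leave `Δ` invariant
(`smul_mem_of_mid_closed`).
-/

set_option autoImplicit false

namespace Cfsg.Agent.StrongEmb.MidClosed

open Cfsg.Agent.StrongEmb.Basic Cfsg.Agent.TwoFusion.StronglyEmbeddedBasic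

variable {G Ω : Type*} [Group G] [MulAction G Ω]

/-- `z` is a midpoint of `x` and `y`. -/
def IsMid (G : Type*) {Ω : Type*} [Group G] [MulAction G Ω] (x y z : Ω) : Prop :=
  ∃ s : G, orderOf s = 2 ∧ s • z = z ∧ s • x = y

theorem IsMid.smul {x y z : Ω} (h : IsMid G x y z) (g : G) : IsMid G (g • x) (g • y) (g • z) := by
  obtain ⟨s, hs, hz, hx⟩ := h
  refine ⟨g * s * g⁻¹, by rw [orderOf_conj, hs], ?_, ?_⟩
  · rw [mul_smul, mul_smul, inv_smul_smul, hz]
  · rw [mul_smul, mul_smul, inv_smul_smul, hx]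

theorem isMid_smul_iff {x y z : Ω} (g : G) : IsMid G (g • x) (g • y) (g • z) ↔ IsMid G x y z := by
  constructor
  · intro h
    have := h.smul g⁻¹
    simpa using this
  · intro h
    exact h.smul g

theorem IsMid.ne (hU : UniqueFix G Ω) {x y z : Ω} (h : IsMid G x y z) : x ≠ y ↔ x ≠ z := by
  obtain ⟨s, hs, hz, hx⟩ := h
  constructor
  · rintro hxy rfl
    exact hxy (hz.symm.trans hx)
  · rintro hxz rfl
    exact hxz (hU.eq hs hx hz)

section Count

variable [DecidableEq Ω]

open Classical in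
/-- Counting triples `(x, y, z)` of points of `Δ` with `z` a midpoint of `x ≠ y` in two ways. -/
theorem sum_eq (hU : UniqueFix G Ω) (Δ : Finset Ω) :
    ∑ q ∈ Δ.offDiag, (Δ.filter (fun z => IsMid G q.1 q.2 z)).card =
      ∑ q ∈ Δ.offDiag, (Δ.filter (fun y => IsMid G q.1 y q.2)).card := by
  have e1 : ∀ q : Ω × Ω, (Δ.filter (fun z => IsMid G q.1 q.2 z)).card =
      ∑ z ∈ Δ, if IsMid G q.1 q.2 z then 1 else 0 := fun q => by rw [Finset.card_filter]
  have e2 : ∀ q : Ω × Ω, (Δ.filter (fun y => IsMid G q.1 y q.2)).card =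
      ∑ y ∈ Δ, if IsMid G q.1 y q.2 then 1 else 0 := fun q => by rw [Finset.card_filter]
  simp only [e1, e2]
  have h3 : ∀ f : Ω × Ω → ℕ, ∑ q ∈ Δ.offDiag, f q =
      ∑ x ∈ Δ, ∑ y ∈ Δ, if x ≠ y then f (x, y) else 0 := by
    intro f
    have hoff : Δ.offDiag = (Δ ×ˢ Δ).filter (fun q => q.1 ≠ q.2) := by
      ext q
      rw [Finset.mem_offDiag, Finset.mem_filter, Finset.mem_product]
      tauto
    rw [← Finset.sum_product', hoff, Finset.sum_filter]
  rw [h3, h3]
  refine Finset.sum_congr rfl (fun x _ => ?_)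
  have e3 : ∀ y : Ω, (if x ≠ y then ∑ z ∈ Δ, (if IsMid G x y z then 1 else 0) else 0) =
      ∑ z ∈ Δ, if (x ≠ y ∧ IsMid G x y z) then 1 else 0 := by
    intro y
    by_cases h : x ≠ y
    · simp [h]
    · simp [h]
  have e4 : ∀ z : Ω, (if x ≠ z then ∑ y ∈ Δ, (if IsMid G x y z then 1 else 0) else 0) =
      ∑ y ∈ Δ, if (x ≠ z ∧ IsMid G x y z) then 1 else 0 := by
    intro z
    by_cases h : x ≠ z
    · simp [h]
    · simp [h]
  simp only [e3, e4]
  rw [Finset.sum_comm]
  refine Finset.sum_congr rfl (fun z _ => Finset.sum_congr rfl (fun y _ => ?_))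
  by_cases h : IsMid G x y z
  · simp only [h, and_true, h.ne hU]
  · simp only [h, and_false]

end Count

/-- A set `Δ` containing all midpoints of pairs of its points is invariant under the involutions
fixing one of its points. -/
theorem smul_mem_of_mid_closed [Finite Ω] (hU : UniqueFix G Ω)
    (h2 : ∀ a b c d : Ω, a ≠ b → c ≠ d → ∃ g : G, g • a = c ∧ g • b = d) {Δ : Set Ω}
    (hmid : ∀ x ∈ Δ, ∀ y ∈ Δ, x ≠ y → ∀ z : Ω, IsMid G x y z → z ∈ Δ) {x z : Ω} (hx : x ∈ Δ)
    (hz : z ∈ Δ) {s : G} (hs : orderOf s = 2) (hsz : s • z = z) : s • x ∈ Δ := by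
  classical
  have : Fintype Ω := Fintype.ofFinite Ω
  by_cases hxz : x = z
  · rw [hxz, hsz]; exact hz
  -- the two numbers
  set e : ℕ := (Finset.univ.filter (fun w => IsMid G x z w)).card with he
  set e' : ℕ := (Finset.univ.filter (fun y => IsMid G x y z)).card with he'
  have hA : ∀ a b : Ω, a ≠ b → (Finset.univ.filter (fun w => IsMid G a b w)).card = e := by
    intro a b hab
    obtain ⟨g, hga, hgb⟩ := h2 x z a b hxz hab
    rw [he]
    refine (Finset.card_bij (fun w _ => g • w) ?_ ?_ ?_).symm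
    · intro w hw
      simp only [Finset.mem_filter, Finset.mem_univ, true_and] at hw ⊢
      rw [← hga, ← hgb]
      exact hw.smul g
    · intro w _ w' _ h
      exact smul_left_cancel g h
    · intro w hw
      simp only [Finset.mem_filter, Finset.mem_univ, true_and] at hw
      refine ⟨g⁻¹ • w, ?_, smul_inv_smul g w⟩
      simp only [Finset.mem_filter, Finset.mem_univ, true_and]
      rw [← isMid_smul_iff g, hga, hgb, smul_inv_smul]
      exact hw
  have hB : ∀ a c : Ω, a ≠ c → (Finset.univ.filter (fun y => IsMid G a y c)).card = e' := by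
    intro a b hab
    obtain ⟨g, hga, hgb⟩ := h2 x z a b hxz hab
    rw [he']
    refine (Finset.card_bij (fun w _ => g • w) ?_ ?_ ?_).symm
    · intro w hw
      simp only [Finset.mem_filter, Finset.mem_univ, true_and] at hw ⊢
      rw [← hga, ← hgb]
      exact hw.smul g
    · intro w _ w' _ h
      exact smul_left_cancel g h
    · intro w hw
      simp only [Finset.mem_filter, Finset.mem_univ, true_and] at hw
      refine ⟨g⁻¹ • w, ?_, smul_inv_smul g w⟩
      simp only [Finset.mem_filter, Finset.mem_univ, true_and]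
      rw [← isMid_smul_iff g, hga, hgb, smul_inv_smul]
      exact hw
  -- they are equal
  have hee : e = e' := by
    have h1 := sum_eq hU (Finset.univ : Finset Ω)
    have h3 : ∑ q ∈ (Finset.univ : Finset Ω).offDiag,
        ((Finset.univ : Finset Ω).filter (fun z => IsMid G q.1 q.2 z)).card =
        (Finset.univ : Finset Ω).offDiag.card * e := by
      rw [Finset.sum_const_nat]
      intro q hq
      exact hA q.1 q.2 (Finset.mem_offDiag.mp hq).2.2
    have h4 : ∑ q ∈ (Finset.univ : Finset Ω).offDiag,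
        ((Finset.univ : Finset Ω).filter (fun y => IsMid G q.1 y q.2)).card =
        (Finset.univ : Finset Ω).offDiag.card * e' := by
      rw [Finset.sum_const_nat]
      intro q hq
      exact hB q.1 q.2 (Finset.mem_offDiag.mp hq).2.2
    rw [h3, h4] at h1
    have hpos : 0 < (Finset.univ : Finset Ω).offDiag.card :=
      Finset.card_pos.mpr ⟨(x, z), Finset.mem_offDiag.mpr ⟨Finset.mem_univ _, Finset.mem_univ _, hxz⟩⟩
    exact Nat.eq_of_mul_eq_mul_left hpos h1
  -- the count in `Δ`
  set F : Finset Ω := Finset.univ.filter (fun w => w ∈ Δ) with hF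
  have hmF : ∀ w, w ∈ F ↔ w ∈ Δ := fun w => by simp [hF]
  have h1 := sum_eq hU F
  have h3 : ∑ q ∈ F.offDiag, (F.filter (fun z => IsMid G q.1 q.2 z)).card =
      ∑ q ∈ F.offDiag, e' := by
    refine Finset.sum_congr rfl (fun q hq => ?_)
    obtain ⟨hq1, hq2, hq3⟩ := Finset.mem_offDiag.mp hq
    rw [← hee, ← hA q.1 q.2 hq3]
    congr 1
    ext w
    simp only [Finset.mem_filter, Finset.mem_univ, true_and]
    refine ⟨fun h => h.2, fun h => ⟨(hmF w).mpr ?_, h⟩⟩
    exact hmid q.1 ((hmF _).mp hq1) q.2 ((hmF _).mp hq2) hq3 w h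
  rw [h3] at h1
  have hle : ∀ q ∈ F.offDiag, (F.filter (fun y => IsMid G q.1 y q.2)).card ≤ e' := by
    intro q hq
    obtain ⟨-, -, hq3⟩ := Finset.mem_offDiag.mp hq
    rw [← hB q.1 q.2 hq3]
    exact Finset.card_le_card (Finset.filter_subset_filter _ (Finset.subset_univ _))
  have heq := (Finset.sum_eq_sum_iff_of_le hle).mp h1.symm (x, z)
    (Finset.mem_offDiag.mpr ⟨(hmF x).mpr hx, (hmF z).mpr hz, hxz⟩)
  have hsub : F.filter (fun y => IsMid G x y z) ⊆ Finset.univ.filter (fun y => IsMid G x y z) :=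
    Finset.filter_subset_filter _ (Finset.subset_univ _)
  have hEq := Finset.eq_of_subset_of_card_le hsub (le_of_eq (by rw [hB x z hxz]; exact heq.symm))
  have hmem : s • x ∈ Finset.univ.filter (fun y => IsMid G x y z) := by
    simp only [Finset.mem_filter, Finset.mem_univ, true_and]
    exact ⟨s, hs, hsz, rfl⟩
  rw [← hEq] at hmem
  exact (hmF _).mp (Finset.mem_filter.mp hmem).1

/-- A nonempty set closed under midpoints is everything if the involutions fixing one of two of its
points generate `G`. -/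
theorem eq_univ_of_mid_closed [Finite Ω] (hU : UniqueFix G Ω)
    (h2 : ∀ a b c d : Ω, a ≠ b → c ≠ d → ∃ g : G, g • a = c ∧ g • b = d) {Δ : Set Ω}
    (hmid : ∀ x ∈ Δ, ∀ y ∈ Δ, x ≠ y → ∀ z : Ω, IsMid G x y z → z ∈ Δ) {x y : Ω} (hx : x ∈ Δ)
    (hy : y ∈ Δ) (hxy : x ≠ y)
    (hbig : Subgroup.closure {s : G | orderOf s = 2 ∧ (s • x = x ∨ s • y = y)} = ⊤) (w : Ω) :
    w ∈ Δ := by
  -- elements of `G` leave `Δ` invariant
  have hinv : ∀ g : G, ∀ c ∈ Δ, g • c ∈ Δ := by
    intro g
    have hg : g ∈ Subgroup.closure {s : G | orderOf s = 2 ∧ (s • x = x ∨ s • y = y)} := by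
      rw [hbig]; trivial
    induction hg using Subgroup.closure_induction with
    | mem s hs =>
      intro c hc
      rcases hs with ⟨hs2, hs3 | hs3⟩
      · exact smul_mem_of_mid_closed hU h2 hmid hc hx hs2 hs3
      · exact smul_mem_of_mid_closed hU h2 hmid hc hy hs2 hs3
    | one => intro c hc; rwa [one_smul]
    | mul g h _ _ ihg ihh => intro c hc; rw [mul_smul]; exact ihg _ (ihh c hc)
    | inv g _ ih =>
      intro c hc
      -- a finite set mapped into itself
      have hf : Set.MapsTo (fun c => g • c) Δ Δ := fun c hc => ih c hc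
      have hinj : Set.InjOn (fun c => g • c) Δ := fun a _ b _ h => smul_left_cancel g h
      have hbij := (Set.Finite.injOn_iff_bijOn_of_mapsTo (Set.toFinite Δ) hf).mp hinj
      obtain ⟨d, hd, hdc⟩ := hbij.surjOn hc
      change g • d = c at hdc
      rw [← hdc, inv_smul_smul]
      exact hd
  by_cases hwx : w = x
  · rw [hwx]; exact hx
  · obtain ⟨g, -, hg⟩ := h2 x y x w hxy (Ne.symm hwx)
    rw [← hg]
    exact hinv g y hy

end Cfsg.Agent.StrongEmb.MidClosed
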