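import Cfsg.Agent.StrongEmb.RGoodTools
import Cfsg.Agent.StrongEmb.MidClosed
import Cfsg.Agent.StrongEmb.Frame
import Cfsg.Agent.StrongEmb.CoreCentral
import Cfsg.Agent.TwoFusion.BenderStar
import Cfsg.Agent.Lib.LocalCore

/-!
# Bender's theorem, involutions normalizing `p`-subgroups (R-GOOD), the end

`H` strongly embedded in `G`, `G` 2-transitive on `G ⧸ H`, any two points big, `Star H p`. If an
element of order `p` of `G_x ∩ G_y` is inverted by an involution interchanging `x` and `y` and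
centralized by an involution, then `N_G(ZJ(P))` cannot be big (`P` a Sylow `p`-subgroup of
`G_x ∩ G_y`).
-/

set_option autoImplicit false

universe u

namespace Cfsg.Agent.StrongEmb.RGoodEnd

open Cfsg MulAction Cfsg.Agent.TwoFusion.StronglyEmbeddedBasic
open Cfsg.Agent.SignalizersComponents.BenderCount
open Cfsg.Agent.SignalizersComponents.BenderPerfect
open Cfsg.Agent.Blocks.SylowIn
open Cfsg.Agent.TwoFusion.BenderTwoTrans
open Cfsg.Agent.Lib.LocalCore
open Cfsg.Agent.StrongEmb.Basic Cfsg.Agent.StrongEmb.TwoRank Cfsg.Agent.StrongEmb.Frame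
open Cfsg.Agent.StrongEmb.CoreCentral Cfsg.Agent.StrongEmb.MidClosed
open Cfsg.Agent.StrongEmb.Split (BenderHolds)

section Small

variable {G : Type*} [Group G]

/-- Two involutions with product of odd order are conjugate by a power of the product. -/
theorem conj_pow_eq {v w : G} (hv : orderOf v = 2) (hw : orderOf w = 2)
    (hodd : Odd (orderOf (v * w))) : ∃ n : ℕ, (v * w) ^ n * v * ((v * w) ^ n)⁻¹ = w := by
  obtain ⟨m, hm⟩ := hodd
  refine ⟨m, ?_⟩
  have hvi := inv_eq_self_of_orderOf hv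
  have hwi := inv_eq_self_of_orderOf hw
  have h1 : v * (v * w) * v⁻¹ = (v * w)⁻¹ := by
    rw [mul_inv_rev, hvi, hwi, ← mul_assoc, mul_self_of_orderOf hv, one_mul]
  have h2 : v * (v * w) ^ m * v⁻¹ = ((v * w) ^ m)⁻¹ := by
    rw [← conj_pow, h1, inv_pow]
  have h3 : v * ((v * w) ^ m)⁻¹ = (v * w) ^ m * v := by
    have h4 : v * ((v * w) ^ m)⁻¹ * v⁻¹ = (v * w) ^ m := by
      have h5 : v * ((v * w) ^ m)⁻¹ * v⁻¹ = (v * (v * w) ^ m * v⁻¹)⁻¹ := by group
      rw [h5, h2, inv_inv]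
    calc v * ((v * w) ^ m)⁻¹ = v * ((v * w) ^ m)⁻¹ * v⁻¹ * v := by group
      _ = (v * w) ^ m * v := by rw [h4]
  have h6 : (v * w) ^ (m + m) = (v * w)⁻¹ := by
    rw [eq_inv_iff_mul_eq_one, ← pow_succ]
    have : m + m + 1 = orderOf (v * w) := by rw [hm]; ring
    rw [this, pow_orderOf_eq_one]
  calc (v * w) ^ m * v * ((v * w) ^ m)⁻¹ = (v * w) ^ m * (v * ((v * w) ^ m)⁻¹) := by group
    _ = (v * w) ^ (m + m) * v := by rw [h3, pow_add]; group
    _ = w := by rw [h6, mul_inv_rev, hvi, hwi, mul_assoc, mul_self_of_orderOf hv, mul_one]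

end Small

section Points

variable {G : Type*} [Group G] [Finite G] {H : Subgroup G}

/-- `G_x ∩ G_y` is transitive on the involutions interchanging `x` and `y`. -/
theorem exists_conj_swap (hH : IsStronglyEmbedded H) {x y : G ⧸ H} (hxy : x ≠ y) {v w : G}
    (hv : v ∈ invs x y) (hw : w ∈ invs x y) : ∃ d ∈ stab2 x y, d * v * d⁻¹ = w := by
  have h1 : v * w ∈ stab2 x y := by
    rw [mem_stab2, mul_smul, mul_smul, hw.2, smul_of_mem_invs hv, smul_of_mem_invs hw, hv.2]
    exact ⟨rfl, rfl⟩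
  have h2 : Odd (orderOf (v * w)) :=
    Odd.of_dvd_nat (odd_stab2 hH hxy) (Subgroup.orderOf_dvd_natCard _ h1)
  obtain ⟨n, hn⟩ := conj_pow_eq hv.1 hw.1 h2
  exact ⟨_, Subgroup.pow_mem _ h1 n, hn⟩

/-- `O_{p'}(G_x ∩ G_y)` -/
abbrev core2 (p : ℕ) (x y : G ⧸ H) : Subgroup G :=
  (pPrimeCore p (stab2 x y)).map (stab2 x y).subtype

theorem swap_core2 (p : ℕ) {x y : G ⧸ H} {v : G} (hv : v ∈ invs x y) :
    ∀ b ∈ core2 p x y, v * b * v⁻¹ ∈ core2 p x y := by
  have hle : core2 p x y ≤ stab2 x y := Subgroup.map_subtype_le _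
  have hsw := swap_normalizes hv
  have hsw' : ∀ u ∈ stab2 x y, v⁻¹ * u * v ∈ stab2 x y := by
    intro u hu
    have h := hsw u hu
    have hvi := inv_eq_self_of_orderOf hv.1
    rw [hvi] at h ⊢
    exact h
  have h1 : (core2 p x y).map (MulAut.conj v).toMonoidHom ≤ core2 p x y := by
    refine le_map_pPrimeCore ?_ ?_ ?_
    · rintro _ ⟨b, hb, rfl⟩
      exact hsw b (hle hb)
    · rw [Subgroup.card_map_of_injective (MulAut.conj v).injective]
      exact card_map_pPrimeCore_coprime p _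
    · intro y' hy'
      apply mem_normalizer_of_forall
      rintro _ ⟨b, hb, rfl⟩
      have h2 := le_normalizer_map_pPrimeCore p _ (hsw' y' hy')
      have h3 := (Subgroup.mem_normalizer_iff.mp h2 b).mp hb
      refine ⟨_, h3, ?_⟩
      simp only [MulEquiv.coe_toMonoidHom, MulAut.conj_apply]
      group
  intro b hb
  exact h1 ⟨b, hb, rfl⟩

/-- The normalizer of `⟨k⟩` fixes the fixed point of an involution inverting `k`, if an involution
centralizes `k`. -/
theorem smul_of_inverted (hH : IsStronglyEmbedded H) {k t v : G} (hk : k * k ≠ 1)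
    (ht : orderOf t = 2) (htk : t * k * t⁻¹ = k⁻¹) (hv : orderOf v = 2) (hvk : Commute v k)
    {z : G ⧸ H} (hz : t • z = z) {m : G} (hm : m ∈ Subgroup.normalizer
      ((Subgroup.zpowers k : Subgroup G) : Set G)) : m • z = z := by
  set M := Subgroup.normalizer ((Subgroup.zpowers k : Subgroup G) : Set G) with hM
  have htM : t ∈ M := by
    apply mem_normalizer_of_forall
    rintro _ ⟨n, rfl⟩
    refine ⟨-n, ?_⟩
    show k ^ (-n) = t * k ^ n * t⁻¹
    rw [← conj_zpow, htk, inv_zpow, zpow_neg]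
  have hvM : v ∈ M := by
    apply mem_normalizer_of_forall
    rintro _ ⟨n, rfl⟩
    refine ⟨n, ?_⟩
    show k ^ n = v * k ^ n * v⁻¹
    rw [(hvk.zpow_right n).eq]; group
  by_contra hmz
  have hU := (uniqueFix_quotient hH).subgroup M
  have hc := hU.isConj (t := ⟨t, htM⟩) (x := z) (by rw [Subgroup.orderOf_mk]; exact ht) hz
    (g := ⟨m, hm⟩) hmz (a := ⟨v, hvM⟩) (b := ⟨t, htM⟩) (by rw [Subgroup.orderOf_mk]; exact hv)
    (by rw [Subgroup.orderOf_mk]; exact ht)
  obtain ⟨⟨c, hc⟩, hcv⟩ := isConj_iff.mp hc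
  have hcv' : c * v * c⁻¹ = t := congrArg Subtype.val hcv
  obtain ⟨n, hn⟩ : c⁻¹ * k * c ∈ Subgroup.zpowers k := by
    have := forall_of_mem_normalizer (inv_mem hc) k (Subgroup.mem_zpowers k)
    rwa [inv_inv] at this
  have hn' : k ^ n = c⁻¹ * k * c := hn
  have h1 : v * (c⁻¹ * k * c) * v⁻¹ = c⁻¹ * k * c := by
    rw [← hn', (hvk.zpow_right n).eq]; group
  have h2 : t * k * t⁻¹ = k := by
    rw [← hcv']
    calc c * v * c⁻¹ * k * (c * v * c⁻¹)⁻¹ = c * (v * (c⁻¹ * k * c) * v⁻¹) * c⁻¹ := by group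
      _ = k := by rw [h1]; group
  rw [h2] at htk
  apply hk
  nth_rewrite 1 [htk]
  exact inv_mul_cancel k

/-- `O_{p'}(G_x ∩ G_y)` fixes the fixed point of an involution interchanging `x` and `y`, if this
involution inverts an element of order `p` of `G_x ∩ G_y` centralized by an involution. -/
theorem core2_smul (hH : IsStronglyEmbedded H) {p : ℕ} [hp : Fact p.Prime] (hp2 : p ≠ 2)
    {x y : G ⧸ H} (hxy : x ≠ y) {t k v : G} (ht : t ∈ invs x y) (hk : k ∈ stab2 x y)
    (hkp : orderOf k = p) (htk : t * k * t⁻¹ = k⁻¹) (hv : orderOf v = 2) (hvk : Commute v k)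
    {z : G ⧸ H} (hz : t • z = z) {b : G} (hb : b ∈ core2 p x y) : b • z = z := by
  have hU := uniqueFix_quotient hH
  have hkk : k * k ≠ 1 := by
    intro h
    have h1 : orderOf k ∣ 2 := orderOf_dvd_of_pow_eq_one (by rw [pow_two]; exact h)
    rw [hkp] at h1
    exact hp2 ((Nat.prime_dvd_prime_iff_eq hp.out Nat.prime_two).mp h1)
  have hM : ∀ m ∈ Subgroup.normalizer ((Subgroup.zpowers k : Subgroup G) : Set G), m • z = z :=
    fun m hm => smul_of_inverted hH hkk ht.1 htk hv hvk hz hm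
  have htt := mul_self_of_orderOf ht.1
  have hti := inv_eq_self_of_orderOf ht.1
  have htk' : t * k * t = k⁻¹ := by rw [hti] at htk; exact htk
  have hkz : k • z = z := hM k (Subgroup.le_normalizer (Subgroup.mem_zpowers k))
  have htk2 : orderOf (t * k) = 2 := by
    apply orderOf_eq_two_of_mul_self
    · rw [← mul_assoc, htk', inv_mul_cancel]
    · intro h
      have h1 : (t * k) • x = y := by rw [mul_smul, (mem_stab2.mp hk).1, ht.2]
      rw [h, one_smul] at h1
      exact hxy h1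
  have hle : core2 p x y ≤ stab2 x y := Subgroup.map_subtype_le _
  have key : core2 p x y ≤ MulAction.stabilizer G z := by
    refine DihedralGen.le_of_dihedral hp.out (MulAction.stabilizer G z) (core2 p x y)
      (t := t) (k := k) ?_ ?_ ⟨1, ?_⟩ htt htk' (swap_core2 p ht) ?_ ?_ ?_ ?_
    · exact Odd.of_dvd_nat (odd_stab2 hH hxy) (Subgroup.card_dvd_of_le hle)
    · have h1 := card_map_pPrimeCore_coprime p (stab2 x y)
      exact (Nat.Prime.coprime_iff_not_dvd hp.out).mp h1.symm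
    · rw [pow_one, ← hkp, pow_orderOf_eq_one]
    · exact forall_of_mem_normalizer (le_normalizer_map_pPrimeCore p _ hk)
    · intro c _ hc
      refine hM c (mem_normalizer_of_forall ?_)
      rintro _ ⟨n, rfl⟩
      refine ⟨n, ?_⟩
      show k ^ n = c * k ^ n * c⁻¹
      rw [(hc.symm.zpow_right n).eq]; group
    · intro c _ hc
      exact hU.fix_of_commute ht.1 hz hc.symm
    · intro c _ hc
      exact hU.fix_of_commute htk2 (by rw [mul_smul, hkz, hz]) hc.symm
  exact key hb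

theorem core2_smul' (hH : IsStronglyEmbedded H) {p : ℕ} [hp : Fact p.Prime] (hp2 : p ≠ 2)
    {x y : G ⧸ H} (hxy : x ≠ y) {t k v : G} (ht : t ∈ invs x y) (hk : k ∈ stab2 x y)
    (hkp : orderOf k = p) (htk : t * k * t⁻¹ = k⁻¹) (hv : orderOf v = 2) (hvk : Commute v k)
    {w : G} (hw : w ∈ invs x y) {z : G ⧸ H} (hz : w • z = z) {b : G} (hb : b ∈ core2 p x y) :
    b • z = z := by
  obtain ⟨d, hd, hdw⟩ := exists_conj_swap hH hxy ht hw
  have h1 : t • (d⁻¹ • z) = d⁻¹ • z := by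
    have h2 : t = d⁻¹ * w * d := by rw [← hdw]; group
    rw [h2, mul_smul, smul_inv_smul, mul_smul, hz]
  have h3 : d⁻¹ * b * d ∈ core2 p x y := by
    have := forall_of_mem_normalizer (inv_mem (le_normalizer_map_pPrimeCore p _ hd)) b hb
    rwa [inv_inv] at this
  have h4 := core2_smul hH hp2 hxy ht hk hkp htk hv hvk h1 h3
  rw [mul_smul, smul_inv_smul, mul_smul] at h4
  exact smul_left_cancel _ h4

end Points

section Main

variable {G : Type u} [Group G] [Finite G] {H : Subgroup G}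

/-- The end of R-GOOD. -/
theorem false_of_elt {p : ℕ} [hp : Fact p.Prime]
    (hFT : ∀ (K : Type u) [Group K] [Finite K], Odd (Nat.card K) → Group.IsSolvable K)
    (hIH : ∀ (K : Type u) [Group K] [Finite K], Nat.card K < Nat.card G → BenderHolds K)
    (hH : IsStronglyEmbedded H) (hcore : H.normalCore = ⊥) (hs : Star H p) (h2 : TwoTrans H)
    (hbig : ∀ x y : G ⧸ H, x ≠ y → Subgroup.closure (invs x x ∪ invs y y) = ⊤)
    {x y : G ⧸ H} (hxy : x ≠ y) {P : Subgroup G} (hP : SylIn p (stab2 x y) P) (hP1 : P ≠ ⊥)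
    {t a b : G} (ht : t ∈ invs x y)
    (htJ : t ∈ Subgroup.normalizer (centerThompsonAOf P : Set G))
    (haJ : a ∈ Subgroup.normalizer (centerThompsonAOf P : Set G))
    (hbJ : b ∈ Subgroup.normalizer (centerThompsonAOf P : Set G))
    (ha : a ∈ invs x x) (hb : b ∈ invs x x) (hab : a ≠ b) (hc : Commute a b)
    {x' y' : G ⧸ H} (hxy' : x' ≠ y') {t' k v : G} (ht' : t' ∈ invs x' y')
    (hk : k ∈ stab2 x' y') (hkp : orderOf k = p) (htk : t' * k * t'⁻¹ = k⁻¹)
    (hv : orderOf v = 2) (hvk : Commute v k) : False := by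
  have hU := uniqueFix_quotient hH
  have hp2 := TwoFusion.BenderStar.ne_two_of_star hH hs
  obtain ⟨hPD, hPp, -⟩ := exists_sylow_map_eq_iff.mp hP
  set J := centerThompsonAOf P with hJ
  have hJP : J ≤ P := PLocal.ThompsonJA.centerThompsonAOf_le P
  have hJ1 : J ≠ ⊥ := PLocal.ThompsonJA.centerThompsonAOf_ne_bot P hPp hP1
  -- `Θ` fixes the midpoints of `x`, `y`
  have hΘ : ∀ w ∈ invs x y, ∀ z : G ⧸ H, w • z = z → ∀ c ∈ core2 p x y, c • z = z := by
    obtain ⟨g, hgx, hgy⟩ := h2.exists hxy' hxy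
    have e1 : g * t' * g⁻¹ ∈ invs x y := by
      refine ⟨by rw [orderOf_conj]; exact ht'.1, ?_⟩
      rw [← hgx, mul_smul, inv_smul_smul, mul_smul, ht'.2, hgy]
    have e2 : g * k * g⁻¹ ∈ stab2 x y := by
      rw [mem_stab2] at hk ⊢
      rw [← hgx, ← hgy]
      simp only [mul_smul, inv_smul_smul, hk.1, hk.2, and_self]
    have e3 : (g * t' * g⁻¹) * (g * k * g⁻¹) * (g * t' * g⁻¹)⁻¹ = (g * k * g⁻¹)⁻¹ := by
      calc (g * t' * g⁻¹) * (g * k * g⁻¹) * (g * t' * g⁻¹)⁻¹ = g * (t' * k * t'⁻¹) * g⁻¹ := by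
            group
        _ = (g * k * g⁻¹)⁻¹ := by rw [htk]; group
    have e4 : Commute (g * v * g⁻¹) (g * k * g⁻¹) := by
      show (g * v * g⁻¹) * (g * k * g⁻¹) = (g * k * g⁻¹) * (g * v * g⁻¹)
      calc (g * v * g⁻¹) * (g * k * g⁻¹) = g * (v * k) * g⁻¹ := by group
        _ = g * (k * v) * g⁻¹ := by rw [hvk.eq]
        _ = (g * k * g⁻¹) * (g * v * g⁻¹) := by group
    intro w hw z hz c hc'
    exact core2_smul' hH hp2 hxy e1 e2 (by rw [orderOf_conj]; exact hkp) e3
      (by rw [orderOf_conj]; exact hv) e4 hw hz hc'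
  -- `N₁` is proper
  set N₁ := Subgroup.normalizer (J : Set G) with hN₁
  have hJcore : ∀ g ∈ J, (∀ z : G ⧸ H, g • z = z) → g = 1 := by
    intro g _ hg
    have h1 := mem_normalCore_of_smul hg
    rwa [hcore, Subgroup.mem_bot] at h1
  have hJne : ¬ ∀ g ∈ J, ∀ z : G ⧸ H, g • z = z := by
    intro h
    apply hJ1
    rw [Subgroup.eq_bot_iff_forall]
    exact fun g hg => hJcore g hg (h g hg)
  have hN1 : N₁ ≠ ⊤ := by
    intro htop
    apply hJne
    intro g hg z
    obtain ⟨h, hh⟩ := MulAction.exists_smul_eq G x z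
    have h3 : h⁻¹ ∈ N₁ := by rw [htop]; trivial
    have h4 := forall_of_mem_normalizer h3 g hg
    rw [inv_inv] at h4
    have h5 := (mem_stab2.mp (hPD (hJP h4))).1
    rw [← hh]
    rw [mul_smul, mul_smul, inv_smul_eq_iff] at h5
    exact h5
  have htx : t • x ≠ x := by rw [ht.2]; exact hxy.symm
  have hgood : Good N₁ x := good_of_ih hIH hU hN1 haJ hbJ ha.1 hb.1 hab hc ha.2 htJ htx
  -- the fixed point of `t`
  obtain ⟨z₀, hz₀⟩ := hU.exists ht.1
  set Δ : Set (G ⧸ H) := orbit N₁ x with hΔ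
  have hxΔ : x ∈ Δ := MulAction.mem_orbit_self x
  have hyΔ : y ∈ Δ := mem_orbit_subgroup.mpr ⟨t, htJ, ht.2⟩
  have hz₀Δ : z₀ ∈ Δ := by
    obtain ⟨k, hk⟩ := (hU.subgroup N₁).exists_smul_eq (t := ⟨a, haJ⟩) (x := x)
      (by rw [Subgroup.orderOf_mk]; exact ha.1) ha.2 (g := ⟨t, htJ⟩) htx (a := ⟨t, htJ⟩)
      (by rw [Subgroup.orderOf_mk]; exact ht.1) (y := z₀) hz₀
    exact ⟨k, hk⟩
  -- midpoints of `x`, `y`
  have hM0 : ∀ z : G ⧸ H, IsMid G x y z → z ∈ Δ := by
    rintro z ⟨w, hw, hwz, hwx⟩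
    have hw' : w ∈ invs x y := ⟨hw, hwx⟩
    obtain ⟨d, hd, hdw⟩ := exists_conj_swap hH hxy ht hw'
    have hdz : d • z₀ = z := hU.smul_eq_of_conj hw hz₀ hwz hdw
    have hfac := RGoodTools.zj_factor_sub (G := G) (Y := stab2 x y) (Q := P)
      (hFT _ (odd_stab2 hH hxy)) hp2 (by
        intro T
        have hT : (T : Subgroup (stab2 x y)) = ⊥ := by
          rw [← Subgroup.card_eq_one]
          obtain ⟨n, hn⟩ := IsPGroup.iff_card.mp T.isPGroup'
          have h3 : Odd (Nat.card T) :=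
            Odd.of_dvd_nat (odd_stab2 hH hxy) (Subgroup.card_subgroup_dvd_card _)
          rw [hn] at h3 ⊢
          rcases Nat.eq_zero_or_pos n with h | h
          · rw [h, pow_zero]
          · exact absurd ((Nat.even_pow.mpr ⟨even_two, h.ne'⟩)) (Nat.not_even_iff_odd.mpr h3)
        rw [hT]
        exact ⟨⟨fun a b => Subsingleton.elim _ _⟩⟩)
      hPD hPp (by
        obtain ⟨S, hS⟩ := hP
        have h3 : (P.subgroupOf (stab2 x y)) = (S : Subgroup (stab2 x y)) := by
          rw [← hS]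
          exact Subgroup.comap_map_eq_self_of_injective (stab2 x y).subtype_injective _
        show ¬ p ∣ (P.subgroupOf (stab2 x y)).index
        rw [h3]
        exact S.not_dvd_index)
    have hd' : d ∈ (pPrimeCore p (stab2 x y)).map (stab2 x y).subtype ⊔
        (stab2 x y ⊓ Subgroup.normalizer (centerThompsonAOf P : Set G)) := by
      rw [← hfac]; exact hd
    rw [sup_comm] at hd'
    have hnor : (stab2 x y ⊓ Subgroup.normalizer (centerThompsonAOf P : Set G)) ≤
        Subgroup.normalizer (((pPrimeCore p (stab2 x y)).map (stab2 x y).subtype : Subgroup G) :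
          Set G) := inf_le_left.trans (le_normalizer_map_pPrimeCore p _)
    have hd'' := hd'
    rw [← SetLike.mem_coe, Subgroup.coe_mul_of_left_le_normalizer_right _ _ hnor] at hd''
    obtain ⟨n, hn, θ, hθ, rfl⟩ := Set.mem_mul.mp hd''
    have h4 : θ • z₀ = z₀ := hΘ t ht z₀ hz₀ θ hθ
    rw [mul_smul, h4] at hdz
    rw [← hdz]
    exact smul_mem_orbit hn.2 hz₀Δ
  have hmid : ∀ c ∈ Δ, ∀ d ∈ Δ, c ≠ d → ∀ z : G ⧸ H, IsMid G c d z → z ∈ Δ := by
    intro c hc' d hd hcd z hz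
    obtain ⟨n, hn, hnc, hnd⟩ := hgood.two_trans hc' hd hxΔ hyΔ hcd hxy
    have h3 : IsMid G x y (n • z) := by
      rw [← hnc, ← hnd]; exact hz.smul n
    have h4 := smul_mem_orbit (inv_mem hn) (hM0 _ h3)
    rwa [inv_smul_smul] at h4
  have hall : ∀ z : G ⧸ H, z ∈ Δ := by
    intro z
    refine eq_univ_of_mid_closed hU (fun a b c d hab hcd => h2.exists hab hcd) hmid hxΔ hyΔ hxy
      ?_ z
    rw [eq_top_iff, ← hbig x y hxy]
    apply Subgroup.closure_mono
    rintro s (hs' | hs')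
    · exact ⟨hs'.1, Or.inl hs'.2⟩
    · exact ⟨hs'.1, Or.inr hs'.2⟩
  -- `J` fixes all points
  apply hJne
  intro g hg z
  have h3 : g ∈ coreOf N₁ := by
    have h4 : (J.subgroupOf N₁) ≤ oddCore N₁ := by
      refine le_oddCore ?_ ?_
      · exact Subgroup.normal_in_normalizer
      · have h5 : Odd (Nat.card J) := odd_of_pGroup hp2 (hPp.to_le hJP)
        exact Odd.of_dvd_nat h5 (Subgroup.card_comap_dvd_of_injective J _ N₁.subtype_injective)
    exact ⟨⟨g, Subgroup.le_normalizer hg⟩, h4 hg, rfl⟩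
  exact hgood.core_smul g h3 z (hall z)

end Main

end Cfsg.Agent.StrongEmb.RGoodEnd
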