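import Mathlib
import Cfsg.Agent.Lib.Cores
import Cfsg.Agent.Lib.SolvableMinNormal
import Cfsg.Agent.SignalizersComponents.HyperplaneFix
import Cfsg.Agent.StrongEmb.CaseOneLemma
import Cfsg.Agent.StrongEmb.TheoremZ

/-!
# Theorem Z for a class of involutions

As `Cfsg.Agent.StrongEmb.TheoremZ.theoremZ`, for a set `I` of involutions of `H`, closed under
conjugation and under products of two distinct commuting elements (`Cls I`), instead of the set of
all involutions.
-/

set_option autoImplicit false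

namespace Cfsg.Agent.StrongEmb.TheoremZClass

open Cfsg.Agent.StrongEmb.CaseOneLemma (orderOf_conj mul_self_of_orderOf ne_one_of_orderOf
  orderOf_two_of_sq commute_cancel commute_conj conj_pow_succ orb self_mem_orb orb_conj)
open Cfsg.Agent.StrongEmb.TheoremZ (conj_eq_iff_commute cent mem_cent cent_conj card_cent_conj
  mem_iff_of_normalised orderOf_of_pow card_ne_one exists_base)

open scoped Pointwise

variable {H : Type*} [Group H]

/-- A set of involutions closed under conjugation and under products of two distinct commuting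
elements. -/
structure Cls (I : Set H) : Prop where
  ord : ∀ s ∈ I, orderOf s = 2
  conj : ∀ g : H, ∀ s ∈ I, g * s * g⁻¹ ∈ I
  mul : ∀ s ∈ I, ∀ t ∈ I, Commute s t → s ≠ t → s * t ∈ I

/-- The subgroup generated by `I`. -/
def gen (I : Set H) : Subgroup H := Subgroup.closure I

theorem mem_gen {I : Set H} {s : H} (hs : s ∈ I) : s ∈ gen I := Subgroup.subset_closure hs

theorem Cls.conj' {I : Set H} (hI : Cls I) (g : H) {s : H} (hs : s ∈ I) : g⁻¹ * s * g ∈ I := by
  have := hI.conj g⁻¹ s hs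
  rwa [inv_inv] at this

theorem Cls.gen_normal {I : Set H} (hI : Cls I) : (gen I).Normal := by
  refine ⟨fun n hn g => ?_⟩
  have : (gen I).map (MulAut.conj g).toMonoidHom ≤ gen I := by
    rw [gen, MonoidHom.map_closure, Subgroup.closure_le]
    rintro _ ⟨s, hs, rfl⟩
    exact Subgroup.subset_closure (hI.conj g s hs)
  exact this ⟨n, hn, rfl⟩

theorem Cls.mul_self {I : Set H} (hI : Cls I) {s : H} (hs : s ∈ I) : s * s = 1 :=
  mul_self_of_orderOf (hI.ord s hs)

theorem Cls.ne_one {I : Set H} (hI : Cls I) {s : H} (hs : s ∈ I) : s ≠ 1 :=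
  ne_one_of_orderOf (hI.ord s hs)

/-- The product of two commuting elements of `I ∪ {1}` is in `I ∪ {1}`. -/
theorem Cls.mul_or {I : Set H} (hI : Cls I) {a b : H} (ha : a ∈ I ∨ a = 1) (hb : b ∈ I ∨ b = 1)
    (h : Commute a b) : a * b ∈ I ∨ a * b = 1 := by
  rcases ha with ha | rfl
  · rcases hb with hb | rfl
    · by_cases hab : a = b
      · right; rw [hab]; exact hI.mul_self hb
      · left; exact hI.mul a ha b hb h hab
    · left; rwa [mul_one]
  · rw [one_mul]; exact hb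

/-- The closure of a commuting subset of `I` is contained in `I ∪ {1}`. -/
theorem Cls.closure_or {I : Set H} (hI : Cls I) {k : Set H} (hk : k ⊆ I)
    (hc : ∀ x ∈ k, ∀ y ∈ k, x * y = y * x) {a : H} (ha : a ∈ Subgroup.closure k) :
    a ∈ I ∨ a = 1 := by
  have hcomm : ∀ a ∈ Subgroup.closure k, ∀ b ∈ Subgroup.closure k, a * b = b * a := by
    intro a ha b hb
    have hm := Subgroup.isMulCommutative_closure hc
    exact congrArg Subtype.val (hm.is_comm.comm (⟨a, ha⟩ : Subgroup.closure k) ⟨b, hb⟩)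
  induction ha using Subgroup.closure_induction with
  | mem y hy => exact Or.inl (hk hy)
  | one => exact Or.inr rfl
  | mul u v hu hv hu1 hv1 => exact hI.mul_or hu1 hv1 (hcomm u hu v hv)
  | inv u hu hu1 =>
    rcases hu1 with hu1 | rfl
    · left
      rwa [inv_eq_of_mul_eq_one_left (hI.mul_self hu1)]
    · right; exact inv_one

/-- The powers of `x` also move `s` to something commuting with `s`. -/
theorem commute_pow {I : Set H} (hI : Cls I) {x : H} (h1 : ∀ s ∈ I, Commute s (x * s * x⁻¹))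
    (hne : ∀ s ∈ I, x * s * x⁻¹ ≠ s) (j : ℕ) :
    (∀ s ∈ I, Commute s (x ^ j * s * (x ^ j)⁻¹)) ∧
    (∀ s ∈ I, Commute s (x ^ (j + 1) * s * (x ^ (j + 1))⁻¹)) := by
  induction j with
  | zero =>
    refine ⟨fun s _ => by simp, fun s hs => by simpa using h1 s hs⟩
  | succ j ih =>
    obtain ⟨ih0, ih1⟩ := ih
    refine ⟨ih1, fun s hs => ?_⟩
    have hs1 : s * (x * s * x⁻¹) ∈ I :=
      hI.mul s hs _ (hI.conj x s hs) (h1 s hs) (hne s hs).symm
    have hc := ih1 _ hs1
    have e1 : x ^ (j + 1) * (s * (x * s * x⁻¹)) * (x ^ (j + 1))⁻¹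
        = (x ^ (j + 1) * s * (x ^ (j + 1))⁻¹) * (x ^ (j + 1 + 1) * s * (x ^ (j + 1 + 1))⁻¹) := by
      rw [pow_succ x (j + 1)]; group
    rw [e1] at hc
    refine commute_cancel hc (ih1 s hs) ?_ ?_
    · rw [conj_pow_succ]
      exact commute_conj x (ih0 s hs)
    · rw [conj_pow_succ x s (j + 1)]
      exact commute_conj x (ih1 s hs)

theorem commute_conj_pow {I : Set H} (hI : Cls I) {x : H}
    (h1 : ∀ s ∈ I, Commute s (x * s * x⁻¹))
    (hne : ∀ s ∈ I, x * s * x⁻¹ ≠ s) {s : H} (hs : s ∈ I) (i j : ℕ) :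
    Commute (x ^ i * s * (x ^ i)⁻¹) (x ^ j * s * (x ^ j)⁻¹) := by
  rcases le_total i j with h | h
  · obtain ⟨k, rfl⟩ := Nat.exists_eq_add_of_le h
    have : x ^ (i + k) * s * (x ^ (i + k))⁻¹ = x ^ i * (x ^ k * s * (x ^ k)⁻¹) * (x ^ i)⁻¹ := by
      rw [pow_add]; group
    rw [this]
    exact commute_conj _ ((commute_pow hI h1 hne k).1 s hs)
  · obtain ⟨k, rfl⟩ := Nat.exists_eq_add_of_le h
    have : x ^ (j + k) * s * (x ^ (j + k))⁻¹ = x ^ j * (x ^ k * s * (x ^ k)⁻¹) * (x ^ j)⁻¹ := by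
      rw [pow_add]; group
    rw [this]
    exact (commute_conj _ ((commute_pow hI h1 hne k).1 s hs)).symm

theorem orb_comm {I : Set H} (hI : Cls I) {x : H} (h1 : ∀ s ∈ I, Commute s (x * s * x⁻¹))
    (hne : ∀ s ∈ I, x * s * x⁻¹ ≠ s) {s : H} (hs : s ∈ I)
    {a b : H} (ha : a ∈ orb x s) (hb : b ∈ orb x s) : Commute a b := by
  have hm := Subgroup.isMulCommutative_closure (k := {y | ∃ j : ℕ, y = x ^ j * s * (x ^ j)⁻¹})
    (by rintro _ ⟨i, rfl⟩ _ ⟨j, rfl⟩; exact (commute_conj_pow hI h1 hne hs i j).eq)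
  exact congrArg Subtype.val (hm.is_comm.comm (⟨a, ha⟩ : orb x s) ⟨b, hb⟩)

theorem orb_or {I : Set H} (hI : Cls I) {x : H} (h1 : ∀ s ∈ I, Commute s (x * s * x⁻¹))
    (hne : ∀ s ∈ I, x * s * x⁻¹ ≠ s) {s : H} (hs : s ∈ I)
    {a : H} (ha : a ∈ orb x s) : a ∈ I ∨ a = 1 := by
  refine hI.closure_or (k := {y | ∃ j : ℕ, y = x ^ j * s * (x ^ j)⁻¹}) ?_ ?_ ha
  · rintro _ ⟨j, rfl⟩
    exact hI.conj _ s hs
  · rintro _ ⟨i, rfl⟩ _ ⟨j, rfl⟩; exact (commute_conj_pow hI h1 hne hs i j).eq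

theorem orb_le {I : Set H} (hI : Cls I) (x : H) {s : H} (hs : s ∈ I) : orb x s ≤ gen I := by
  rw [orb, Subgroup.closure_le]
  rintro _ ⟨j, rfl⟩
  exact mem_gen (hI.conj _ s hs)

section Finite

variable [Finite H]

/-- `s * x` is conjugate to `x` under `gen I`. -/
theorem exists_conj_eq_mul {I : Set H} (hI : Cls I) {x : H}
    (h1 : ∀ s ∈ I, Commute s (x * s * x⁻¹))
    (hne : ∀ s ∈ I, x * s * x⁻¹ ≠ s) {s : H} (hs : s ∈ I) :
    ∃ w ∈ gen I, w * x * w⁻¹ = s * x := by
  let f : orb x s → orb x s := fun w =>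
    ⟨w * (x * (w : H) * x⁻¹)⁻¹, Subgroup.mul_mem _ w.2 (Subgroup.inv_mem _ (orb_conj w.2))⟩
  have hf : Function.Injective f := by
    intro a b hab
    have hab' : (a : H) * (x * (a : H) * x⁻¹)⁻¹ = b * (x * (b : H) * x⁻¹)⁻¹ :=
      congrArg Subtype.val hab
    by_contra hne'
    have hu : (b : H)⁻¹ * a ∈ orb x s := Subgroup.mul_mem _ (Subgroup.inv_mem _ b.2) a.2
    have hu1 : (b : H)⁻¹ * a ≠ 1 := by
      intro h
      apply hne'
      exact Subtype.ext (by rw [inv_mul_eq_one] at h; exact h.symm)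
    refine hne _ ((orb_or hI h1 hne hs hu).resolve_right hu1) ?_
    have hxa := orb_conj (x := x) a.2
    have hxb := orb_conj (x := x) b.2
    have e1 : x * ((b : H)⁻¹ * a) * x⁻¹ = (x * (b : H) * x⁻¹)⁻¹ * (x * (a : H) * x⁻¹) := by group
    rw [e1]
    have c1 : Commute (x * (b : H) * x⁻¹)⁻¹ (x * (a : H) * x⁻¹) :=
      (orb_comm hI h1 hne hs hxb hxa).inv_left
    have e2 : (b : H)⁻¹ * a = (x * (b : H) * x⁻¹)⁻¹ * (x * (a : H) * x⁻¹) := by
      have : (b : H)⁻¹ * (a * (x * (a : H) * x⁻¹)⁻¹) * (x * (a : H) * x⁻¹)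
          = (b : H)⁻¹ * (b * (x * (b : H) * x⁻¹)⁻¹) * (x * (a : H) * x⁻¹) := by rw [hab']
      simpa [mul_assoc] using this
    exact e2.symm
  obtain ⟨w, hw⟩ := (Finite.injective_iff_surjective.mp hf) ⟨s, self_mem_orb x s⟩
  refine ⟨w, orb_le hI x hs w.2, ?_⟩
  have hw' : (w : H) * (x * (w : H) * x⁻¹)⁻¹ = s := congrArg Subtype.val hw
  calc (w : H) * x * (w : H)⁻¹ = (w * (x * (w : H) * x⁻¹)⁻¹) * x := by group
    _ = s * x := by rw [hw']

/-- The coset `L x` is one `L`-class. -/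
theorem exists_conj_of_mem {I : Set H} (hI : Cls I) {x : H}
    (h1 : ∀ s ∈ I, Commute s (x * s * x⁻¹))
    (hne : ∀ s ∈ I, x * s * x⁻¹ ≠ s) {l : H} (hl : l ∈ gen I) :
    ∃ w ∈ gen I, w * x * w⁻¹ = l * x := by
  induction hl using Subgroup.closure_induction_left with
  | one => exact ⟨1, Subgroup.one_mem _, by simp⟩
  | mul_left s hs y hy ih =>
    obtain ⟨w, hw, hwx⟩ := ih
    obtain ⟨u, hu, hux⟩ := exists_conj_eq_mul hI h1 hne (hI.conj' w hs)
    refine ⟨w * u, Subgroup.mul_mem _ hw hu, ?_⟩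
    calc w * u * x * (w * u)⁻¹ = w * (u * x * u⁻¹) * w⁻¹ := by group
      _ = w * (w⁻¹ * s * w * x) * w⁻¹ := by rw [hux]
      _ = s * (w * x * w⁻¹) := by group
      _ = s * (y * x) := by rw [hwx]
      _ = s * y * x := by group
  | inv_mul_cancel s hs y hy ih =>
    have hinv : s⁻¹ = s := inv_eq_of_mul_eq_one_left (hI.mul_self hs)
    rw [hinv]
    obtain ⟨w, hw, hwx⟩ := ih
    obtain ⟨u, hu, hux⟩ := exists_conj_eq_mul hI h1 hne (hI.conj' w hs)
    refine ⟨w * u, Subgroup.mul_mem _ hw hu, ?_⟩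
    calc w * u * x * (w * u)⁻¹ = w * (u * x * u⁻¹) * w⁻¹ := by group
      _ = w * (w⁻¹ * s * w * x) * w⁻¹ := by rw [hux]
      _ = s * (w * x * w⁻¹) := by group
      _ = s * (y * x) := by rw [hwx]
      _ = s * y * x := by group

/-- The map `w ↦ w x w⁻¹ x⁻¹` on `L`. -/
theorem injOn {I : Set H} (hI : Cls I) {x : H} (h1 : ∀ s ∈ I, Commute s (x * s * x⁻¹))
    (hne : ∀ s ∈ I, x * s * x⁻¹ ≠ s) {a b : H} (ha : a ∈ gen I)
    (hb : b ∈ gen I) (hab : a * x * a⁻¹ = b * x * b⁻¹) : a = b := by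
  let g : gen I → gen I := fun w =>
    ⟨w * x * (w : H)⁻¹ * x⁻¹, by
      have : (w : H) * x * (w : H)⁻¹ * x⁻¹ = w * (x * (w : H)⁻¹ * x⁻¹) := by group
      rw [this]
      exact Subgroup.mul_mem _ w.2 (hI.gen_normal.conj_mem _ (Subgroup.inv_mem _ w.2) x)⟩
  have hsurj : Function.Surjective g := by
    rintro ⟨l, hl⟩
    obtain ⟨w, hw, hwx⟩ := exists_conj_of_mem hI h1 hne hl
    refine ⟨⟨w, hw⟩, Subtype.ext ?_⟩
    show w * x * w⁻¹ * x⁻¹ = l
    rw [hwx]; group
  have hinj := Finite.injective_iff_surjective.mpr hsurj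
  have : (⟨a, ha⟩ : gen I) = ⟨b, hb⟩ := hinj (Subtype.ext (by
    show a * x * a⁻¹ * x⁻¹ = b * x * b⁻¹ * x⁻¹
    rw [hab]))
  exact congrArg Subtype.val this

/-- **The key lemma**, for a class. -/
theorem isPGroup_gen {I : Set H} (hI : Cls I) (C : Subgroup H)
    (htr : ∀ s ∈ I, ∀ t ∈ I, ∃ c ∈ C, c * s * c⁻¹ = t)
    {x : H} (hx : ∀ c ∈ C, Commute x c) {t : H} (ht : t ∈ I) (htx : x * t * x⁻¹ ≠ t)
    (hcomm : Commute t (x * t * x⁻¹)) : IsPGroup 2 (gen I) := by
  have hnorm := hI.gen_normal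
  have e0 : ∀ c ∈ C, x * (c * t * c⁻¹) * x⁻¹ = c * (x * t * x⁻¹) * c⁻¹ := fun c hc => by
    calc x * (c * t * c⁻¹) * x⁻¹ = (x * c) * t * (x * c)⁻¹ := by group
      _ = (c * x) * t * (c * x)⁻¹ := by rw [(hx c hc).eq]
      _ = c * (x * t * x⁻¹) * c⁻¹ := by group
  have hne : ∀ s ∈ I, x * s * x⁻¹ ≠ s := by
    intro s hs h
    obtain ⟨c, hc, rfl⟩ := htr t ht s hs
    rw [e0 c hc] at h
    exact htx (mul_left_cancel (mul_right_cancel h))
  have h1 : ∀ s ∈ I, Commute s (x * s * x⁻¹) := by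
    intro s hs
    obtain ⟨c, hc, rfl⟩ := htr t ht s hs
    rw [e0 c hc]
    exact commute_conj c hcomm
  have : Fact (Nat.Prime 2) := ⟨Nat.prime_two⟩
  let φ : H →* MulAut (gen I) := MulAut.conjNormal
  have hφ : ∀ (l : gen I) (S : Sylow 2 (gen I)), φ (l : H) • S = l • S := by
    intro l S
    have : φ (l : H) = MulAut.conj l := MulAut.conjNormal_val
    rw [this]
    rfl
  -- `x` normalises a Sylow `2`-subgroup of `L`
  obtain ⟨S, hS⟩ : ∃ S : Sylow 2 (gen I), φ x • S = S := by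
    obtain ⟨S0⟩ : Nonempty (Sylow 2 (gen I)) := inferInstance
    obtain ⟨l, hl⟩ := MulAction.exists_smul_eq (gen I) S0 (φ x • S0)
    obtain ⟨w, hw, hwx⟩ := exists_conj_of_mem hI h1 hne (Subgroup.inv_mem _ l.2)
    have h3 : φ ((l : H)⁻¹ * x) • S0 = S0 := by
      rw [map_mul, mul_smul, ← hl, ← hφ l S0, ← mul_smul, ← map_mul, inv_mul_cancel, map_one,
        one_smul]
    refine ⟨φ w⁻¹ • S0, ?_⟩
    rw [← hwx, map_mul, map_mul, mul_smul, mul_smul] at h3
    rw [smul_eq_iff_eq_inv_smul, ← map_inv] at h3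
    exact h3
  -- it is unique
  have huniq : ∀ S' : Sylow 2 (gen I), φ x • S' = S' → S' = S := by
    intro S' hS'
    obtain ⟨l, hl⟩ := MulAction.exists_smul_eq (gen I) S S'
    rw [← hφ] at hl
    let N := MulAction.stabilizer (gen I) S
    have hN : ∀ w : gen I, w ∈ N ↔ φ (w : H) • S = S := fun w => by
      rw [hφ]; exact MulAction.mem_stabilizer_iff
    have hS2 : φ x⁻¹ • S = S := by
      rw [map_inv, inv_smul_eq_iff, hS]
    let g : N → N := fun w => ⟨⟨(w : H) * x * (w : H)⁻¹ * x⁻¹, by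
      have : ((w : gen I) : H) * x * ((w : gen I) : H)⁻¹ * x⁻¹
        = ((w : gen I) : H) * (x * ((w : gen I) : H)⁻¹ * x⁻¹) := by group
      rw [this]
      exact Subgroup.mul_mem _ w.1.2 (hnorm.conj_mem _ (Subgroup.inv_mem _ w.1.2) x)⟩, by
      have hw := (hN w).1 w.2
      have hw' : φ ((w : gen I) : H)⁻¹ • S = S := by rw [map_inv, inv_smul_eq_iff, hw]
      rw [hN]
      show φ (((w : gen I) : H) * x * ((w : gen I) : H)⁻¹ * x⁻¹) • S = S
      rw [map_mul, map_mul, map_mul, mul_smul, mul_smul, mul_smul, hS2, hw', hS, hw]⟩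
    have hg : Function.Injective g := by
      intro a b hab
      have hab' : ((a : gen I) : H) * x * ((a : gen I) : H)⁻¹ * x⁻¹
          = ((b : gen I) : H) * x * ((b : gen I) : H)⁻¹ * x⁻¹ :=
        congrArg (fun z : N => ((z : gen I) : H)) hab
      have := injOn hI h1 hne a.1.2 b.1.2 (mul_right_cancel hab')
      exact Subtype.ext (Subtype.ext this)
    have hgs := Finite.injective_iff_surjective.mp hg
    have hmem : (l : H)⁻¹ * x * l * x⁻¹ ∈ gen I := by
      have : (l : H)⁻¹ * x * l * x⁻¹ = (l : H)⁻¹ * (x * l * x⁻¹) := by group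
      rw [this]
      exact Subgroup.mul_mem _ (Subgroup.inv_mem _ l.2) (hnorm.conj_mem _ l.2 x)
    have hmemN : (⟨(l : H)⁻¹ * x * l * x⁻¹, hmem⟩ : gen I) ∈ N := by
      rw [hN]
      show φ ((l : H)⁻¹ * x * l * x⁻¹) • S = S
      rw [map_mul, map_mul, map_mul, mul_smul, mul_smul, mul_smul, hS2, hl, hS', ← hl,
        ← mul_smul, ← map_mul, inv_mul_cancel, map_one, one_smul]
    obtain ⟨w, hw⟩ := hgs ⟨_, hmemN⟩
    have hw' : ((w : gen I) : H) * x * ((w : gen I) : H)⁻¹ * x⁻¹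
        = (l : H)⁻¹ * x * l * x⁻¹ := congrArg (fun z : N => ((z : gen I) : H)) hw
    have h5 : ((w : gen I) : H) * x * ((w : gen I) : H)⁻¹ = (l : H)⁻¹ * x * l :=
      mul_right_cancel hw'
    have h6 : ((l : H) * w) * x * ((l : H) * w)⁻¹ = 1 * x * (1 : H)⁻¹ := by
      calc ((l : H) * w) * x * ((l : H) * w)⁻¹
          = l * (((w : gen I) : H) * x * ((w : gen I) : H)⁻¹) * (l : H)⁻¹ := by group
        _ = l * ((l : H)⁻¹ * x * l) * (l : H)⁻¹ := by rw [h5]
        _ = 1 * x * (1 : H)⁻¹ := by group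
    have h7 := injOn hI h1 hne (Subgroup.mul_mem _ l.2 w.1.2) (Subgroup.one_mem _) h6
    have h8 : (l : H) = ((w : gen I) : H)⁻¹ := eq_inv_of_mul_eq_one_left h7
    rw [← hl, h8, map_inv, inv_smul_eq_iff]
    exact ((hN w).1 w.2).symm
  have hC : ∀ c ∈ C, φ c • S = S := by
    intro c hc
    apply huniq
    rw [← mul_smul, ← map_mul, (hx c hc).eq, map_mul, mul_smul, hS]
  -- `S` contains an element of `I`
  obtain ⟨t0, ht0, ht0S⟩ : ∃ t0 : gen I, (t0 : H) ∈ I ∧ t0 ∈ S := by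
    let t' : gen I := ⟨t, mem_gen ht⟩
    have ht' : orderOf t' = 2 := by
      rw [← Subgroup.orderOf_coe]; exact hI.ord t ht
    have hp : IsPGroup 2 (Subgroup.zpowers t') :=
      IsPGroup.of_card (n := 1) (by rw [Nat.card_zpowers, ht', pow_one])
    obtain ⟨Q, hQ⟩ := hp.exists_le_sylow
    obtain ⟨l, hl⟩ := MulAction.exists_smul_eq (gen I) Q S
    refine ⟨l * t' * l⁻¹, hI.conj l t ht, ?_⟩
    rw [← hl, Sylow.smul_def]
    have : (MulAut.conj l) t' ∈ (MulAut.conj l) • (Q : Subgroup (gen I)) :=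
      Subgroup.smul_mem_pointwise_smul _ _ _ (hQ (Subgroup.mem_zpowers t'))
    exact this
  have hall : ∀ s : H, ∀ hs : s ∈ I, (⟨s, mem_gen hs⟩ : gen I) ∈ S := by
    intro s hs
    obtain ⟨c, hc, hcs⟩ := htr t0 ht0 s hs
    have h9 := hC c hc
    rw [← h9]
    have h10 : (φ c) t0 ∈ (φ c) • (S : Subgroup (gen I)) :=
      Subgroup.smul_mem_pointwise_smul _ _ _ ht0S
    have h11 : (φ c) t0 = (⟨s, mem_gen hs⟩ : gen I) := by
      apply Subtype.ext
      show (((MulAut.conjNormal c) t0 : gen I) : H) = s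
      rw [MulAut.conjNormal_apply, hcs]
    rw [h11] at h10
    exact h10
  have htop : gen I ≤ (S : Subgroup (gen I)).map (gen I).subtype := by
    conv_lhs => rw [gen]
    rw [Subgroup.closure_le]
    intro s hs
    exact ⟨⟨s, mem_gen hs⟩, hall s hs, rfl⟩
  have h2S : IsPGroup 2 ((S : Subgroup (gen I)).map (gen I).subtype) := S.isPGroup'.map _
  exact h2S.to_le htop

end Finite


/-- The number of elements of `I` is odd if a group of odd order is transitive on them. -/
theorem odd_card {I : Set H} (hI : Cls I) (D : Subgroup H) (hD : Odd (Nat.card D))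
    (htr : ∀ s ∈ I, ∀ t ∈ I, ∃ d ∈ D, d * s * d⁻¹ = t)
    {s : H} (hs : s ∈ I) : Odd (Nat.card I) := by
  let _ : MulAction D I :=
    { smul := fun d s => ⟨(d : H) * s * (d : H)⁻¹, hI.conj d s s.2⟩
      one_smul := fun s => Subtype.ext (by
        show ((1 : D) : H) * s * ((1 : D) : H)⁻¹ = s
        simp)
      mul_smul := fun c d s => Subtype.ext (by
        show ((c * d : D) : H) * s * ((c * d : D) : H)⁻¹
          = (c : H) * ((d : H) * s * (d : H)⁻¹) * (c : H)⁻¹
        rw [Subgroup.coe_mul]; group) }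
  have hpre : MulAction.IsPretransitive D I := ⟨by
    rintro ⟨a, ha⟩ ⟨b, hb⟩
    obtain ⟨d, hd, hdab⟩ := htr a ha b hb
    exact ⟨⟨d, hd⟩, Subtype.ext hdab⟩⟩
  have h1 := MulAction.index_stabilizer_of_transitive D (⟨s, hs⟩ : I)
  rw [← h1]
  exact hD.of_dvd_nat (Subgroup.index_dvd_card _)

section Finite2

variable [Finite H]

/-- The elements of `I` commute once they generate a `2`-group and a group of odd order is
transitive on them. -/
theorem allComm_of_isPGroup {I : Set H} (hI : Cls I) (D : Subgroup H) (hD : Odd (Nat.card D))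
    (htr : ∀ s ∈ I, ∀ t ∈ I, ∃ d ∈ D, d * s * d⁻¹ = t)
    (h : IsPGroup 2 (gen I)) : ∀ s t : H, s ∈ I → t ∈ I → Commute s t := by
  intro s t hs ht
  have : Fact (Nat.Prime 2) := ⟨Nat.prime_two⟩
  let _ : MulAction (gen I) I :=
    { smul := fun d s => ⟨(d : H) * s * (d : H)⁻¹, hI.conj d s s.2⟩
      one_smul := fun s => Subtype.ext (by
        show ((1 : gen I) : H) * s * ((1 : gen I) : H)⁻¹ = s
        simp)
      mul_smul := fun c d s => Subtype.ext (by
        show ((c * d : gen I) : H) * s * ((c * d : gen I) : H)⁻¹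
          = (c : H) * ((d : H) * s * (d : H)⁻¹) * (c : H)⁻¹
        rw [Subgroup.coe_mul]; group) }
  have h1 := h.card_modEq_card_fixedPoints I
  have h2 := odd_card hI D hD htr hs
  have h3 : (MulAction.fixedPoints (gen I) I).Nonempty := by
    rw [Set.nonempty_iff_ne_empty]
    intro h4
    rw [h4] at h1
    simp only [Nat.card_eq_fintype_card, Fintype.card_eq_zero] at h1
    rw [Nat.modEq_zero_iff_dvd] at h1
    exact (Nat.not_even_iff_odd.mpr h2) (even_iff_two_dvd.mpr h1)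
  obtain ⟨⟨z, hz⟩, hzf⟩ := h3
  rw [MulAction.mem_fixedPoints] at hzf
  obtain ⟨d, hd, hds⟩ := htr z hz s hs
  have hc : Commute (d⁻¹ * t * d) z := by
    rw [← conj_eq_iff_commute]
    exact congrArg Subtype.val (hzf ⟨d⁻¹ * t * d, mem_gen (hI.conj' d ht)⟩)
  have := commute_conj d hc
  rw [hds] at this
  have e : d * (d⁻¹ * t * d) * d⁻¹ = t := by group
  rw [e] at this
  exact this.symm

end Finite2

section Finite3

variable [Finite H]

omit [Finite H] in
/-- The group generated by the involutions is a `2`-group if every involution commutes with all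
its conjugates in it. -/
theorem isPGroup_of_commute_conj {I : Set H} (hI : Cls I)
    (h : ∀ s : H, s ∈ I → ∀ l ∈ gen I, Commute s (l * s * l⁻¹)) :
    IsPGroup 2 (gen I) := by
  have : Fact (Nat.Prime 2) := ⟨Nat.prime_two⟩
  rw [← Cfsg.Agent.Lib.Cores.pCore_eq_top_iff, eq_top_iff]
  have hmem : ∀ s : gen I, (s : H) ∈ I → s ∈ Cfsg.pCore 2 (gen I) := by
    intro s hs2
    have hs : orderOf s = 2 := by rw [← Subgroup.orderOf_coe]; exact hI.ord _ hs2
    have hcc : ∀ a ∈ Group.conjugatesOfSet {s}, ∀ b ∈ Group.conjugatesOfSet {s}, a * b = b * a := by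
      intro a ha b hb
      rw [Group.mem_conjugatesOfSet_iff] at ha hb
      obtain ⟨a0, ha0, ha⟩ := ha
      obtain ⟨b0, hb0, hb⟩ := hb
      rw [Set.mem_singleton_iff] at ha0 hb0
      rw [ha0] at ha
      rw [hb0] at hb
      obtain ⟨c, rfl⟩ := isConj_iff.mp ha
      obtain ⟨d, rfl⟩ := isConj_iff.mp hb
      have h1 := h _ hs2 _ (c⁻¹ * d).2
      have h2 := commute_conj (c : H) h1
      apply Subtype.ext
      have e : (c : H) * (((c⁻¹ * d : gen I) : H) * s * ((c⁻¹ * d : gen I) : H)⁻¹) * (c : H)⁻¹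
          = (d : H) * s * (d : H)⁻¹ := by
        simp only [Subgroup.coe_mul, Subgroup.coe_inv]; group
      rw [e] at h2
      exact h2.eq
    have hN : ∀ g ∈ Subgroup.normalClosure {s}, g * g = 1 := by
      intro g hg
      have hcomm : ∀ a ∈ Subgroup.normalClosure {s}, ∀ b ∈ Subgroup.normalClosure {s},
          a * b = b * a := by
        intro a ha b hb
        have hm := Subgroup.isMulCommutative_closure hcc
        exact congrArg Subtype.val (hm.is_comm.comm
          (⟨a, ha⟩ : Subgroup.closure (Group.conjugatesOfSet {s})) ⟨b, hb⟩)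
      unfold Subgroup.normalClosure at hg
      induction hg using Subgroup.closure_induction with
      | mem y hy =>
        rw [Group.mem_conjugatesOfSet_iff] at hy
        obtain ⟨a0, ha0, ha⟩ := hy
        rw [Set.mem_singleton_iff] at ha0
        subst ha0
        obtain ⟨c, rfl⟩ := isConj_iff.mp ha
        exact mul_self_of_orderOf (by rw [orderOf_conj, hs])
      | one => simp
      | mul u v hu hv hu1 hv1 =>
        have hc : u * v = v * u := hcomm u hu v hv
        calc u * v * (u * v) = u * (v * u) * v := by group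
          _ = u * (u * v) * v := by rw [hc]
          _ = (u * u) * (v * v) := by group
          _ = 1 := by rw [hu1, hv1, mul_one]
      | inv u _ hu => rw [← mul_inv_rev, hu, inv_one]
    have hP : IsPGroup 2 (Subgroup.normalClosure {s}) := by
      rintro ⟨g, hg⟩
      refine ⟨1, Subtype.ext ?_⟩
      show g ^ (2 ^ 1) = 1
      rw [pow_one, pow_two]
      exact hN g hg
    exact Cfsg.Agent.Lib.Cores.le_pCore Subgroup.normalClosure_normal hP
      (Subgroup.subset_normalClosure (Set.mem_singleton s))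
  -- the involutions generate
  rintro ⟨g, hg⟩ -
  have : ∀ g (hg : g ∈ gen I), (⟨g, hg⟩ : gen I) ∈ Cfsg.pCore 2 (gen I) := by
    intro g hg
    unfold gen at hg
    induction hg using Subgroup.closure_induction with
    | mem y hy =>
      exact hmem ⟨y, _⟩ hy
    | one => exact Subgroup.one_mem _
    | mul u v hu hv hu1 hv1 => exact Subgroup.mul_mem _ hu1 hv1
    | inv u hu hu1 => exact Subgroup.inv_mem _ hu1
  exact this g hg

/-- **Lemma P.** An element of prime order centralising no involution and such that all involutions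
commute with their conjugates under it: the involutions generate a `2`-group. -/
theorem isPGroup_gen_of_prime {I : Set H} (hI : Cls I) {x : H} (hp : (orderOf x).Prime)
    (h1 : ∀ s : H, s ∈ I → Commute s (x * s * x⁻¹))
    (hne : ∀ s : H, s ∈ I → x * s * x⁻¹ ≠ s) : IsPGroup 2 (gen I) := by
  apply isPGroup_of_commute_conj hI
  intro s hs l hl
  -- `s` commutes with the `L`-conjugates of its `x ^ j`-conjugates
  have key : ∀ j, 0 < j → j < orderOf x → ∀ l ∈ gen I,
      Commute s (l * (x ^ j * s * (x ^ j)⁻¹) * l⁻¹) := by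
    intro j hj0 hj l hl
    have h1j : ∀ s : H, s ∈ I → Commute s (x ^ j * s * (x ^ j)⁻¹) :=
      fun s hs => (commute_pow hI h1 hne j).1 s hs
    have hnej : ∀ s : H, s ∈ I → x ^ j * s * (x ^ j)⁻¹ ≠ s := by
      intro s hs he
      rw [conj_eq_iff_commute] at he
      have hcop : Nat.Coprime (orderOf x) j := by
        rw [Nat.Prime.coprime_iff_not_dvd hp]
        exact Nat.not_dvd_of_pos_of_lt hj0 hj
      obtain ⟨m, hm⟩ := exists_pow_eq_self_of_coprime hcop.symm
      apply hne s hs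
      rw [conj_eq_iff_commute, ← hm]
      exact he.pow_left m
    obtain ⟨w, hw, hwx⟩ := exists_conj_of_mem hI h1j hnej hl
    have hs' : w⁻¹ * s * w ∈ I := hI.conj' w hs
    have h2 := commute_conj w (h1j _ hs')
    have e1 : w * (w⁻¹ * s * w) * w⁻¹ = s := by group
    have e2 : w * (x ^ j * (w⁻¹ * s * w) * (x ^ j)⁻¹) * w⁻¹
        = (w * x ^ j * w⁻¹) * s * (w * x ^ j * w⁻¹)⁻¹ := by group
    have e3 : (l * x ^ j) * s * (l * x ^ j)⁻¹ = l * (x ^ j * s * (x ^ j)⁻¹) * l⁻¹ := by group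
    rw [e1, e2, hwx, e3] at h2
    exact h2
  -- `s` is the product of the other `x`-conjugates
  let _ : CommGroup (orb x s) :=
    { (inferInstance : Group (orb x s)) with
      mul_comm := fun a b => Subtype.ext (orb_comm hI h1 hne hs a.2 b.2) }
  let e : ℕ → orb x s := fun j => ⟨x ^ j * s * (x ^ j)⁻¹, Subgroup.subset_closure ⟨j, rfl⟩⟩
  let P : orb x s := ∏ j ∈ Finset.range (orderOf x), e j
  have hP : P = 1 := by
    by_contra hP1
    have hPH : (P : H) ≠ 1 := fun h => hP1 (Subtype.ext h)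
    have hord : (P : H) ∈ I := (orb_or hI h1 hne hs P.2).resolve_right hPH
    apply hne _ hord
    -- conjugation by `x` on `orb x s`
    let c : orb x s →* orb x s :=
      { toFun := fun a => ⟨x * (a : H) * x⁻¹, orb_conj a.2⟩
        map_one' := Subtype.ext (by simp)
        map_mul' := fun a b => Subtype.ext (by
          show x * ((a * b : orb x s) : H) * x⁻¹ = (x * (a : H) * x⁻¹) * (x * (b : H) * x⁻¹)
          rw [Subgroup.coe_mul]; group) }
    have hce : ∀ j, c (e j) = e (j + 1) := fun j => Subtype.ext (conj_pow_succ x s j).symm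
    have hcP : c P = P := by
      show c (∏ j ∈ Finset.range (orderOf x), e j) = ∏ j ∈ Finset.range (orderOf x), e j
      rw [map_prod]
      simp_rw [hce]
      have h2 := Finset.prod_range_succ e (orderOf x)
      have h3 := Finset.prod_range_succ' e (orderOf x)
      have h4 : e (orderOf x) = e 0 := Subtype.ext (by
        show x ^ orderOf x * s * (x ^ orderOf x)⁻¹ = x ^ 0 * s * (x ^ 0)⁻¹
        rw [pow_orderOf_eq_one, pow_zero])
      rw [h3, h4] at h2
      exact mul_right_cancel h2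
    exact congrArg Subtype.val hcP
  -- every conjugate of `s` commutes with the conjugates `≠ s`
  obtain ⟨k, hk⟩ : ∃ k, orderOf x = k + 1 := ⟨orderOf x - 1, (Nat.succ_pred_eq_of_pos hp.pos).symm⟩
  have hPk : (∏ j ∈ Finset.range k, e (j + 1)) * e 0 = 1 := by
    rw [← Finset.prod_range_succ', ← hk]; exact hP
  let C : Subgroup (orb x s) := (Subgroup.centralizer {l * s * l⁻¹}).comap (orb x s).subtype
  have hmemC : ∀ j, 0 < j → j < orderOf x → e j ∈ C := by
    intro j hj0 hj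
    rw [Subgroup.mem_comap, Subgroup.mem_centralizer_iff]
    intro z hz
    rw [Set.mem_singleton_iff] at hz
    subst hz
    have h2 := commute_conj l (key j hj0 hj l⁻¹ (Subgroup.inv_mem _ hl))
    have e3 : l * (l⁻¹ * (x ^ j * s * (x ^ j)⁻¹) * l⁻¹⁻¹) * l⁻¹ = x ^ j * s * (x ^ j)⁻¹ := by group
    rw [e3] at h2
    exact h2.eq
  have hprod : (∏ j ∈ Finset.range k, e (j + 1)) ∈ C := by
    refine Subgroup.prod_mem _ fun j hj => hmemC (j + 1) (Nat.succ_pos j) ?_
    rw [hk]; exact Nat.succ_lt_succ (Finset.mem_range.mp hj)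
  have h0 : e 0 ∈ C := by
    rw [eq_inv_of_mul_eq_one_right hPk]
    exact Subgroup.inv_mem _ hprod
  rw [Subgroup.mem_comap, Subgroup.mem_centralizer_iff] at h0
  have h5 := h0 _ (Set.mem_singleton _)
  have e0 : ((orb x s).subtype (e 0)) = s := by
    show x ^ 0 * s * (x ^ 0)⁻¹ = s
    simp
  rw [e0] at h5
  exact h5.symm

/-- Case (g1): some element `≠ 1` of `R` centralises an involution. -/
theorem case_one {I : Set H} (hI : Cls I) {D R : Subgroup H} {p : ℕ} (hp : p.Prime) (hRle : R ≤ D) (hD : Odd (Nat.card D))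
    (htr : ∀ s t : H, s ∈ I → t ∈ I → ∃ d ∈ D, d * s * d⁻¹ = t)
    (hA : ∀ y ∈ D, (orderOf y).Prime → ∀ s t : H, s ∈ I → t ∈ I →
      Commute y s → Commute y t → Commute s t)
    (hRD : ∀ d ∈ D, ∀ r ∈ R, d * r * d⁻¹ ∈ R) (hRc : ∀ x ∈ R, ∀ y ∈ R, x * y = y * x)
    (hRp : ∀ x ∈ R, x ^ p = 1) {s0 : H} (hs0 : s0 ∈ I) (h0 : cent R s0 ≠ ⊥) :
    ∀ s t : H, s ∈ I → t ∈ I → Commute s t := by
  have hpF : Fact p.Prime := ⟨hp⟩
  have htr' : ∀ s ∈ I, ∀ t ∈ I, ∃ d ∈ D, d * s * d⁻¹ = t := fun s hs t ht => htr s t hs ht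
  have hcard : ∀ s : H, s ∈ I → Nat.card (cent R s) = Nat.card (cent R s0) := by
    intro s hs
    obtain ⟨d, hd, rfl⟩ := htr s0 s hs0 hs
    exact card_cent_conj (mem_iff_of_normalised hRD hd)
  have hne : ∀ s : H, s ∈ I → ∃ y ∈ R, y ≠ 1 ∧ Commute y s := by
    intro s hs
    have h1 : cent R s ≠ ⊥ := by
      intro h
      apply h0
      rw [← Subgroup.card_eq_one, ← hcard s hs, h, Subgroup.card_bot]
    obtain ⟨y, hy, hy1⟩ := (cent R s).bot_or_exists_ne_one.resolve_left h1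
    rw [mem_cent] at hy
    exact ⟨y, hy.1, hy1, hy.2⟩
  have hord : ∀ y ∈ R, y ≠ 1 → orderOf y = p := fun y hy hy1 => orderOf_of_pow hp (hRp y hy) hy1
  have hcomm : ∀ s : H, s ∈ I → ∀ ρ ∈ R, Commute s (ρ * s * ρ⁻¹) := by
    intro s hs ρ hρ
    obtain ⟨y, hy, hy1, hys⟩ := hne s hs
    refine hA y (hRle hy) (by rw [hord y hy hy1]; exact hp) s _ hs (hI.conj _ s hs)
      hys ?_
    have h1 := commute_conj ρ hys
    rwa [conj_eq_iff_commute.mpr (hRc ρ hρ y hy : Commute ρ y)] at h1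
  -- an element of `R` without fixed involutions
  by_cases hfix : ∃ ρ ∈ R, ρ ≠ 1 ∧ ∀ s : H, s ∈ I → ¬ Commute ρ s
  · obtain ⟨ρ, hρ, hρ1, hρs⟩ := hfix
    refine allComm_of_isPGroup hI D hD htr' (isPGroup_gen_of_prime hI (x := ρ)
      (by rw [hord ρ hρ hρ1]; exact hp) (fun s hs => hcomm s hs ρ hρ) fun s hs h => ?_)
    exact hρs s hs (conj_eq_iff_commute.mp h)
  push Not at hfix
  -- `R` centralises an involution
  by_cases hR : ∃ s : H, s ∈ I ∧ R ≤ cent R s
  · obtain ⟨s, hs, hRs⟩ := hR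
    obtain ⟨y, hy, hy1, -⟩ := hne s hs
    have hy' : ∀ t : H, t ∈ I → Commute y t := by
      intro t ht
      obtain ⟨d, hd, rfl⟩ := htr s t hs ht
      have h1 : d⁻¹ * y * d ∈ R := by
        have := hRD d⁻¹ (D.inv_mem hd) y hy
        rwa [inv_inv] at this
      have h2 := commute_conj d (mem_cent.mp (hRs h1)).2
      have e : d * (d⁻¹ * y * d) * d⁻¹ = y := by group
      rwa [e] at h2
    intro a b ha hb
    exact hA y (hRle hy) (by rw [hord y hy hy1]; exact hp) a b ha hb (hy' a ha) (hy' b hb)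
  push Not at hR
  have hRpg : IsPGroup p R := by
    rintro ⟨x, hx⟩
    exact ⟨1, Subtype.ext (by show x ^ p ^ 1 = 1; rw [pow_one]; exact hRp x hx)⟩
  have h2p : p ≠ 2 := by
    rintro rfl
    obtain ⟨y, hy, hy1, -⟩ := hne s0 hs0
    have h1 : orderOf y ∣ Nat.card D := by
      rw [← Subgroup.orderOf_mk y (hRle hy)]
      exact orderOf_dvd_natCard _
    rw [hord y hy hy1] at h1
    exact (Nat.not_even_iff_odd.mpr hD) (even_iff_two_dvd.mpr h1)
  -- the centralisers have index `p`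
  have hle : ∀ s : H, s ∈ I → Nat.card R ≤ p * Nat.card (cent R s) := by
    intro s hs
    have h2F : Fact (Nat.Prime 2) := ⟨Nat.prime_two⟩
    let X : Subgroup H := Subgroup.closure {x | ∃ ρ ∈ R, x = ρ * s * ρ⁻¹}
    have hgen : ∀ ρ ∈ R, ∀ σ ∈ R, Commute (ρ * s * ρ⁻¹) (σ * s * σ⁻¹) := by
      intro ρ hρ σ hσ
      have h1 := commute_conj ρ (hcomm s hs (ρ⁻¹ * σ) (R.mul_mem (R.inv_mem hρ) hσ))
      have e : ρ * (ρ⁻¹ * σ * s * (ρ⁻¹ * σ)⁻¹) * ρ⁻¹ = σ * s * σ⁻¹ := by group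
      rwa [e] at h1
    have hXc : ∀ a ∈ X, ∀ b ∈ X, a * b = b * a := by
      intro a ha b hb
      have hm := Subgroup.isMulCommutative_closure (k := {x : H | ∃ ρ ∈ R, x = ρ * s * ρ⁻¹})
        (by rintro _ ⟨ρ, hρ, rfl⟩ _ ⟨σ, hσ, rfl⟩; exact (hgen ρ hρ σ hσ).eq)
      exact congrArg Subtype.val (hm.is_comm.comm (⟨a, ha⟩ : X) ⟨b, hb⟩)
    have hX2 : ∀ a ∈ X, a * a = 1 := by
      intro a ha
      induction ha using Subgroup.closure_induction with
      | mem y hy =>
        obtain ⟨ρ, -, rfl⟩ := hy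
        exact hI.mul_self (hI.conj _ s hs)
      | one => simp
      | mul u v hu hv hu1 hv1 =>
        have hc : u * v = v * u := hXc u hu v hv
        calc u * v * (u * v) = u * (v * u) * v := by group
          _ = u * (u * v) * v := by rw [hc]
          _ = (u * u) * (v * v) := by group
          _ = 1 := by rw [hu1, hv1, mul_one]
      | inv u _ hu => rw [← mul_inv_rev, hu, inv_one]
    have hsX : s ∈ X := Subgroup.subset_closure ⟨1, R.one_mem, by group⟩
    obtain ⟨B, hBR, hcB, x, hx, hx1, hBx⟩ :=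
      Cfsg.Agent.SignalizersComponents.HyperplaneFix.exists_hyperplane_fixed (p := p) (q := 2)
        (Ne.symm h2p) R hRc hRp X
        (by
          rintro ⟨a, ha⟩
          exact ⟨1, Subtype.ext (by
            show a ^ 2 ^ 1 = 1
            rw [pow_one, pow_two]; exact hX2 a ha)⟩)
        (by
          intro h
          rw [h, Subgroup.mem_bot] at hsX
          exact hI.ne_one hs hsX)
        (by
          intro a ha x hx
          induction hx using Subgroup.closure_induction with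
          | mem y hy =>
            obtain ⟨ρ, hρ, rfl⟩ := hy
            refine Subgroup.subset_closure ⟨a * ρ, R.mul_mem ha hρ, ?_⟩
            group
          | one => simp
          | mul u v _ _ hu hv =>
            have : a * (u * v) * a⁻¹ = (a * u * a⁻¹) * (a * v * a⁻¹) := by group
            rw [this]; exact Subgroup.mul_mem _ hu hv
          | inv u _ hu =>
            have : a * u⁻¹ * a⁻¹ = (a * u * a⁻¹)⁻¹ := by group
            rw [this]; exact Subgroup.inv_mem _ hu)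
    have hx2 : x ∈ I := by
      refine (hI.closure_or (k := {x | ∃ ρ ∈ R, x = ρ * s * ρ⁻¹}) ?_ ?_ hx).resolve_right hx1
      · rintro _ ⟨ρ, -, rfl⟩
        exact hI.conj ρ s hs
      · rintro _ ⟨ρ, hρ, rfl⟩ _ ⟨σ, hσ, rfl⟩
        exact (hgen ρ hρ σ hσ).eq
    have hBc : B ≤ cent R x := fun b hb => mem_cent.mpr ⟨hBR hb, hBx b hb⟩
    calc Nat.card R ≤ p * Nat.card B := hcB
      _ ≤ p * Nat.card (cent R x) := Nat.mul_le_mul_left p (Subgroup.card_le_of_le hBc)
      _ = p * Nat.card (cent R s) := by rw [hcard x hx2, hcard s hs]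
  obtain ⟨k, hk⟩ : ∃ k, Nat.card R = p ^ k := hRpg.exists_card_eq
  obtain ⟨m, hm⟩ : ∃ m, Nat.card (cent R s0) = p ^ m :=
    (hRpg.to_le (inf_le_left : cent R s0 ≤ R)).exists_card_eq
  have hm0 : m ≠ 0 := by
    rintro rfl
    rw [pow_zero, Subgroup.card_eq_one] at hm
    exact h0 hm
  have hkm : k = m + 1 := by
    have h1 := hle s0 hs0
    rw [hk, hm, ← pow_succ', Nat.pow_le_pow_iff_right hp.one_lt] at h1
    have h2 : Nat.card (cent R s0) < Nat.card R := by
      refine lt_of_le_of_ne (Subgroup.card_le_of_le inf_le_left) fun h => ?_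
      exact hR s0 hs0 (Subgroup.eq_of_le_of_card_ge inf_le_left h.ge).ge
    rw [hk, hm, Nat.pow_lt_pow_iff_right hp.one_lt] at h2
    omega
  by_cases hm1 : m = 1
  · -- `R` has order `p ^ 2`
    exfalso
    subst hm1
    rw [pow_one] at hm
    have hk2 : Nat.card R = p ^ 2 := by rw [hk, hkm]
    classical
    let _ := Fintype.ofFinite {ρ : R // ρ ≠ 1}
    let _ := Fintype.ofFinite {s : H // s ∈ I}
    let e : (Σ ρ : {ρ : R // ρ ≠ 1}, {s : {s : H // s ∈ I} // Commute ((ρ : R) : H) s})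
        ≃ (Σ s : {s : H // s ∈ I}, {ρ : {ρ : R // ρ ≠ 1} // Commute ((ρ : R) : H) s}) :=
      { toFun := fun a => ⟨a.2.1, a.1, a.2.2⟩
        invFun := fun a => ⟨a.2.1, a.1, a.2.2⟩
        left_inv := fun a => rfl
        right_inv := fun a => rfl }
    have hcard2 := Nat.card_congr e
    rw [Nat.card_sigma, Nat.card_sigma] at hcard2
    have hrow : ∀ s : {s : H // s ∈ I},
        Nat.card {ρ : {ρ : R // ρ ≠ 1} // Commute ((ρ : R) : H) s} = p - 1 := by
      rintro ⟨s, hs⟩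
      have h1 := card_ne_one (K := cent R s)
      rw [hcard s hs, hm] at h1
      have h2 : Nat.card {ρ : {ρ : R // ρ ≠ 1} // Commute ((ρ : R) : H) s}
          = Nat.card {x : cent R s // x ≠ 1} := by
        refine Nat.card_congr
          { toFun := fun a => ⟨⟨((a.1 : R) : H), mem_cent.mpr ⟨(a.1 : R).2, a.2⟩⟩, fun h =>
              a.1.2 (Subtype.ext (show ((a.1 : R) : H) = 1 from Subtype.ext_iff.mp h))⟩
            invFun := fun a => ⟨⟨⟨(a.1 : H), (mem_cent.mp a.1.2).1⟩, fun h =>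
              a.2 (Subtype.ext (show ((a.1 : cent R s) : H) = 1 from Subtype.ext_iff.mp h))⟩, (mem_cent.mp a.1.2).2⟩
            left_inv := fun a => rfl
            right_inv := fun a => rfl }
      show Nat.card {ρ : {ρ : R // ρ ≠ 1} // Commute ((ρ : R) : H) s} = p - 1
      rw [h2]; omega
    -- generators of the centralisers
    have hgenr : ∀ s : H, s ∈ I → ∀ ρ ∈ cent R s, ρ ≠ 1 → cent R s = Subgroup.zpowers ρ := by
      intro s hs ρ hρ hρ1
      symm
      apply Subgroup.eq_of_le_of_card_ge (by rwa [Subgroup.zpowers_le])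
      rw [Nat.card_zpowers, hord ρ (mem_cent.mp hρ).1 hρ1, hcard s hs, hm]
    have hcol : ∀ ρ σ : {ρ : R // ρ ≠ 1},
        Nat.card {s : {s : H // s ∈ I} // Commute ((ρ : R) : H) s}
          = Nat.card {s : {s : H // s ∈ I} // Commute ((σ : R) : H) s} := by
      rintro ⟨⟨ρ, hρ⟩, hρ1⟩ ⟨⟨σ, hσ⟩, hσ1⟩
      have hρ1' : ρ ≠ 1 := fun h => hρ1 (Subtype.ext h)
      have hσ1' : σ ≠ 1 := fun h => hσ1 (Subtype.ext h)
      obtain ⟨s, hs, hρs⟩ := hfix ρ hρ hρ1'
      obtain ⟨t, ht, hσt⟩ := hfix σ hσ hσ1'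
      obtain ⟨d, hd, rfl⟩ := htr s t hs ht
      have h1 := hgenr s hs ρ (mem_cent.mpr ⟨hρ, hρs⟩) hρ1'
      have h2 := hgenr _ ht σ (mem_cent.mpr ⟨hσ, hσt⟩) hσ1'
      have h3 := cent_conj (s := s) (mem_iff_of_normalised hRD hd)
      rw [h1, h2, MonoidHom.map_zpowers] at h3
      have h4 : ∀ u : H, Commute ρ u ↔ Commute σ (d * u * d⁻¹) := by
        intro u
        have h5 : σ ∈ Subgroup.zpowers (d * ρ * d⁻¹) := by
          have : σ ∈ Subgroup.zpowers σ := Subgroup.mem_zpowers σ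
          rw [h3] at this; exact this
        have h6 : d * ρ * d⁻¹ ∈ Subgroup.zpowers σ := by
          rw [h3]; exact Subgroup.mem_zpowers _
        constructor
        · intro h
          obtain ⟨n, hn⟩ := Subgroup.mem_zpowers_iff.mp h5
          rw [← hn]
          exact (commute_conj d h).zpow_left n
        · intro h
          obtain ⟨n, hn⟩ := Subgroup.mem_zpowers_iff.mp h6
          have h7 : Commute (d * ρ * d⁻¹) (d * u * d⁻¹) := by
            rw [← hn]; exact h.zpow_left n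
          have h8 := commute_conj d⁻¹ h7
          have e1 : d⁻¹ * (d * ρ * d⁻¹) * d⁻¹⁻¹ = ρ := by group
          have e2 : d⁻¹ * (d * u * d⁻¹) * d⁻¹⁻¹ = u := by group
          rwa [e1, e2] at h8
      refine Nat.card_congr
        { toFun := fun a => ⟨⟨d * a.1.1 * d⁻¹, hI.conj d _ a.1.2⟩, (h4 _).1 a.2⟩
          invFun := fun a => ⟨⟨d⁻¹ * a.1.1 * d, hI.conj' d a.1.2⟩, by
            have h9 := (h4 (d⁻¹ * a.1.1 * d)).2 (by
              have e1 : d * (d⁻¹ * a.1.1 * d) * d⁻¹ = a.1.1 := by group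
              rw [e1]; exact a.2)
            exact h9⟩
          left_inv := fun a => Subtype.ext (Subtype.ext (by
            show d⁻¹ * (d * a.1.1 * d⁻¹) * d = a.1.1
            group))
          right_inv := fun a => Subtype.ext (Subtype.ext (by
            show d * (d⁻¹ * a.1.1 * d) * d⁻¹ = a.1.1
            group)) }
    obtain ⟨y0, hy0, hy01, -⟩ := hne s0 hs0
    let ρ0 : {ρ : R // ρ ≠ 1} := ⟨⟨y0, hy0⟩, fun h => hy01 (congrArg Subtype.val h)⟩
    simp_rw [hrow] at hcard2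
    rw [Finset.sum_congr rfl (fun ρ _ => hcol ρ ρ0), Finset.sum_const, Finset.sum_const,
      Finset.card_univ, Finset.card_univ, ← Nat.card_eq_fintype_card, ← Nat.card_eq_fintype_card,
      smul_eq_mul, smul_eq_mul] at hcard2
    have hR1 : Nat.card {ρ : R // ρ ≠ 1} = (p - 1) * (p + 1) := by
      have h1 := card_ne_one (K := R)
      rw [hk2] at h1
      have h2 : (p - 1) * (p + 1) + 1 = p ^ 2 := by
        obtain ⟨q, rfl⟩ : ∃ q, p = q + 1 := ⟨p - 1, by have := hp.pos; omega⟩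
        rw [Nat.add_sub_cancel]; ring
      omega
    rw [hR1, mul_assoc, mul_comm (Nat.card {s : H // s ∈ I})] at hcard2
    have h3 := Nat.eq_of_mul_eq_mul_left (by have := hp.one_lt; omega) hcard2
    have h4 : Odd (Nat.card {s : H // s ∈ I}) := odd_card hI D hD htr' hs0
    rw [← h3] at h4
    have h5 : Even (p + 1) := (hp.odd_of_ne_two h2p).add_one
    exact (Nat.not_even_iff_odd.mpr h4) (h5.mul_right _)
  · -- `R` has order at least `p ^ 3`
    intro s t hs ht
    by_cases hK : cent R s ⊓ cent R t = ⊥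
    · exfalso
      let f : cent R s × cent R t → R := fun a =>
        ⟨(a.1 : H) * (a.2 : H), R.mul_mem (mem_cent.mp a.1.2).1 (mem_cent.mp a.2.2).1⟩
      have hf : Function.Injective f := by
        rintro ⟨a, b⟩ ⟨a', b'⟩ h
        have h1 : (a : H) * b = a' * b' := congrArg Subtype.val h
        have h2 : (a' : H)⁻¹ * a = b' * (b : H)⁻¹ := by
          rw [inv_mul_eq_iff_eq_mul, ← mul_assoc, ← h1, mul_inv_cancel_right]
        have h3 : (a' : H)⁻¹ * a ∈ cent R s ⊓ cent R t :=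
          ⟨Subgroup.mul_mem _ (Subgroup.inv_mem _ a'.2) a.2, by
            rw [h2]; exact Subgroup.mul_mem _ b'.2 (Subgroup.inv_mem _ b.2)⟩
        rw [hK, Subgroup.mem_bot] at h3
        have h4 : a = a' := Subtype.ext (inv_mul_eq_one.mp h3).symm
        rw [h2] at h3
        have h5 : b = b' := Subtype.ext (mul_inv_eq_one.mp h3).symm
        rw [h4, h5]
      have h1 := Nat.card_le_card_of_injective f hf
      rw [Nat.card_prod, hcard s hs, hcard t ht, hm, hk, ← pow_add,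
        Nat.pow_le_pow_iff_right hp.one_lt] at h1
      omega
    · obtain ⟨y, hy, hy1⟩ := (cent R s ⊓ cent R t).bot_or_exists_ne_one.resolve_left hK
      have h1 := mem_cent.mp hy.1
      have h2 := mem_cent.mp hy.2
      exact hA y (hRle h1.1) (by rw [hord y h1.1 hy1]; exact hp) s t hs ht h1.2 h2.2

/-- Case (g2): no element `≠ 1` of `R` centralises an involution. -/
theorem case_two {I : Set H} (hI : Cls I) {D : Subgroup H} {R : Subgroup D} (hD : Odd (Nat.card D))
    (hpair : ∃ s t : H, s ∈ I ∧ t ∈ I ∧ s ≠ t ∧ Commute s t)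
    (hA : ∀ y ∈ D, (orderOf y).Prime → ∀ s t : H, s ∈ I → t ∈ I →
      Commute y s → Commute y t → Commute s t)
    (w : D ≃* D) (hw : ∀ x, w (w x) = x)
    (hK : Nat.card {k : D // w k = k⁻¹} = Nat.card {s : H // s ∈ I})
    (hKtr : ∀ s t : H, s ∈ I → t ∈ I →
      ∃ k : D, w k = k⁻¹ ∧ (k : H) * s * (k : H)⁻¹ = t)
    (hB : ∀ y : D, (orderOf y).Prime → w y = y → ∃ s : H, s ∈ I ∧ Commute (y : H) s)
    {p : ℕ} (hp : p.Prime) (hRw : ∀ x ∈ R, w x ∈ R) (hRn : ∀ d : D, ∀ x ∈ R, d * x * d⁻¹ ∈ R)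
    (hRc : ∀ x ∈ R, ∀ y ∈ R, x * y = y * x) (hRp : ∀ x ∈ R, x ^ p = 1) (hR1 : R ≠ ⊥)
    (h0 : ∀ s : H, s ∈ I → ∀ x ∈ R, Commute (x : H) s → x = 1) :
    IsPGroup 2 (gen I) := by
  have hinv : ∀ x ∈ R, w x = x⁻¹ := by
    intro x hx
    by_contra hne
    have h1 : x * w x ∈ R := R.mul_mem hx (hRw x hx)
    have h2 : w (x * w x) = x * w x := by
      rw [map_mul, hw, hRc _ (hRw x hx) _ hx]
    have h3 : x * w x ≠ 1 := fun h => hne (eq_inv_of_mul_eq_one_right h)
    obtain ⟨s, hs, hxs⟩ := hB _ (by rw [orderOf_of_pow hp (hRp _ h1) h3]; exact hp) h2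
    exact h3 (h0 s hs _ h1 hxs)
  have hKR : ∀ k : D, w k = k⁻¹ → ∀ x ∈ R, Commute k x := by
    intro k hk x hx
    have h1 := hinv _ (hRn k x hx)
    rw [map_mul, map_mul, map_inv, hinv x hx, hk] at h1
    have h2 : Commute (k ^ 2) x := by
      show k ^ 2 * x = x * k ^ 2
      have h3 : k⁻¹ * x⁻¹ * k⁻¹⁻¹ = k * x⁻¹ * k⁻¹ := by rw [h1]; group
      have h4 : x⁻¹ * k ^ 2 = k ^ 2 * x⁻¹ := by
        calc x⁻¹ * k ^ 2 = k * (k⁻¹ * x⁻¹ * k⁻¹⁻¹) * k := by rw [pow_two]; group
          _ = k * (k * x⁻¹ * k⁻¹) * k := by rw [h3]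
          _ = k ^ 2 * x⁻¹ := by rw [pow_two]; group
      calc k ^ 2 * x = x * (x⁻¹ * k ^ 2) * x := by group
        _ = x * (k ^ 2 * x⁻¹) * x := by rw [h4]
        _ = x * k ^ 2 := by group
    have hodd : Nat.Coprime 2 (orderOf k) := by
      rw [Nat.coprime_two_left]
      exact hD.of_dvd_nat (orderOf_dvd_natCard k)
    obtain ⟨m, hm⟩ := exists_pow_eq_self_of_coprime hodd
    rw [← hm]
    exact h2.pow_left m
  obtain ⟨ρ, hρ, hρ1⟩ := R.bot_or_exists_ne_one.resolve_left hR1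
  -- the centraliser of `R` in `D`
  let C0 : Subgroup D := Subgroup.centralizer (R : Set D)
  let C : Subgroup H := C0.map D.subtype
  have hmemC : ∀ k : D, k ∈ C0 → (k : H) ∈ C := fun k hk => ⟨k, hk, rfl⟩
  have hKC : ∀ k : D, w k = k⁻¹ → k ∈ C0 := by
    intro k hk
    rw [Subgroup.mem_centralizer_iff]
    intro x hx
    exact (hKR k hk x hx).eq.symm
  have htrC : ∀ s t : H, s ∈ I → t ∈ I → ∃ c ∈ C, c * s * c⁻¹ = t := by
    intro s t hs ht
    obtain ⟨k, hk, hkst⟩ := hKtr s t hs ht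
    exact ⟨k, hmemC k (hKC k hk), hkst⟩
  have htrC' : ∀ s ∈ I, ∀ t ∈ I, ∃ c ∈ C, c * s * c⁻¹ = t := fun s hs t ht => htrC s t hs ht
  have hρC : ∀ c ∈ C, Commute (ρ : H) c := by
    rintro _ ⟨c, hc, rfl⟩
    have h1 := (Subgroup.mem_centralizer_iff.mp hc) ρ hρ
    exact congrArg Subtype.val h1
  have hρs : ∀ s : H, s ∈ I → (ρ : H) * s * (ρ : H)⁻¹ ≠ s := by
    intro s hs h
    exact hρ1 (h0 s hs ρ hρ (conj_eq_iff_commute.mp h))
  by_cases hb : ∃ t : H, t ∈ I ∧ ∃ y ∈ C, y ≠ 1 ∧ Commute y t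
  · obtain ⟨t, ht, y, hy, hy1, hyt⟩ := hb
    -- an element of prime order
    obtain ⟨q, hq, hqd⟩ := Nat.exists_prime_and_dvd (n := orderOf y)
      (fun h => hy1 (orderOf_eq_one_iff.mp h))
    obtain ⟨m, hm⟩ := hqd
    have hz : orderOf (y ^ m) = q := by
      rw [orderOf_pow_of_dvd (by rintro rfl; rw [mul_zero] at hm; exact (orderOf_pos y).ne' hm)
        (Dvd.intro_left q hm.symm), hm, Nat.mul_div_cancel _
        (Nat.pos_of_ne_zero (by rintro rfl; rw [mul_zero] at hm; exact (orderOf_pos y).ne' hm))]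
    have hzC : y ^ m ∈ C := C.pow_mem hy m
    have hzD : y ^ m ∈ D := by
      obtain ⟨c, -, hc⟩ := hzC
      rw [← hc]; exact c.2
    have h1 : Commute (y ^ m) t := hyt.pow_left m
    refine isPGroup_gen hI C htrC' hρC ht (hρs t ht) (hA _ hzD (by rw [hz]; exact hq) t _ ht
      (hI.conj _ t ht) h1 ?_)
    have h2 := commute_conj (ρ : H) h1
    rwa [conj_eq_iff_commute.mpr (hρC _ hzC)] at h2
  · push Not at hb
    obtain ⟨s, t, hs, ht, hst, hcomm⟩ := hpair
    -- `C0` is inverted by `w`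
    let f : C0 → {s : H // s ∈ I} := fun c =>
      ⟨((c : D) : H) * s * ((c : D) : H)⁻¹, hI.conj _ s hs⟩
    have hf : Function.Injective f := by
      intro a b hab
      have h1 : ((a : D) : H) * s * ((a : D) : H)⁻¹ = ((b : D) : H) * s * ((b : D) : H)⁻¹ :=
        congrArg Subtype.val hab
      by_contra hne
      have h2 : (b⁻¹ * a : C0) ≠ 1 := fun h => hne (inv_mul_eq_one.mp h).symm
      refine hb s hs (((b⁻¹ * a : C0) : D) : H) (hmemC _ (b⁻¹ * a : C0).2) ?_ ?_
      · intro h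
        exact h2 (Subtype.ext (Subtype.ext h))
      · rw [← conj_eq_iff_commute]
        have e : ((((b⁻¹ * a : C0) : D) : H)) = ((b : D) : H)⁻¹ * ((a : D) : H) := rfl
        rw [e]
        calc ((b : D) : H)⁻¹ * ((a : D) : H) * s * (((b : D) : H)⁻¹ * ((a : D) : H))⁻¹
            = ((b : D) : H)⁻¹ * (((a : D) : H) * s * ((a : D) : H)⁻¹) * ((b : D) : H) := by group
          _ = ((b : D) : H)⁻¹ * (((b : D) : H) * s * ((b : D) : H)⁻¹) * ((b : D) : H) := by rw [h1]
          _ = s := by group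
    let g : {k : D // w k = k⁻¹} → C0 := fun k => ⟨k.1, hKC k.1 k.2⟩
    have hg : Function.Injective g := fun a b hab =>
      Subtype.ext (show a.1 = b.1 from congrArg (fun z : C0 => (z : D)) hab)
    have hle : Nat.card C0 ≤ Nat.card {k : D // w k = k⁻¹} := by
      rw [hK]; exact Nat.card_le_card_of_injective f hf
    have hgs : Function.Surjective g := by
      have := (Nat.bijective_iff_injective_and_card g).2
        ⟨hg, le_antisymm (Nat.card_le_card_of_injective g hg) hle⟩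
      exact this.2
    have hinvC : ∀ c ∈ C0, w c = c⁻¹ := by
      intro c hc
      obtain ⟨k, hk⟩ := hgs ⟨c, hc⟩
      have : k.1 = c := congrArg Subtype.val hk
      rw [← this]; exact k.2
    have hCc : ∀ a ∈ C0, ∀ b ∈ C0, a * b = b * a := by
      intro a ha b hb
      have h1 := hinvC _ (C0.mul_mem ha hb)
      rw [map_mul, hinvC a ha, hinvC b hb] at h1
      have h2 : (a⁻¹ * b⁻¹)⁻¹ = ((a * b)⁻¹)⁻¹ := by rw [h1]
      rw [inv_inv, mul_inv_rev, inv_inv, inv_inv] at h2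
      exact h2.symm
    obtain ⟨x, hx, hxs⟩ := htrC s t hs ht
    refine isPGroup_gen hI C htrC' (x := x) ?_ hs (by rw [hxs]; exact hst.symm)
      (by rw [hxs]; exact hcomm)
    obtain ⟨x0, hx0, rfl⟩ := hx
    rintro _ ⟨c, hc, rfl⟩
    exact congrArg Subtype.val (hCc x0 hx0 c hc)

/-- **Theorem Z** for a class of involutions. -/
theorem theoremZ {I : Set H} (hI : Cls I) (D : Subgroup H) (hD : Odd (Nat.card D))
    (hsol : Group.IsSolvable D)
    (htr : ∀ s t : H, s ∈ I → t ∈ I → ∃ d ∈ D, d * s * d⁻¹ = t)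
    (hpair : ∃ s t : H, s ∈ I ∧ t ∈ I ∧ s ≠ t ∧ Commute s t)
    (hA : ∀ y ∈ D, (orderOf y).Prime → ∀ s t : H, s ∈ I → t ∈ I →
      Commute y s → Commute y t → Commute s t)
    (w : D ≃* D) (hw : ∀ x, w (w x) = x)
    (hK : Nat.card {k : D // w k = k⁻¹} = Nat.card {s : H // s ∈ I})
    (hKtr : ∀ s t : H, s ∈ I → t ∈ I →
      ∃ k : D, w k = k⁻¹ ∧ (k : H) * s * (k : H)⁻¹ = t)
    (hB : ∀ y : D, (orderOf y).Prime → w y = y → ∃ s : H, s ∈ I ∧ Commute (y : H) s) :
    ∀ s t : H, s ∈ I → t ∈ I → Commute s t := by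
  have htr' : ∀ s ∈ I, ∀ t ∈ I, ∃ d ∈ D, d * s * d⁻¹ = t := fun s hs t ht => htr s t hs ht
  have hnt : Nontrivial D := by
    obtain ⟨s, t, hs, ht, hne, -⟩ := hpair
    obtain ⟨d, hd, hds⟩ := htr s t hs ht
    refine ⟨⟨⟨d, hd⟩, 1, fun h => hne ?_⟩⟩
    have hd1 : d = 1 := congrArg Subtype.val h
    rw [← hds, hd1]; group
  obtain ⟨p, R, hp, hR1, hRchar, hRc, hRp⟩ := exists_base hsol
  by_cases h : ∃ s : H, s ∈ I ∧ ∃ x ∈ R, x ≠ 1 ∧ Commute (x : H) s
  · obtain ⟨s0, hs0, x, hx, hx1, hxs⟩ := h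
    refine case_one hI (R := R.map D.subtype) hp (Subgroup.map_subtype_le _) hD htr hA ?_ ?_ ?_ hs0 ?_
    · rintro d hd _ ⟨r, hr, rfl⟩
      exact ⟨⟨d, hd⟩ * r * ⟨d, hd⟩⁻¹, hRchar (MulAut.conj ⟨d, hd⟩) r hr, rfl⟩
    · rintro _ ⟨a, ha, rfl⟩ _ ⟨b, hb, rfl⟩
      exact congrArg Subtype.val (hRc a ha b hb)
    · rintro _ ⟨a, ha, rfl⟩
      show ((a : D) : H) ^ p = 1
      exact_mod_cast congrArg Subtype.val (hRp a ha)
    · intro h
      have h1 : (x : H) ∈ cent (R.map D.subtype) s0 := mem_cent.mpr ⟨⟨x, hx, rfl⟩, hxs⟩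
      rw [h, Subgroup.mem_bot] at h1
      exact hx1 (Subtype.ext h1)
  · push Not at h
    refine allComm_of_isPGroup hI D hD htr' (case_two hI (R := R) hD hpair hA w hw hK hKtr hB hp
      (hRchar w) (fun d x hx => hRchar (MulAut.conj d) x hx) hRc hRp hR1 fun s hs x hx hxs => ?_)
    by_contra hx1
    exact h s hs x hx hx1 hxs

end Finite3

end Cfsg.Agent.StrongEmb.TheoremZClass
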